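import Cfsg.Agent.H826.M23.Inst_m3
import Cfsg.Agent.H837.X4
import Cfsg.Agent.H838.PCoreAbs_m3
import Cfsg.Agent.Lib.PermNetFast
import Cfsg.Agent.Lib.ListFast
import Cfsg.Agent.Prune
set_option linter.all false
prune_inst 0x7f00000000000000000000000000000000000000000000000000000000000000000000000000000000000000000000000000000000000000000000000000000000000000000000000000000000000000003fffffffffffffffffffffffffffbeffbdffffffff
open scoped Cfsg.Agent.FastGrp

/-!
# S5765, the row `Fi23`, the prime 3: kernel computations (helper93)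
-/

set_option autoImplicit false
set_option maxRecDepth 100000
set_option Elab.async false

namespace Cfsg.Agent.SB.SporD.Fi.TD

open Cfsg.Agent.Lib.PermNet Cfsg.Agent.Lib.PermNetOrbit Cfsg.Agent.LThreeFi23 Cfsg.Agent.Fischer.Fi23Hom
open Cfsg.Agent.H826.M23 Cfsg.Agent.H826.M23.Data
open Cfsg.Agent.H837.X1 (eqPt rep)

/-- two words are equal -/
noncomputable def eqW (w w' : List Lt) : Bool := eqPt w w' H837.X1.ptl

/-- the number of fixed points -/
noncomputable def nfW (w : List Lt) : ℕ := Lib.PermNetPat.pc 15 (pattern [(w, false)])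

/-- `α` -/
def wal : List Lt := [.z, .j]
/-- `τ` -/
def wta : List Lt := ([.a] : List Lt) ++ Wl
/-- `β` -/
def wbe : List Lt := [.a, .b]
/-- `x` -/
def wx : List Lt := ([.a] : List Lt) ++ Wk
/-- `y` -/
def wy : List Lt := ([.a] : List Lt) ++ Wm
/-- the conjugate of a word -/
def cj (g w : List Lt) : List Lt := g ++ w ++ g.reverse
/-- an element of class 3C in `Q` -/
def wc0 : List Lt := [.z, .j, .h, .i]
/-- the second centre of the Sylow subgroup -/
def wX : List Lt := cj wbe wx ++ wx.reverse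
/-- an element of `C(ζ)` which maps `⟨τ, u⟩` to the base group -/
def wg : List Lt := [.c, .b, .j, .e, .f, .d, .e, .c, .d, .h, .i, .d, .e, .f, .c, .d, .e, .b, .c, .d, .h, .g, .f, .e, .d, .c, .b, .a, .b, .c, .d, .e, .f, .g, .h, .d, .c, .b, .e, .d, .c, .f, .e, .d, .i, .h, .d, .c, .e, .d, .f, .e, .j, .i, .h, .d, .e, .c, .d, .h, .i, .d, .e, .f, .c, .d, .e, .b, .c, .d, .h, .g, .f, .e, .d, .c, .b, .a, .b, .c, .d, .e, .f, .g, .h, .d, .c, .b, .e, .d, .c, .f, .e, .d, .i, .h, .d, .c, .e, .d, .h, .i, .b, .c]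
/-- an element of order 8 in the stabilizer of the plane -/
def w8 : List Lt := [.a, .e, .f, .d, .e, .f, .h, .j, .i, .d, .h, .e, .d, .c, .b, .d, .c, .e, .d, .c, .g, .f, .e, .h, .d, .e, .f, .g, .j, .g, .f, .e, .c, .d, .h, .i, .c, .d, .h, .d, .e, .f, .g, .d, .e, .c, .d, .b, .c]
/-- an element of order 3 in the stabilizer of the plane -/
def w3 : List Lt := [.c, .b, .a, .d, .c, .b, .e, .d, .c, .f, .e, .d, .i, .h, .d, .e, .f, .c, .d, .e, .b, .c, .d, .a, .b, .c]
/-- the elements of `Q u` -/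
def wh (i j k : ℕ) : List Lt := rep wx i ++ rep wy j ++ rep wz k ++ wu

/-- two copies of a network -/
private noncomputable def dn (N : ℕ) (L : Net) : Net :=
  Net.rec (motive := fun _ => Net) .nil (fun M d _ ih => .cons (Nat.lor M (Nat.shiftLeft M N)) d ih) L

private theorem tau_def (M d p : ℕ) :
    tau M d p = if M.testBit p then p + d else if d ≤ p ∧ M.testBit (p - d) then p - d else p := rfl

private theorem dn_spec {N : ℕ} {L : Net} (h : L.ok N = true) :
    (dn N L).ok (2 * N) = true ∧ ∀ q, (dn N L).perm q = if q < N then L.perm q else N + L.perm (q - N) := by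
  induction L with
  | nil =>
    refine ⟨rfl, fun q => ?_⟩
    show q = if q < N then q else N + (q - N)
    split <;> omega
  | cons M d L ih =>
    obtain ⟨h1, h2, h3⟩ := Net.ok_cons h
    obtain ⟨i1, i2⟩ := ih h3
    have a1 := testBit_and_shift h1
    have a2 : ∀ p, M.testBit p = true → p + d < N := fun p => lt_of_testBit h2
    obtain ⟨K, hK⟩ : ∃ K, K = M ||| M <<< N := ⟨_, rfl⟩
    have b : ∀ q, K.testBit q = true ↔ M.testBit q = true ∨ N ≤ q ∧ M.testBit (q - N) = true := fun q => by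
      rw [hK, Nat.testBit_or, Nat.testBit_shiftLeft, Bool.or_eq_true, Bool.and_eq_true, decide_eq_true_eq]
    have c1 : K &&& (K >>> d) = 0 := by
      refine Nat.eq_of_testBit_eq fun q => ?_
      rw [Nat.testBit_and, Nat.testBit_shiftRight, Nat.zero_testBit, ← Bool.not_eq_true, Bool.and_eq_true, b, b]
      rintro ⟨u | ⟨u, v⟩, x | ⟨x, y⟩⟩
      · rw [Nat.add_comm, a1 q u] at x; cases x
      · have := a2 q u; omega
      · have := a2 _ x; omega
      · rw [show d + q - N = q - N + d by omega, a1 _ v] at y; cases y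
    have c2 : K >>> (2 * N - d) = 0 := by
      refine Nat.eq_of_testBit_eq fun q => ?_
      rw [Nat.testBit_shiftRight, Nat.zero_testBit, ← Bool.not_eq_true, b]
      rintro (u | ⟨u, v⟩)
      · have := a2 _ u; omega
      · have := a2 _ v; omega
    have t1 : ∀ q < N, tau K d q = tau M d q := fun q hq => by
      have e1 : K.testBit q = true ↔ M.testBit q = true := by rw [b]; exact or_iff_left fun x => by omega
      have e2 : K.testBit (q - d) = true ↔ M.testBit (q - d) = true := by rw [b]; exact or_iff_left fun x => by omega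
      simp only [tau_def, e1, e2]
    have t2 : ∀ p, tau K d (N + p) = N + tau M d p := fun p => by
      have e1 : K.testBit (N + p) = true ↔ M.testBit p = true := by
        rw [b, Nat.add_sub_cancel_left]
        exact ⟨fun x => x.elim (fun y => by have := a2 _ y; omega) And.right, fun x => Or.inr ⟨by omega, x⟩⟩
      have e2 : (d ≤ N + p ∧ K.testBit (N + p - d) = true) ↔ (d ≤ p ∧ M.testBit (p - d) = true) := by
        rw [b]
        constructor
        · rintro ⟨x, y | ⟨y, z⟩⟩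
          · have := a2 _ y; omega
          · exact ⟨by omega, by rwa [show N + p - d - N = p - d by omega] at z⟩
        · rintro ⟨x, y⟩
          exact ⟨by omega, Or.inr ⟨by omega, by rwa [show N + p - d - N = p - d by omega]⟩⟩
      simp only [tau_def, e1, e2]
      split_ifs <;> omega
    have e : dn N (.cons M d L) = .cons K d (dn N L) := by rw [hK]; rfl
    rw [e]
    refine ⟨?_, fun q => ?_⟩
    · show and (and (Nat.beq (K &&& (K >>> d)) 0) (Nat.beq (K >>> (2 * N - d)) 0)) ((dn N L).ok (2 * N)) = true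
      rw [c1, c2, i1]; rfl
    · rw [Net.perm_cons, Net.perm_cons, Equiv.Perm.mul_apply, Equiv.Perm.mul_apply, Equiv.Perm.mul_apply,
        stagePerm_apply c1, stagePerm_apply h1, stagePerm_apply h1, i2]
      split
      · next hq => exact t1 _ (perm_lt h3 hq)
      · exact t2 _

private theorem tb_mor (l : List ℕ) (p : ℕ) : (mor l).testBit p = true ↔ p ∈ l := by
  induction l with
  | nil => exact ⟨fun h => absurd ((Nat.zero_testBit p).symm.trans h) (by simp), fun h => by cases h⟩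
  | cons q l ih =>
    show (2 ^ q ||| mor l).testBit p = true ↔ _
    rw [Nat.testBit_or, Bool.or_eq_true, ih, Nat.testBit_two_pow, decide_eq_true_eq, List.mem_cons, eq_comm]

/-- `2 ^ t` copies of a network -/
private noncomputable def dnn (L : Net) (t : ℕ) : Net :=
  Nat.rec (motive := fun _ => Net) L (fun k ih => dn (Nat.shiftLeft 32768 k) ih) t

private theorem dnn_spec {L : Net} (h : L.ok 32768 = true) (t : ℕ) : (dnn L t).ok (32768 * 2 ^ t) = true ∧
    ∀ j < 2 ^ t, ∀ q < 32768, (dnn L t).perm (32768 * j + q) = 32768 * j + L.perm q := by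
  induction t with
  | zero => exact ⟨h, fun j hj q _ => by rw [show j = 0 by omega, Nat.mul_zero, Nat.zero_add, Nat.zero_add]; rfl⟩
  | succ t ih =>
    obtain ⟨a1, a2⟩ := dn_spec ih.1
    have e : dnn L (t + 1) = dn (32768 * 2 ^ t) (dnn L t) := by rw [← Nat.shiftLeft_eq]; rfl
    rw [e, pow_succ]
    generalize 2 ^ t = m at *
    refine ⟨by rwa [show 32768 * (m * 2) = 2 * (32768 * m) by omega], fun j hj q hq => ?_⟩
    rw [a2]
    split
    · exact ih.2 j (by omega) q hq
    · rw [show 32768 * j + q - 32768 * m = 32768 * (j - m) + q by omega, ih.2 _ (by omega) q hq]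
      omega

/-- copies of the networks of a word -/
private noncomputable def qw (t : ℕ) (w : List Lt) : List Net :=
  List.rec (motive := fun _ => List Net) [] (fun x _ ih => dnn (nt x) t :: ih) w

private theorem qw_spec (t : ℕ) (w : List Lt) : WOk (32768 * 2 ^ t) (qw t w) ∧
    ∀ j < 2 ^ t, ∀ p < 31671, wperm (qw t w) (32768 * j + p) = 32768 * j + rho (elw w) p := by
  induction w with
  | nil => exact ⟨WOk.nil _, fun j _ p _ => by rw [elw_nil, map_one]; rfl⟩
  | cons x w ih =>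
    obtain ⟨a1, a2⟩ := dnn_spec (nt_ok x) t
    refine ⟨WOk.cons a1 ih.1, fun j hj p hp => ?_⟩
    show wperm (dnn (nt x) t :: qw t w) _ = _
    rw [wperm_cons, Equiv.Perm.mul_apply, ih.2 j hj p hp, elw_cons, map_mul, Equiv.Perm.mul_apply, rho_el,
      a2 j hj _ ((act_lt (elw w) hp).trans (by norm_num))]

private theorem tb_qw (t : ℕ) (w : List Lt) (P : ℕ) {j p : ℕ} (hj : j < 2 ^ t) (hp : p < 31671) :
    (appWord (qw t w) P).testBit (32768 * j + p) = P.testBit (32768 * j + rho (elw w) p) := by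
  rw [testBit_appWord (qw_spec t w).1, (qw_spec t w).2 j hj p hp]

/-- the planes side by side -/
private noncomputable def pls (n : ℕ) : ℕ :=
  Nat.rec (motive := fun _ => ℕ) 0
    (fun j ih => Nat.lor ih (Nat.shiftLeft (Lib.PermNet.plane 15 j) (Nat.mul 32768 j))) n

private theorem pls_spec (n : ℕ) (hn : n ≤ 15) : (∀ x, 32768 * n ≤ x → (pls n).testBit x = false) ∧
    ∀ j < n, ∀ q < 32768, (pls n).testBit (32768 * j + q) = (Lib.PermNet.plane 15 j).testBit q := by
  induction n with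
  | zero => exact ⟨fun x _ => Nat.zero_testBit x, fun j hj => by omega⟩
  | succ n ih =>
    obtain ⟨i1, i2⟩ := ih (by omega)
    have e : ∀ x, (pls (n + 1)).testBit x = ((pls n).testBit x ||
        (decide (x ≥ 32768 * n) && (Lib.PermNet.plane 15 n).testBit (x - 32768 * n))) := fun x => by
      rw [← Nat.testBit_shiftLeft, ← Nat.testBit_or]; rfl
    refine ⟨fun x hx => ?_, fun j hj q hq => ?_⟩
    · rw [e, i1 x (by omega), testBit_plane_of_le 15 n _ (by omega) (by omega), Bool.and_false]; rfl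
    · rw [e]
      rcases Nat.lt_succ_iff_lt_or_eq.1 hj with h | rfl
      · rw [i2 j h q hq, decide_eq_false (by omega), Bool.false_and, Bool.or_false]
      · rw [i1 _ (by omega), decide_eq_true (by omega), Nat.add_sub_cancel_left, Bool.true_and, Bool.false_or]

/-- the union of the parts -/
private noncomputable def uni (X n : ℕ) : ℕ :=
  Nat.rec (motive := fun _ => ℕ) 0 (fun j ih => Nat.lor ih (Nat.shiftRight X (Nat.mul 32768 j))) n

private theorem uni_spec (X n p : ℕ) : (uni X n).testBit p = true ↔ ∃ j < n, X.testBit (32768 * j + p) = true := by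
  induction n with
  | zero => exact ⟨fun h => absurd ((Nat.zero_testBit p).symm.trans h) (by simp), fun ⟨j, hj, _⟩ => by omega⟩
  | succ n ih =>
    show (uni X n ||| X >>> (32768 * n)).testBit p = true ↔ _
    rw [Nat.testBit_or, Bool.or_eq_true, ih, Nat.testBit_shiftRight, Nat.exists_lt_succ_right]

/-- the number of fixed points -/
private noncomputable def nf16 (w : List Lt) : ℕ :=
  Lib.PermNetPat.pc 15 (Nat.xor full (Nat.land full (uni (Nat.xor (appWord (qw 4 w) (pls 15)) (pls 15)) 15)))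

private theorem nf16_eq (w : List Lt) : nfW w = nf16 w := by
  have h : full &&& Lib.PermNetFix.movedAux 15 (ntw w) 15 =
      full &&& uni (appWord (qw 4 w) (pls 15) ^^^ pls 15) 15 := by
    refine Nat.eq_of_testBit_eq fun p => ?_
    rw [Nat.testBit_and, Nat.testBit_and]
    cases hp : full.testBit p
    · rfl
    · have h1 := (testBit_full p).1 hp
      have h2 := act_lt (elw w) h1
      rw [Bool.true_and, Bool.true_and, Bool.eq_iff_iff, Lib.PermNetFix.testBit_movedAux (ntw_ok w), uni_spec,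
        ← rho_elw]
      refine exists_congr fun j => and_congr_right fun hj => ?_
      rw [Nat.testBit_xor, tb_qw 4 w _ (by omega) h1, (pls_spec 15 le_rfl).2 j hj _ (by omega),
        (pls_spec 15 le_rfl).2 j hj _ (by omega), Bool.xor_iff_ne]
  show Lib.PermNetPat.pc 15 (pattern [(w, false)]) = _
  rw [pattern_cons_false]
  exact congrArg (fun x => Lib.PermNetPat.pc 15 (full ^^^ x)) h

/-- the copy `c` -/
private noncomputable def cp (c : ℕ) : ℕ := Nat.shiftLeft full (Nat.mul 32768 c)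

private theorem tb_cp {c j p : ℕ} (hp : p < 31671) : (cp c).testBit (32768 * j + p) = decide (j = c) := by
  show (full <<< (32768 * c)).testBit _ = _
  rw [Nat.testBit_shiftLeft, Bool.eq_iff_iff, Bool.and_eq_true, testBit_full, decide_eq_true_eq, decide_eq_true_eq]
  omega

/-- the word `x ^ c w` acts on the copy `c` -/
private noncomputable def st3 (w : List Lt) (S : ℕ) : ℕ :=
  appWord (qw 2 w) (Nat.lor (Nat.lor (Nat.land S (cp 0)) (Nat.land (appWord (qw 2 wx) S) (cp 1)))
    (Nat.land (appWord (qw 2 wx) (appWord (qw 2 wx) S)) (cp 2)))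

private theorem st3_spec (w : List Lt) (S : ℕ) {c p : ℕ} (hc : c < 3) (hp : p < 31671) :
    (st3 w S).testBit (32768 * c + p) = S.testBit (32768 * c + rho (elw wx ^ c * elw w) p) := by
  have h1 := act_lt (elw w) hp
  have h2 := act_lt (elw wx) h1
  show (appWord (qw 2 w) ((S &&& cp 0 ||| appWord (qw 2 wx) S &&& cp 1) |||
    appWord (qw 2 wx) (appWord (qw 2 wx) S) &&& cp 2)).testBit _ = _
  rw [tb_qw 2 w _ (by omega) hp, Nat.testBit_or, Nat.testBit_or, Nat.testBit_and, Nat.testBit_and, Nat.testBit_and,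
    tb_cp h1, tb_cp h1, tb_cp h1, tb_qw 2 wx _ (by omega) h1, tb_qw 2 wx _ (by omega) h1, tb_qw 2 wx _ (by omega) h2,
    map_mul, Equiv.Perm.mul_apply]
  obtain rfl | rfl | rfl : c = 0 ∨ c = 1 ∨ c = 2 := by omega
  · rw [pow_zero, map_one]; simp
  · rw [pow_one]; simp
  · rw [pow_two, map_mul, Equiv.Perm.mul_apply]; simp

private theorem nine_of {j : ℕ} (h : Nat.beq (Nat.land (mor [0, 32768, 65536]) (st3 (rep wy j ++ wu) (st3 (rep wy j ++ wu)
    (st3 (rep wy j ++ wu) (mor [0, 32768, 65536]))))) 0 = true) {c : ℕ} (hc : c < 3) :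
    mvl (rep (wh c j 0) 3) [0] = true := by
  have er : ∀ (w : List Lt) (k : ℕ), elw (rep w k) = elw w ^ k := fun w k => by
    induction k with
    | zero => rw [pow_zero]; rfl
    | succ k ih => rw [pow_succ', ← ih, ← elw_append]; rfl
  have e : elw (wh c j 0) = elw wx ^ c * elw (rep wy j ++ wu) := by
    show elw (rep wx c ++ rep wy j ++ rep wz 0 ++ wu) = _
    rw [elw_append, elw_append, elw_append, elw_append, er wz, er wx, pow_zero, mul_one, mul_assoc]
  have h1 : (mor [0, 32768, 65536] &&& _).testBit (32768 * c + 0) = _ :=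
    congrArg (fun x => Nat.testBit x (32768 * c + 0)) (Nat.eq_of_beq_eq_true h)
  have h2 : (mor [0, 32768, 65536]).testBit (32768 * c + 0) = true := (tb_mor _ _).2 (by simp; omega)
  have p0 : 0 < 31671 := by norm_num
  rw [Nat.testBit_and, st3_spec _ _ hc p0, st3_spec _ _ hc (act_lt _ p0), st3_spec _ _ hc (act_lt _ (act_lt _ p0)),
    h2, ← e, ← Equiv.Perm.mul_apply, ← Equiv.Perm.mul_apply, ← map_mul, ← map_mul, ← pow_three', ← er, ← ptw_eq] at h1
  show and (Bool.rec true false (Nat.beq (ptw (rep (wh c j 0) 3) 0) 0)) true = true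
  cases hb : Nat.beq (ptw (rep (wh c j 0) 3) 0) 0
  · rfl
  · rw [Nat.eq_of_beq_eq_true hb, h2] at h1
    exact absurd h1 (by simp)

/-- the points of the letters, with labels in four planes -/
private def lab : List ℕ := [11589, 8003, 8001, 8005, 8007, 0, 40772, 40771, 40770, 40773, 40774, 32768,
  73536, 73537, 73538, 73541, 106303, 106311, 106310, 98304]

private theorem lab_inj : ∀ q ∈ H837.X1.ptl, ∃ j < 4, 32768 * j + q ∈ lab ∧ ∀ r ∈ lab, r / 32768 = j →
    (∀ i < 4, 32768 * i + r % 32768 ∈ lab ↔ 32768 * i + q ∈ lab) → r % 32768 = q := by (refine of_decide_eq_true ?_; (try (rewrite [Cfsg.Agent.LsF.dMemE_pat, Cfsg.Agent.LsF.nadd_pat, Cfsg.Agent.LsF.nmul_pat, Cfsg.Agent.LsF.ndiv_pat, Cfsg.Agent.LsF.nmod_pat, Cfsg.Agent.LsF.instDecEq_eq, Cfsg.Agent.LsF.dAnd_eq, Cfsg.Agent.LsF.dBAll_eq, Cfsg.Agent.LsF.dBallLT_eq, Cfsg.Agent.LsF.dExistsLT_eq, Cfsg.Agent.LsF.dAllP_eq, Cfsg.Agent.LsF.dIffI_eq, Cfsg.Agent.LsF.decide_eq])); decide +kernel)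

/-- two words agree on the labels -/
private noncomputable def eq4 (w w' : List Lt) : Bool :=
  Nat.beq (appWord (qw 2 w) (mor lab)) (appWord (qw 2 w') (mor lab))

private theorem eq4_spec {w w' : List Lt} (h : eq4 w w' = true) : eqW w w' = true := by
  have h1 := Nat.eq_of_beq_eq_true h
  have h2 : ∀ j < 4, ∀ p < 31671, 32768 * j + rho (elw w) p ∈ lab ↔ 32768 * j + rho (elw w') p ∈ lab := by
    intro j hj p hp
    rw [← tb_mor, ← tb_mor, ← tb_qw 2 w _ hj hp, ← tb_qw 2 w' _ hj hp, h1]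
  have h3 : elw w * (elw w')⁻¹ = 1 := comm_of_fix_pt fun x => by
    have hp := act_lt (elw w')⁻¹ (pt_lt x)
    have e : rho (elw w') (rho (elw w')⁻¹ (pt x)) = pt x := by
      rw [← Equiv.Perm.mul_apply, ← map_mul, mul_inv_cancel, map_one]; rfl
    have h4 := fun j hj => h2 j hj _ hp
    have hq := act_lt (elw w) hp
    rw [map_mul, Equiv.Perm.mul_apply]
    rw [e] at h4
    generalize rho (elw w) (rho (elw w')⁻¹ (pt x)) = r at h4 hq
    obtain ⟨j, hj, a, b⟩ := lab_inj _ (H837.X1.pt_mem x)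
    have e1 : (32768 * j + r) % 32768 = r := by omega
    have := b _ ((h4 j hj).2 a) (by omega) (by rw [e1]; exact h4)
    rwa [e1] at this
  have h5 : ∀ l, eqPt w w' l = true := fun l => by
    induction l with
    | nil => rfl
    | cons p l ih => rw [H837.X1.eqPt_cons, ptw_eq, ptw_eq, mul_inv_eq_one.1 h3, Nat.beq_refl]; exact ih
  exact h5 _

theorem al3 : eqW (rep wal 3) [] = true := eq4_spec (by decide +kernel)
private noncomputable def _root_.Cfsg.Agent.LsF.fb98713_0 : {f // @Cfsg.Agent.Lib.PermNet.Net.ok = f} := ⟨_, by first | (delta Cfsg.Agent.Lib.PermNet.Net.ok; rewrite [Cfsg.Agent.LsF.and_eq]; exact rfl) | exact rfl⟩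
private noncomputable def _root_.Cfsg.Agent.LsF.fb98713_1 : {f // @Cfsg.Agent.Lib.PermNetFast.kOf = f} := ⟨_, by first | (delta Cfsg.Agent.Lib.PermNetFast.kOf; rewrite [Cfsg.Agent.LsF.fb98713_0.2]; exact rfl) | exact rfl⟩
private noncomputable def _root_.Cfsg.Agent.LsF.fb98713_2 : {f // @Cfsg.Agent.Lib.PermNetFast.tabI = f} := ⟨_, by first | (delta Cfsg.Agent.Lib.PermNetFast.tabI; rewrite [Cfsg.Agent.LsF.fb98713_1.2]; exact rfl) | exact rfl⟩
private noncomputable def _root_.Cfsg.Agent.LsF.fb98713_3 : {f // @Cfsg.Agent.Lib.PermNetFast.good = f} := ⟨_, by first | (delta Cfsg.Agent.Lib.PermNetFast.good; rewrite [Cfsg.Agent.LsF.fb98713_1.2, Cfsg.Agent.LsF.fb98713_0.2]; exact rfl) | exact rfl⟩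
private noncomputable def _root_.Cfsg.Agent.LsF.fb98713_4 : {f // @Cfsg.Agent.Lib.PermNetFast.invF = f} := ⟨_, by first | (delta Cfsg.Agent.Lib.PermNetFast.invF; rewrite [Cfsg.Agent.LsF.fb98713_2.2, Cfsg.Agent.LsF.fb98713_3.2]; exact rfl) | exact rfl⟩
private noncomputable def _root_.Cfsg.Agent.LsF.fb98713_5 : {f // @Cfsg.Agent.Lib.PermNetFast.winvF = f} := ⟨_, by first | (delta Cfsg.Agent.Lib.PermNetFast.winvF; rewrite [Cfsg.Agent.LsF.fb98713_4.2]; exact rfl) | exact rfl⟩
private noncomputable def _root_.Cfsg.Agent.LsF.fb98713_6 : {f // @Cfsg.Agent.Lib.PermNetFast.wokB = f} := ⟨_, by first | (delta Cfsg.Agent.Lib.PermNetFast.wokB; rewrite [Cfsg.Agent.LsF.fb98713_0.2]; exact rfl) | exact rfl⟩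
private noncomputable def _root_.Cfsg.Agent.LsF.fb98713_7 : {f // @Cfsg.Agent.Lib.PermNetFast.appS = f} := ⟨_, by first | (delta Cfsg.Agent.Lib.PermNetFast.appS; rewrite [Cfsg.Agent.LsF.fb98713_5.2, Cfsg.Agent.LsF.fb98713_6.2]; exact rfl) | exact rfl⟩
private noncomputable def _root_.Cfsg.Agent.LsF.fb98713_8 : {f // @Cfsg.Agent.H837.X1.rep = f} := ⟨_, by first | (delta Cfsg.Agent.H837.X1.rep; rewrite [Cfsg.Agent.LsF.flatten_eq, Cfsg.Agent.LsF.replicate_eq]; exact rfl) | exact rfl⟩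
private noncomputable def _root_.Cfsg.Agent.LsF.fb98713_9 : {f // @Cfsg.Agent.H826.M23.cw = f} := ⟨_, by first | (delta Cfsg.Agent.H826.M23.cw; rewrite [Cfsg.Agent.LsF.lappend_pat, Cfsg.Agent.LsF.reverse_eq]; exact rfl) | exact rfl⟩
private noncomputable def _root_.Cfsg.Agent.LsF.fb98713_10 : {f // @Cfsg.Agent.H826.M23.Data.Wl = f} := ⟨_, by first | (delta Cfsg.Agent.H826.M23.Data.Wl; rewrite [Cfsg.Agent.LsF.fb98713_9.2]; exact rfl) | exact rfl⟩
private noncomputable def _root_.Cfsg.Agent.LsF.fb98713_11 : {f // @Cfsg.Agent.SB.SporD.Fi.TD.wta = f} := ⟨_, by first | (delta Cfsg.Agent.SB.SporD.Fi.TD.wta; rewrite [Cfsg.Agent.LsF.fb98713_10.2, Cfsg.Agent.LsF.lappend_pat]; exact rfl) | exact rfl⟩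
theorem ta3 : eqW (rep wta 3) [] = true := eq4_spec (by (rewrite [show @Cfsg.Agent.SB.SporD.Fi.TD.eq4 = delta% @Cfsg.Agent.SB.SporD.Fi.TD.eq4 from by delta Cfsg.Agent.SB.SporD.Fi.TD.eq4; rfl, Cfsg.Agent.Lib.PermNetFast.appWord_fast]; ((try (rewrite [Cfsg.Agent.LsF.fb98713_7.2, Cfsg.Agent.LsF.fb98713_8.2, Cfsg.Agent.LsF.fb98713_11.2])); decide +kernel)))
private noncomputable def _root_.Cfsg.Agent.LsF.fb98713_12 : {f // @Cfsg.Agent.SB.SporD.Fi.TD.cj = f} := ⟨_, by first | (delta Cfsg.Agent.SB.SporD.Fi.TD.cj; rewrite [Cfsg.Agent.LsF.lappend_pat, Cfsg.Agent.LsF.reverse_eq]; exact rfl) | exact rfl⟩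
theorem al_com : eqW (wal ++ cj wta wal) (cj wta wal ++ wal) = true := eq4_spec (by ((try (rewrite [Cfsg.Agent.LsF.fb98713_12.2, Cfsg.Agent.LsF.fb98713_11.2, Cfsg.Agent.LsF.lappend_pat])); decide +kernel))
theorem al_z : eqW (wal ++ wz) (wz ++ wal) = true := eq4_spec (by decide +kernel)
theorem u_eq : eqW (rep (wal ++ wta) 3 ++ wu) [] = true := eq4_spec (by ((try (rewrite [Cfsg.Agent.LsF.fb98713_8.2, Cfsg.Agent.LsF.fb98713_11.2, Cfsg.Agent.LsF.lappend_pat])); decide +kernel))
theorem be_eq : eqW (wta ++ wal ++ wta ++ wal ++ wal ++ wta) wbe = true := eq4_spec (by ((try (rewrite [Cfsg.Agent.LsF.fb98713_11.2, Cfsg.Agent.LsF.lappend_pat])); decide +kernel))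
theorem u_im : im4 wu 11589 4524 6631 8003 = true := by (rewrite [show @Cfsg.Agent.H826.M23.Data.im4 = delta% @Cfsg.Agent.H826.M23.Data.im4 from by delta Cfsg.Agent.H826.M23.Data.im4; rfl, show @Cfsg.Agent.LThreeFi23.ptw = delta% @Cfsg.Agent.LThreeFi23.ptw from by delta Cfsg.Agent.LThreeFi23.ptw; rfl, Cfsg.Agent.Lib.PermNetFast.ptWord_fast]; decide +kernel)
theorem al_im : im4 wal 11589 8003 4524 6631 = true := by decide +kernel
theorem c0_eq : eqW (cj v2 wx ++ cj v3 wx.reverse ++ wz) wc0 = true := eq4_spec (by decide +kernel)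
theorem c0_al : eqW (wal ++ wc0) (wc0 ++ wal) = true := eq4_spec (by decide +kernel)
theorem c0_be : eqW (wbe ++ wc0) (wc0 ++ wbe) = true := eq4_spec (by decide +kernel)
theorem X_be : eqW (wbe ++ wX) (wX ++ wbe) = true := eq4_spec (by decide +kernel)
theorem X_u : eqW (wu ++ wX) (wX ++ wu) = true := eq4_spec (by decide +kernel)
theorem x_al : eqW (wal ++ wx) (wx ++ wal) = true := eq4_spec (by decide +kernel)
private noncomputable def _root_.Cfsg.Agent.LsF.fb98713_19 : {f // @Cfsg.Agent.H826.M23.Data.Wk = f} := ⟨_, by first | (delta Cfsg.Agent.H826.M23.Data.Wk; rewrite [Cfsg.Agent.LsF.fb98713_9.2]; exact rfl) | exact rfl⟩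
private noncomputable def _root_.Cfsg.Agent.LsF.fb98713_20 : {f // @Cfsg.Agent.SB.SporD.Fi.TD.wx = f} := ⟨_, by first | (delta Cfsg.Agent.SB.SporD.Fi.TD.wx; rewrite [Cfsg.Agent.LsF.fb98713_19.2, Cfsg.Agent.LsF.lappend_pat]; exact rfl) | exact rfl⟩
theorem x_u : eqW (wu ++ wx) (wx ++ wu) = true := eq4_spec (by ((try (rewrite [Cfsg.Agent.LsF.fb98713_20.2, Cfsg.Agent.LsF.lappend_pat])); decide +kernel))
private noncomputable def _root_.Cfsg.Agent.LsF.fb98713_14 : {f // @Cfsg.Agent.Lib.PermNetFast.tabF = f} := ⟨_, by first | (delta Cfsg.Agent.Lib.PermNetFast.tabF; rewrite [Cfsg.Agent.LsF.fb98713_1.2]; exact rfl) | exact rfl⟩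
private noncomputable def _root_.Cfsg.Agent.LsF.fb98713_15 : {f // @Cfsg.Agent.Lib.PermNetFast.ptF = f} := ⟨_, by first | (delta Cfsg.Agent.Lib.PermNetFast.ptF; rewrite [Cfsg.Agent.LsF.fb98713_14.2, Cfsg.Agent.LsF.fb98713_3.2]; exact rfl) | exact rfl⟩
private noncomputable def _root_.Cfsg.Agent.LsF.fb98713_16 : {f // @Cfsg.Agent.Lib.PermNetFast.ptWordF = f} := ⟨_, by first | (delta Cfsg.Agent.Lib.PermNetFast.ptWordF; rewrite [Cfsg.Agent.LsF.fb98713_15.2]; exact rfl) | exact rfl⟩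
private noncomputable def _root_.Cfsg.Agent.LsF.fb98713_23 : {f // @Cfsg.Agent.SB.SporD.Fi.TD.wX = f} := ⟨_, by first | (delta Cfsg.Agent.SB.SporD.Fi.TD.wX; rewrite [Cfsg.Agent.LsF.fb98713_12.2, Cfsg.Agent.LsF.fb98713_20.2, Cfsg.Agent.LsF.lappend_pat, Cfsg.Agent.LsF.reverse_eq]; exact rfl) | exact rfl⟩
private noncomputable def _root_.Cfsg.Agent.LsF.fb98713_24 : {f // @Cfsg.Agent.H826.M23.Data.Wm = f} := ⟨_, by first | (delta Cfsg.Agent.H826.M23.Data.Wm; rewrite [Cfsg.Agent.LsF.fb98713_9.2]; exact rfl) | exact rfl⟩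
private noncomputable def _root_.Cfsg.Agent.LsF.fb98713_25 : {f // @Cfsg.Agent.SB.SporD.Fi.TD.wy = f} := ⟨_, by first | (delta Cfsg.Agent.SB.SporD.Fi.TD.wy; rewrite [Cfsg.Agent.LsF.fb98713_24.2, Cfsg.Agent.LsF.lappend_pat]; exact rfl) | exact rfl⟩
theorem pts : H838.Three.ptsChk [(wX, 11589, 11589), (wX, 8003, 707), (wX, 707, 494), (wx, 11589, 2322), (wx, 2322, 1698),
    (wx, 8003, 8003), (wbe, 6526, 8003), (wx, 6526, 993), (cj [.c, .b] wx, 8004, 8004), (cj [.c, .b] wy, 8004, 8004),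
    (wbe, 11589, 8004), (w8, 0, 820)] = true := by (rewrite [show @Cfsg.Agent.H838.Three.ptsChk = delta% @Cfsg.Agent.H838.Three.ptsChk from by delta Cfsg.Agent.H838.Three.ptsChk; rfl, show @Cfsg.Agent.LThreeFi23.ptw = delta% @Cfsg.Agent.LThreeFi23.ptw from by delta Cfsg.Agent.LThreeFi23.ptw; rfl, Cfsg.Agent.Lib.PermNetFast.ptWord_fast]; ((try (rewrite [Cfsg.Agent.LsF.fb98713_16.2, Cfsg.Agent.LsF.fb98713_23.2, Cfsg.Agent.LsF.fb98713_20.2, Cfsg.Agent.LsF.fb98713_12.2, Cfsg.Agent.LsF.fb98713_25.2, Cfsg.Agent.LsF.all_eq])); decide +kernel))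
theorem g_ta : eqW (wg ++ wta) (wbe ++ wu ++ wg) = true := eq4_spec (by ((try (rewrite [Cfsg.Agent.LsF.fb98713_11.2, Cfsg.Agent.LsF.lappend_pat])); decide +kernel))
theorem g_u : eqW (wg ++ wu) (wu ++ wg) = true := eq4_spec (by ((try (rewrite [Cfsg.Agent.LsF.lappend_pat])); decide +kernel))
theorem g_z : eqW (wg ++ wz) (wz ++ wg) = true := eq4_spec (by decide +kernel)
theorem nine : ([0, 1, 2].all fun i => [1, 2].all fun j => mvl (rep (wh i j 0) 3) [0]) = true := by
  have h1 := @nine_of 1 (by (rewrite [show @Cfsg.Agent.SB.SporD.Fi.TD.st3 = delta% @Cfsg.Agent.SB.SporD.Fi.TD.st3 from by delta Cfsg.Agent.SB.SporD.Fi.TD.st3; rfl, Cfsg.Agent.Lib.PermNetFast.appWord_fast]; ((try (rewrite [Cfsg.Agent.LsF.fb98713_7.2, Cfsg.Agent.LsF.fb98713_20.2, Cfsg.Agent.LsF.fb98713_8.2, Cfsg.Agent.LsF.fb98713_25.2, Cfsg.Agent.LsF.lappend_pat])); decide +kernel)))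
  have h2 := @nine_of 2 (by (rewrite [show @Cfsg.Agent.SB.SporD.Fi.TD.st3 = delta% @Cfsg.Agent.SB.SporD.Fi.TD.st3 from by delta Cfsg.Agent.SB.SporD.Fi.TD.st3; rfl, Cfsg.Agent.Lib.PermNetFast.appWord_fast]; ((try (rewrite [Cfsg.Agent.LsF.fb98713_7.2, Cfsg.Agent.LsF.fb98713_20.2, Cfsg.Agent.LsF.fb98713_8.2, Cfsg.Agent.LsF.fb98713_25.2, Cfsg.Agent.LsF.lappend_pat])); decide +kernel)))
  simp only [List.all_cons, List.all_nil, Bool.and_true, Bool.and_eq_true]
  exact ⟨⟨h1 (by norm_num), h2 (by norm_num)⟩, ⟨h1 (by norm_num), h2 (by norm_num)⟩, h1 (by norm_num), h2 (by norm_num)⟩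
theorem p0 : Nat.beq (patM wz [([], .c, false), (rp, .a, false), (rq, .a, false), ([], .z, false), ([], .j, false)])
    (mor [1698, 2322, 4524, 6631, 8003, 11589]) = true := by decide +kernel
theorem p1 : Nat.beq (patM wz [([], .a, false), (rp, .a, false), (rq, .a, false), ([], .z, false), ([], .j, false)])
    (mor [494, 707, 4524, 6631, 8003, 11589]) = true := by decide +kernel

private noncomputable def _root_.Cfsg.Agent.LsF.fb98713_26 : {f // @Cfsg.Agent.SB.SporD.Fi.TD.wh = f} := ⟨_, by first | (delta Cfsg.Agent.SB.SporD.Fi.TD.wh; rewrite [Cfsg.Agent.LsF.fb98713_8.2, Cfsg.Agent.LsF.fb98713_20.2, Cfsg.Agent.LsF.fb98713_25.2, Cfsg.Agent.LsF.lappend_pat]; exact rfl) | exact rfl⟩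
theorem nf0 : Nat.beq (nfW (wh 0 0 2)) 135 = true := by rw [nf16_eq]; ((try (rewrite [Cfsg.Agent.LsF.fb98713_26.2])); decide +kernel)
theorem nf1 : Nat.beq (nfW (wh 1 0 1)) 135 = true := by rw [nf16_eq]; decide +kernel
theorem nf2 : Nat.beq (nfW (wh 2 0 1)) 135 = true := by rw [nf16_eq]; decide +kernel
theorem nfc : Nat.beq (nfW wc0) 135 = true := by decide +kernel
theorem nfA : Nat.beq (nfW wal) 351 = true := by decide +kernel
theorem nfB : Nat.beq (nfW H838.Three.y324) 324 = true := by decide +kernel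
theorem nfD : Nat.beq (nfW H838.Three.y27) 27 = true := by decide +kernel

/-- the orbit of `a` -/
noncomputable def O1 : ℕ := orbM [wx, wy, wbe, wta] 11589 2
/-- the orbit of `c` -/
noncomputable def O2 : ℕ := orbM [cj v1 wx, cj v1 wy, wu, wbe, wta] 8003 3

private noncomputable def _root_.Cfsg.Agent.LsF.fb98713_27 : {f // @Cfsg.Agent.SB.SporD.Fi.TD.O1 = f} := ⟨_, by first | (delta Cfsg.Agent.SB.SporD.Fi.TD.O1; rewrite [Cfsg.Agent.LsF.fb98713_20.2, Cfsg.Agent.LsF.fb98713_25.2, Cfsg.Agent.LsF.fb98713_11.2]; exact rfl) | exact rfl⟩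
private noncomputable def _root_.Cfsg.Agent.LsF.fb98713_28 : {f // @Cfsg.Agent.SB.SporD.Fi.TD.O2 = f} := ⟨_, by first | (delta Cfsg.Agent.SB.SporD.Fi.TD.O2; rewrite [Cfsg.Agent.LsF.fb98713_12.2, Cfsg.Agent.LsF.fb98713_20.2, Cfsg.Agent.LsF.fb98713_25.2, Cfsg.Agent.LsF.fb98713_11.2]; exact rfl) | exact rfl⟩
theorem orb : Nat.beq (Nat.lor O1 O2) (pattern [(wz, false)]) = true := by ((try (rewrite [Cfsg.Agent.LsF.fb98713_27.2, Cfsg.Agent.LsF.fb98713_28.2])); decide +kernel)
theorem orb2 : Nat.beq (Lib.PermNetPat.pc 15 O2) 243 = true := by decide +kernel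
theorem orb0 : Nat.beq (orbM [cj [.c, .b] wx, cj [.c, .b] wy] 11589 2)
    (mor [1698, 2322, 11589, 27862, 27899, 28454, 28628, 28932, 29489]) = true := by decide +kernel

theorem plane : closedB (ntws [w8, w3]) (pattern [(wz, false), (wX, false)]) = true := by (rewrite [show @Cfsg.Agent.LThreeFi23.pattern = delta% @Cfsg.Agent.LThreeFi23.pattern from by delta Cfsg.Agent.LThreeFi23.pattern; rfl, show @Cfsg.Agent.Lib.PermNetOrbit.closedB = delta% @Cfsg.Agent.Lib.PermNetOrbit.closedB from by delta Cfsg.Agent.Lib.PermNetOrbit.closedB; rfl, Cfsg.Agent.Lib.PermNetFast.moved_fast, Cfsg.Agent.Lib.PermNetFast.appWord_fast]; decide +kernel)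
theorem o8 : eqW (rep w8 8) [] = true := eq4_spec (by decide +kernel)
theorem o3 : eqW (rep w3 3) [] = true := eq4_spec (by decide +kernel)
private theorem eqW_pt {w w' : List Lt} (h : (H837.X1.ptl.all fun p => Nat.beq (ptWord (ntw w) p) (ptWord (ntw w') p)) = true) :
    eqW w w' = true := by
  unfold eqW
  generalize H837.X1.ptl = l at h ⊢
  induction l with
  | nil => rfl
  | cons p l ih =>
    rw [List.all_cons, Bool.and_eq_true] at h
    rw [H837.X1.eqPt_cons, show Nat.beq (ptw w p) (ptw w' p) = true from h.1]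
    exact ih h.2

theorem o13 : eqW (rep (w8 ++ w3) 13) [] = true :=
  eqW_pt (by rewrite [Cfsg.Agent.Lib.PermNetFast.ptWord_fast]; decide +kernel)

end Cfsg.Agent.SB.SporD.Fi.TD
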