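import Cfsg.Agent.KFacts.RgdRigid
import Cfsg.Agent.KFacts.RgdVJ
import Cfsg.Agent.KFacts.RgdCharP
import Mathlib
import Cfsg.Agent.TAB.F22.FxB_m3
import Cfsg.Agent.H938.Rank_m3
import Cfsg.Agent.Lib.NilpotentCoprime
import Cfsg.Agent.KFacts.RgdField
import Cfsg.Agent.H939.RgdV
import Cfsg.Agent.KFacts.RgdLieCharP
import Cfsg.Agent.KFacts.RgdChevCoord
import Cfsg.Agent.Mrg.ParSys.Fam.D4
import Cfsg.Agent.ChevalleyStructure.B2Sp4
import Cfsg.Agent.SB.Fr.Main_m3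
import Cfsg.Agent.OddHalf.NI.Mult.Torus
import Cfsg.Agent.SB.Mon.F24.Vec_m3
import Cfsg.Agent.S4374
import Cfsg.Agent.H233.B3.Row2
import Cfsg.Agent.Lib.MinNormalNonabelian
import Cfsg.Prelude.Def_RootSubgroups
import Cfsg.Agent.Lib.FinFast
import Cfsg.Agent.SB.SporD.Fi.TData
import Cfsg.Agent.H832.TriD
import Cfsg.Agent.H830.Con24
import Cfsg.Agent.H830.PrimF
import Cfsg.Agent.Fischer.Y322Iso
import Cfsg.Agent.FastGrp
import Cfsg.Agent.Prune
set_option linter.all false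

section
prune_inst 0x7fb0fef90fb83ddeffff7e7fffbddffc39d09fffe6dff9437fe8ebff2b9f23042be5fb878de0d0fc1ed6e23c10387853f97ee63fe36bd87ffffd5ff41ffbee1ff5f7b50871d59c341fbe2fff83f17f8e7f3fffffffffffffffffffffffffffbeffffffffffff

-- part: SB/Par/Fam
section
prune_inst 0x40000080000001000000000042000000000000002004000000040010200000000000200000020300010000008000000000000000000400000000004000000000000801000a0080000000006000000000000000000000000000000000000000000000000000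
set_option linter.all false
open scoped Cfsg.Agent.FastGrp

-- part: SB/Par/Frame
section
/-!
# S5765, parabolic case: frame automorphisms and parabolic subgroups (helper64)

* `Mp β H H'` : `β` maps `H` onto `H'`; `Fr` : frame automorphisms with their diagram symmetry;
* `Fr.mapP`, `Fr.mapPN`, `Fr.mapL`, `Fr.mapV`, `Fr.mapVN` : the action on the standard subgroups;
* `le_VJ` : `V_J` is the largest normal `p`-subgroup of `P_J`; `eq_bot_of_LJ` : `O_p(L_J) = 1`;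
* `cj_PJ` : `w₀` maps `P_J` onto the opposite parabolic subgroup; `Fr.op_comm` : `σ` commutes with the opposition.
-/

set_option autoImplicit false

namespace Cfsg.Agent.SB.Par

open CoxeterSystem Cfsg.Agent.ChevalleyStructure.CoxeterGeom Cfsg.Agent.Tits.Roots Cfsg.Agent.Tits.Core
  Cfsg.Agent.Tits.Exchange Cfsg.Agent.Nodes.Reps Cfsg.Agent.Nodes.BNOf Cfsg.Agent.Nodes.StabComb
  Cfsg.Agent.Nodes.Bruhat Cfsg.Agent.Nodes.OppDec Cfsg.Agent.Nodes.LeviDec Cfsg.Agent.Nodes.NormalForm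
  Cfsg.Agent.KFacts.RgdOpp Cfsg.Agent.KFacts.RgdAut Cfsg.Agent.KFacts.RgdDiag Cfsg.Agent.KFacts.RgdRigid
  Cfsg.Agent.KFacts.RgdVJ

variable {I W Y : Type*} [Fintype I] [DecidableEq I] [Group W] [Group Y] {M : CoxeterMatrix I}
  {cs : CoxeterSystem M W} {A : I → I → ℤ} {h : IsCartan M A} {p : ℕ} {T : Subgroup Y} {n : I → Y}
  {X : (I → ℤ) → Subgroup Y}

/-- `β` maps `H` onto `H'` -/
def Mp (β : MulAut Y) (H H' : Subgroup Y) : Prop := ∀ x, β x ∈ H' ↔ x ∈ H

theorem Mp.inv {β : MulAut Y} {H H' : Subgroup Y} (hβ : Mp β H H') : Mp β⁻¹ H' H := fun x => by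
  rw [← hβ, MulAut.apply_inv_self]

theorem Mp.mul {β γ : MulAut Y} {H H' H'' : Subgroup Y} (hβ : Mp β H' H'') (hγ : Mp γ H H') :
    Mp (β * γ) H H'' := fun x => by
  rw [MulAut.mul_apply, hβ, hγ]

theorem Mp.inf {β : MulAut Y} {H H' K K' : Subgroup Y} (h1 : Mp β H H') (h2 : Mp β K K') :
    Mp β (H ⊓ K) (H' ⊓ K') := fun x => by
  rw [Subgroup.mem_inf, Subgroup.mem_inf, h1, h2]

theorem mp_conj {g : Y} {H : Subgroup Y} (hg : g ∈ Subgroup.normalizer (H : Set Y)) : Mp (MulAut.conj g) H H :=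
  fun x => (Subgroup.mem_normalizer_iff.1 hg x).symm

theorem mp_conj_of_mem {g : Y} {H : Subgroup Y} (hg : g ∈ H) : Mp (MulAut.conj g) H H :=
  mp_conj (Subgroup.le_normalizer hg)

theorem Mp.unique {β : MulAut Y} {H H' H'' : Subgroup Y} (h1 : Mp β H H') (h2 : Mp β H H'') : H' = H'' := by
  ext x
  rw [← h1.inv x, h2.inv x]

/-- a frame automorphism -/
structure Fr (cs : CoxeterSystem M W) (h : IsCartan M A) (T : Subgroup Y) (X : (I → ℤ) → Subgroup Y)
    (β : MulAut Y) (σ : Equiv.Perm I) : Prop where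
  fU : _root_.Cfsg.Agent.KFacts.RgdAut.Fix β (RGD.Sup X (RGD.Pos cs h))
  fUN : _root_.Cfsg.Agent.KFacts.RgdAut.Fix β (UN cs h X)
  D : Diag T X β σ

theorem Fr.inv {β : MulAut Y} {σ : Equiv.Perm I} (F : Fr cs h T X β σ) : Fr cs h T X β⁻¹ σ⁻¹ :=
  ⟨F.fU.inv, F.fUN.inv, F.D.inv⟩

theorem Fr.mul {β β' : MulAut Y} {σ σ' : Equiv.Perm I} (F : Fr cs h T X β σ) (F' : Fr cs h T X β' σ') :
    Fr cs h T X (β * β') (σ * σ') :=
  ⟨F.fU.mul F'.fU, F.fUN.mul F'.fUN, F.D.mul F'.D⟩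

theorem Fr.one : Fr cs h T X (1 : MulAut Y) (1 : Equiv.Perm I) :=
  ⟨fun _ => Iff.rfl, fun _ => Iff.rfl, Diag.one⟩

theorem Fr.neg {β : MulAut Y} {σ : Equiv.Perm I} (F : Fr cs h T X β σ) : Fr cs h T (fun x => X (-x)) β σ :=
  ⟨by rw [U_opp]; exact F.fUN, by rw [UN_opp]; exact F.fU, F.D.opp⟩

theorem simple_mem_WJ (h : IsCartan M A) {J : Set I} {k : I} : cs.simple k ∈ WJ cs J ↔ k ∈ J := by
  refine ⟨fun hk => ?_, fun hk => Subgroup.subset_closure ⟨k, hk, rfl⟩⟩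
  by_contra hkJ
  have h1 := NotJ.act hk (sr_mem_NotJ (cs := cs) (h := h) hkJ)
  rw [rep_simple_sr] at h1
  exact (isRoot_sr cs h k).not_pos_neg (sr_nonneg k) (neg_nonneg.1 h1.2.1)

theorem VJ_anti {J K : Set I} (hJK : J ⊆ K) : VJ cs h X K ≤ VJ cs h X J :=
  RGD.Sup_mono fun _ ⟨h1, h2, k, hk, h3⟩ => ⟨h1, h2, k, fun hkJ => hk (hJK hkJ), h3⟩

theorem X_le_VJ {J : Set I} {i : I} (hi : i ∉ J) : X (sr i) ≤ VJ cs h X J := RGD.le_Sup (sr_mem_NotJ hi)

theorem X_le_LJ' {J : Set I} {i : I} (hi : i ∈ J) : X (sr i) ≤ LJ cs h T X J :=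
  X_le_LJ (PosJ_subset J (sr_mem_PosJ hi))

section
variable [Finite W] (R : RGD cs h p T n X)
include R

theorem rp_unique {w w' : W} {g : Y} (h1 : Rp cs R.nsys w g) (h2 : Rp cs R.nsys w' g) : w = w' :=
  Cell.unique R (cell_of_rp h1) (cell_of_rp h2)

theorem rp_mem_PJ_iff {J : Set I} {i : I} {g : Y} (hg : Rp cs R.nsys (cs.simple i) g) :
    g ∈ PJ cs h T X J ↔ i ∈ J := by
  rw [cell_mem_PJ_iff R (cell_of_rp hg), simple_mem_WJ h]

omit [Finite W] R in
theorem PJ_mono {J K : Set I} (hJK : J ⊆ K) : PJ cs h T X J ≤ PJ cs h T X K :=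
  sup_le ((LJ_mono hJK).trans LJ_le_PJ) ((VJ_le_B J).trans B_le_PJ)

/-- overgroups of `B` -/
theorem eq_PJ (hG : GG cs h T X = ⊤) {P : Subgroup Y} (hP : RGD.B cs h T X ≤ P) {J : Set I}
    (hJ : ∀ i, n i ∈ P ↔ i ∈ J) : P = PJ cs h T X J := by
  have h1 := inf_eq_PJ R hP
  rw [hG, inf_top_eq] at h1
  rw [h1]
  congr 1
  ext i
  exact hJ i

theorem Fr.mapP (hG : GG cs h T X = ⊤) {β : MulAut Y} {σ : Equiv.Perm I} (F : Fr cs h T X β σ) {K K' : Set I}
    (hK : ∀ i, σ i ∈ K' ↔ i ∈ K) : Mp β (PJ cs h T X K) (PJ cs h T X K') := by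
  have hB := fix_B R hG F.fU
  have h1 : (PJ cs h T X K').comap β.toMonoidHom = PJ cs h T X K := by
    refine eq_PJ R hG (fun b hb => ?_) fun i => ?_
    · exact B_le_PJ ((hB b).2 hb)
    · rw [← hK]
      exact rp_mem_PJ_iff R (F.D.rp (R := R) i)
  intro x
  rw [← h1]
  rfl

theorem Fr.mapPN (hG : GG cs h T X = ⊤) {β : MulAut Y} {σ : Equiv.Perm I} (F : Fr cs h T X β σ) {K K' : Set I}
    (hK : ∀ i, σ i ∈ K' ↔ i ∈ K) : Mp β (PNJ cs h T X K) (PNJ cs h T X K') := by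
  have h1 := Fr.mapP (opp R) (by rw [GG_opp]; exact hG) F.neg hK
  rwa [PJ_opp, PJ_opp] at h1

theorem Fr.mapL (hG : GG cs h T X = ⊤) {β : MulAut Y} {σ : Equiv.Perm I} (F : Fr cs h T X β σ) {K K' : Set I}
    (hK : ∀ i, σ i ∈ K' ↔ i ∈ K) : Mp β (LJ cs h T X K) (LJ cs h T X K') := by
  rw [← PJ_inf_PNJ R, ← PJ_inf_PNJ R]
  exact (F.mapP R hG hK).inf (F.mapPN R hG hK)

/-- `V_J` is the core of `U` in `P_J` -/
theorem mem_VJ_iff {J : Set I} {v : Y} :
    v ∈ VJ cs h X J ↔ ∀ g ∈ PJ cs h T X J, g * v * g⁻¹ ∈ RGD.Sup X (RGD.Pos cs h) := by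
  refine ⟨fun hv g hg => VJ_le_U J ((Subgroup.mem_normalizer_iff.1 (PJ_le_normalizer_VJ R J hg) v).1 hv),
    fun hv => ?_⟩
  obtain ⟨t, ht, u, hu, e⟩ := mem_TV R (J := J) (c := v) fun g hg => RGD.U_le_B (hv g hg)
  have h1 : v ∈ RGD.Sup X (RGD.Pos cs h) := by simpa using hv 1 (one_mem _)
  have h2 : t ∈ RGD.Sup X (RGD.Pos cs h) ⊓ T := by
    refine Subgroup.mem_inf.2 ⟨?_, ht⟩
    have : t = v * u⁻¹ := by rw [e]; group
    rw [this]
    exact mul_mem h1 (inv_mem (VJ_le_U J hu))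
  rw [U_inf_T R, Subgroup.mem_bot] at h2
  rw [e, h2, one_mul]
  exact hu

theorem Fr.mapV (hG : GG cs h T X = ⊤) {β : MulAut Y} {σ : Equiv.Perm I} (F : Fr cs h T X β σ) {K K' : Set I}
    (hK : ∀ i, σ i ∈ K' ↔ i ∈ K) : Mp β (VJ cs h X K) (VJ cs h X K') := by
  have hP := F.mapP R hG hK
  intro x
  rw [mem_VJ_iff R, mem_VJ_iff R]
  refine ⟨fun hx g hg => ?_, fun hx g hg => ?_⟩
  · have := hx (β g) ((hP g).2 hg)
    rw [← map_inv, ← map_mul, ← map_mul] at this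
    exact (F.fU _).1 this
  · have := (F.fU _).2 (hx (β⁻¹ g) ((hP.inv g).2 hg))
    simpa only [_root_.MulAut.inv_apply, _root_.map_mul, _root_.MulEquiv.apply_symm_apply, _root_.map_inv] using this

theorem Fr.mapVN (hG : GG cs h T X = ⊤) {β : MulAut Y} {σ : Equiv.Perm I} (F : Fr cs h T X β σ) {K K' : Set I}
    (hK : ∀ i, σ i ∈ K' ↔ i ∈ K) : Mp β (VNJ cs h X K) (VNJ cs h X K') := by
  have h1 := Fr.mapV (opp R) (by rw [GG_opp]; exact hG) F.neg hK
  rwa [VJ_opp, VJ_opp] at h1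

/-- the permutation is determined by the images of the parabolic subgroups -/
theorem Fr.mem_of_PJ {β : MulAut Y} {σ : Equiv.Perm I} (F : Fr cs h T X β σ) {K K' : Set I}
    (hK : Mp β (PJ cs h T X K) (PJ cs h T X K')) (i : I) : σ i ∈ K' ↔ i ∈ K := by
  rw [← rp_mem_PJ_iff R (F.D.rp (R := R) i), hK, rp_mem_PJ_iff R (rp_simple cs R.nsys i)]

theorem exists_fr (hG : GG cs h T X = ⊤) {β : MulAut Y} (hU : _root_.Cfsg.Agent.KFacts.RgdAut.Fix β (RGD.Sup X (RGD.Pos cs h)))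
    (hUN : _root_.Cfsg.Agent.KFacts.RgdAut.Fix β (UN cs h X)) : ∃ σ, Fr cs h T X β σ := by
  obtain ⟨σ, D⟩ := exists_diag R hG hU hUN
  exact ⟨σ, hU, hUN, D⟩

/-- `O_p(P_J) = V_J` -/
theorem le_VJ [Finite Y] [Fact p.Prime] (hG : GG cs h T X = ⊤) {J : Set I} {E : Subgroup Y} (hE : IsPGroup p E)
    (hn : ∀ g ∈ PJ cs h T X J, ∀ e ∈ E, g * e * g⁻¹ ∈ E) : E ≤ VJ cs h X J := by
  have hUP : RGD.Sup X (RGD.Pos cs h) ≤ PJ cs h T X J := RGD.U_le_B.trans B_le_PJ
  have h1 : RGD.Sup X (RGD.Pos cs h) ≤ Subgroup.normalizer (E : Set Y) := fun u hu =>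
    Subgroup.mem_normalizer_iff.2 fun e => ⟨hn u (hUP hu) e, fun he => by
      simpa only [mul_assoc, _root_.inv_mul_cancel_left, _root_.inv_inv, _root_.inv_mul_cancel, _root_.mul_one] using hn u⁻¹ (hUP (inv_mem hu)) _ he⟩
  have h2 := eq_U_of_isPGroup R (IsPGroup.to_sup_of_normal_right' R.isPGroup_Upos hE h1) le_sup_left
    (by rw [hG]; exact le_top)
  intro e he
  rw [mem_VJ_iff R]
  intro g hg
  rw [← h2]
  exact Subgroup.mem_sup_right (hn g hg e he)

/-- `O_p(L_J) = 1` -/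
theorem eq_bot_of_LJ [Finite Y] [Fact p.Prime] (hG : GG cs h T X = ⊤) {J : Set I} {E : Subgroup Y}
    (hE : IsPGroup p E) (hL : E ≤ LJ cs h T X J) (hn : ∀ g ∈ LJ cs h T X J, ∀ e ∈ E, g * e * g⁻¹ ∈ E) : E = ⊥ := by
  have hEV : E ≤ Subgroup.normalizer (VJ cs h X J : Set Y) := hL.trans (LJ_le_normalizer_VJ R J)
  have h1 := le_VJ R hG (J := J) (IsPGroup.to_sup_of_normal_right' hE (KFacts.RgdCharP.isPGroup_VJ R J) hEV) (by
    intro g hg e he
    obtain ⟨l, hl, v, hv, rfl⟩ := (mem_PJ R).1 hg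
    have h2 : v * e * v⁻¹ ∈ E ⊔ VJ cs h X J :=
      mul_mem (mul_mem (Subgroup.mem_sup_right hv) he) (inv_mem (Subgroup.mem_sup_right hv))
    have h3 : cj l (E ⊔ VJ cs h X J) ≤ E ⊔ VJ cs h X J := by
      rw [cj_sup, mem_normalizer_iff_cj.1 (LJ_le_normalizer_VJ R J hl)]
      refine sup_le_sup_right ?_ _
      rintro _ ⟨y, hy, rfl⟩
      exact hn l hl y hy
    have h4 := h3 (conj_mem_cj.2 h2)
    simpa only [mul_assoc, _root_.mul_inv_rev] using h4)
  rw [eq_bot_iff, ← LJ_inf_VJ R J]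
  exact le_inf hL (le_sup_left.trans h1)

/-! ### the longest element -/

theorem rp_op {k : Y} (hk : Rp cs R.nsys (w0 cs) k) {i : I} {g : Y} (hg : Rp cs R.nsys (cs.simple i) g) :
    Rp cs R.nsys (cs.simple (op cs i)) (k⁻¹ * g * k) := by
  have := (hk.inv.mul hg).mul hk
  rwa [w0_inv, ← simple_op] at this

theorem cj_PJ (hG : GG cs h T X = ⊤) {k : Y} (hk : Rp cs R.nsys (w0 cs) k) {J K : Set I}
    (hJ : ∀ i, op cs i ∈ J ↔ i ∈ K) : cj k (PJ cs h T X J) = PNJ cs h T X K := by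
  rw [← PJ_opp]
  refine eq_PJ (opp R) (by rw [GG_opp]; exact hG) ?_ fun i => ?_
  · rw [B_opp, ← cj_B R hk]
    exact cj_mono k B_le_PJ
  · rw [mem_cj, rp_mem_PJ_iff R (rp_op R hk (rp_simple cs R.nsys i)), hJ]

theorem Fr.w0_mem (hG : GG cs h T X = ⊤) {β : MulAut Y} {σ : Equiv.Perm I} (F : Fr cs h T X β σ) {k : Y}
    (hk : Rp cs R.nsys (w0 cs) k) : k⁻¹ * β k ∈ T := by
  rw [← B_inf_BN R, ← normalizer_U' R hG, ← normalizer_UN R hG]
  have key : ∀ {H H' : Subgroup Y}, _root_.Cfsg.Agent.KFacts.RgdAut.Fix β H → _root_.Cfsg.Agent.KFacts.RgdAut.Fix β H' → cj k H = H' →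
      k⁻¹ * β k ∈ Subgroup.normalizer (H : Set Y) := by
    intro H H' h1 h2 h3
    refine Subgroup.mem_normalizer_iff.2 fun x => ?_
    have e : k⁻¹ * β k * x * (k⁻¹ * β k)⁻¹ = k⁻¹ * β (k * β⁻¹ x * k⁻¹) * k := by simp only [mul_assoc, _root_.mul_inv_rev, _root_.inv_inv, _root_.MulAut.inv_apply, _root_.map_mul, _root_.MulEquiv.apply_symm_apply, _root_.map_inv]
    rw [e, ← mem_cj, h3, h2, ← h3, conj_mem_cj, h1.inv]
  exact ⟨key F.fU F.fUN (cj_U R hk), key F.fUN F.fU (cj_UN R hk)⟩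

theorem Fr.op_comm (hG : GG cs h T X = ⊤) {β : MulAut Y} {σ : Equiv.Perm I} (F : Fr cs h T X β σ) (i : I) :
    σ (op cs i) = op cs (σ i) := by
  obtain ⟨k, hk⟩ := exists_rp cs R.nsys (w0 cs)
  have hk' : Rp cs R.nsys (w0 cs) (β k) := by
    simpa using hk.mul_mem_right (F.w0_mem R hG hk)
  have h1 := rp_op R hk' (F.D.rp (R := R) i)
  have h2 := (rp_simple cs R.nsys (op cs i)).unique (rp_op R hk (rp_simple cs R.nsys i))
  have h3 := (F.D.rp (R := R) (op cs i)).mul_mem_right ((F.D.tor _).2 h2)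
  have e : β (n (op cs i)) * β ((n (op cs i))⁻¹ * (k⁻¹ * n i * k)) = (β k)⁻¹ * β (n i) * β k := by simp only [_root_.map_mul, _root_.map_inv, _root_.mul_inv_cancel_left]
  rw [e] at h3
  by_contra hne
  exact RGD.simple_ne (cs := cs) (h := h) hne (rp_unique R h3 h1)

end

theorem simple_inj (h : IsCartan M A) : Function.Injective cs.simple := fun _ _ e => by
  by_contra hne
  exact RGD.simple_ne (cs := cs) (h := h) hne e

omit [DecidableEq I] in
theorem matrix_op [Finite W] (i j : I) : M (op cs i) (op cs j) = M i j := by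
  classical
  rw [← LieRecognition.CoxForm.orderOf_eq cs, ← LieRecognition.CoxForm.orderOf_eq cs, simple_op, simple_op]
  have e : w0 cs * cs.simple i * w0 cs * (w0 cs * cs.simple j * w0 cs) =
      MulAut.conj (w0 cs) (cs.simple i * cs.simple j) := by
    rw [MulAut.conj_apply, w0_inv]
    calc _ = w0 cs * cs.simple i * (w0 cs * w0 cs) * cs.simple j * w0 cs := by group
      _ = _ := by rw [w0_mul_self]; group
  rw [e, MulEquiv.orderOf_eq]

end Cfsg.Agent.SB.Par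
end

-- part: SB/Par/Diag
section
/-!
# S5765, parabolic case: combinatorics of the diagram (helper64)

`Orb M J π` : the diagram is connected, `J` has no edges and the complement of `J` is one orbit of the symmetries of the
diagram which fix `J` (and commute with `π`).

* `Orb.card_le` : the complement of `J` has at most three elements;
* `Orb.two_of_no_three` : if a node outside `J` has no simple bond there are at most two nodes;
* `Orb.op_cases` : `π` fixes `J`, or there are two nodes and `π` exchanges them.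
-/

set_option autoImplicit false
set_option linter.unusedSectionVars false

namespace Cfsg.Agent.SB.Par

open CoxeterSystem Cfsg.Agent.ChevalleyStructure.CoxeterGeom Cfsg.Agent.Tits.Roots Cfsg.Agent.KFacts.RgdCharP

variable {I W : Type*} [Fintype I] [DecidableEq I] [Group W] {M : CoxeterMatrix I}

/-- adjacent nodes -/
def Ad (M : CoxeterMatrix I) (i j : I) : Prop := i ≠ j ∧ M i j ≠ 2

theorem Ad.symm {i j : I} (h : Ad M i j) : Ad M j i := ⟨h.1.symm, by rw [M.symmetric]; exact h.2⟩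

theorem ad_perm {σ : Equiv.Perm I} (hσ : ∀ i j, M (σ i) (σ j) = M i j) (i j : I) : Ad M (σ i) (σ j) ↔ Ad M i j := by
  simp [Ad, hσ]

theorem closed_univ (hc : Conn M) {K : Set I} (hK : K.Nonempty) (hcl : ∀ a ∈ K, ∀ b, Ad M a b → b ∈ K) (k : I) :
    k ∈ K := by
  by_contra hk
  obtain ⟨a, ha, b, hb, hab⟩ := hc K hK fun h => hk (h ▸ Set.mem_univ k)
  exact hb (hcl a ha b ⟨fun h => hb (h ▸ ha), hab⟩)

/-- a node with at most one neighbour -/
def Lf (M : CoxeterMatrix I) (i : I) : Prop := ∀ k k', Ad M i k → Ad M i k' → k = k'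

theorem Lf.perm {σ : Equiv.Perm I} (hσ : ∀ i j, M (σ i) (σ j) = M i j) {i : I} (h : Lf M i) : Lf M (σ i) := by
  intro k k' h1 h2
  obtain ⟨k, rfl⟩ := σ.surjective k
  obtain ⟨k', rfl⟩ := σ.surjective k'
  rw [h k k' ((ad_perm hσ _ _).1 h1) ((ad_perm hσ _ _).1 h2)]

theorem two_of_lf (hc : Conn M) (hl : ∀ i, Lf M i) (a : I) : ∃ b, ∀ k, k = a ∨ k = b := by
  by_cases h : ∃ b, Ad M a b
  · obtain ⟨b, hb⟩ := h
    refine ⟨b, closed_univ hc (K := {k | k = a ∨ k = b}) ⟨a, Or.inl rfl⟩ ?_⟩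
    rintro c (rfl | rfl) d hd
    · exact Or.inr (hl _ _ _ hd hb)
    · exact Or.inl (hl _ _ _ hd hb.symm)
  · refine ⟨a, closed_univ hc (K := {k | k = a ∨ k = a}) ⟨a, Or.inl rfl⟩ ?_⟩
    rintro c (rfl | rfl) d hd <;> exact absurd ⟨d, hd⟩ h

section Pos

variable (cs : CoxeterSystem M W) {A : I → I → ℤ} (h : IsCartan M A)

include h in
theorem pair_le {y : I → ℤ} (hy : 0 ≤ y) (i : I) {s : Finset I} (hs : i ∉ s) :
    pairing A i y ≤ 2 * y i + ∑ k ∈ s, A i k * y k := by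
  have h1 : ∑ k ∈ insert i s, A i k * y k = 2 * y i + ∑ k ∈ s, A i k * y k := by
    rw [Finset.sum_insert hs, h.diag]
  rw [← h1, pairing, ← Finset.sum_add_sum_compl (insert i s)]
  have h2 : ∑ k ∈ (insert i s)ᶜ, A i k * y k ≤ 0 := by
    refine Finset.sum_nonpos fun k hk => ?_
    have h3 : i ≠ k := by
      rintro rfl
      simp at hk
    exact mul_nonpos_of_nonpos_of_nonneg (cartan_nonpos h h3) (hy k)
  omega

include h in
theorem pair_le' {y : I → ℤ} (hy : 0 ≤ y) (i : I) {s : Finset I} (hs : ∀ k ∈ s, Ad M i k) :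
    pairing A i y ≤ 2 * y i - ∑ k ∈ s, y k := by
  have h1 := pair_le h hy i (s := s) fun hi => (hs i hi).1 rfl
  have h2 : ∑ k ∈ s, A i k * y k ≤ ∑ k ∈ s, -y k := by
    refine Finset.sum_le_sum fun k hk => ?_
    have h3 := cartan_neg h (hs k hk).1 (hs k hk).2
    have h4 : 0 ≤ y k := hy k
    nlinarith only [h3, h4]
  rw [Finset.sum_neg_distrib] at h2
  omega

include cs h in
theorem exists_lf [Finite W] [Nonempty I] : ∃ i, Lf M i := by
  have := Fintype.ofFinite W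
  obtain ⟨i, -, hi⟩ := exists_pairing_pos cs h (x := fun _ => 1) (fun _ => zero_le_one)
    (fun h0 => one_ne_zero (congrFun h0 (Classical.arbitrary I)))
  refine ⟨i, fun k k' h1 h2 => ?_⟩
  by_contra hne
  have h3 := pair_le' h (y := fun _ => 1) (fun _ => zero_le_one) i (s := {k, k'}) (by
    intro l hl
    rcases Finset.mem_insert.1 hl with rfl | hl
    · exact h1
    · rw [Finset.mem_singleton.1 hl]; exact h2)
  rw [Finset.sum_pair hne] at h3
  omega

include cs h in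
theorem lf_of_no_three [Finite W] (h3 : ∀ i j, M i j ≠ 3) (b : I) : Lf M b := by
  have := Fintype.ofFinite W
  intro a c ha hc
  by_contra hac
  have hab : a ≠ b := ha.1.symm
  have hcb : c ≠ b := hc.1.symm
  have key : ∀ a, Ad M b a → A a b < 0 ∧ 2 ≤ A b a * A a b := by
    intro a ha
    rcases h.rel b a ha.1 with h1 | h1 | ⟨-, h1 | h1⟩ | ⟨-, h1 | h1⟩
    · exact absurd h1.1 ha.2
    · exact absurd h1.1 (h3 _ _)
    all_goals (rw [h1.1, h1.2]; norm_num)
  let y : I → ℤ := fun k => if k = b then 2 else if k = a then -A a b else if k = c then -A c b else 0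
  have yb : y b = 2 := by simp [y]
  have ya : y a = -A a b := by simp [y, hab]
  have yc : y c = -A c b := by simp [y, hcb, Ne.symm hac]
  have hy : 0 ≤ y := by
    intro k
    have := (key a ha).1
    have := (key c hc).1
    simp only [y, Pi.zero_apply]
    split_ifs <;> omega
  obtain ⟨i, hi1, hi⟩ := exists_pairing_pos cs h hy (fun h0 => by
    have := congrFun h0 b
    rw [yb] at this
    exact two_ne_zero this)
  by_cases h1 : i = b
  · subst h1
    have h4 := pair_le h hy i (s := {a, c}) (by simp [hab.symm, hcb.symm])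
    rw [Finset.sum_pair hac, ya, yc, yb] at h4
    have := (key a ha).2
    have := (key c hc).2
    nlinarith
  by_cases h2 : i = a
  · subst h2
    have h4 := pair_le h hy i (s := {b}) (by simp [hab])
    rw [Finset.sum_singleton, ya, yb] at h4
    omega
  by_cases h4 : i = c
  · subst h4
    have h4 := pair_le h hy i (s := {b}) (by simp [hcb])
    rw [Finset.sum_singleton, yc, yb] at h4
    omega
  simp [y, h1, h2, h4] at hi1

end Pos

/-- The combinatorial situation of a solvable parabolic subgroup which is maximal under diagram symmetries. -/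
structure Orb (M : CoxeterMatrix I) (J : Set I) (π : I → I) : Prop where
  conn : Conn M
  ne : ∃ o, o ∉ J
  indep : ∀ i ∈ J, ∀ j ∈ J, ¬ Ad M i j
  trans : ∀ a b, a ∉ J → b ∉ J → ∃ σ : Equiv.Perm I, (∀ i j, M (σ i) (σ j) = M i j) ∧ (∀ i, σ i ∈ J ↔ i ∈ J) ∧
    (∀ i, σ (π i) = π (σ i)) ∧ σ a = b

namespace Orb

variable {J : Set I} {π : I → I} (H : Orb M J π)

include H

theorem exists_adj {j : I} (hj : j ∈ J) : ∃ o, o ∉ J ∧ Ad M j o := by
  by_contra hcon
  push Not at hcon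
  obtain ⟨o, ho⟩ := H.ne
  have h1 := closed_univ H.conn (K := {j}) ⟨j, rfl⟩ (by
    rintro a rfl b hb
    by_cases hbJ : b ∈ J
    · exact absurd hb (H.indep a hj b hbJ)
    · exact absurd hb (hcon b hbJ)) o
  exact ho (h1 ▸ hj)

variable (cs : CoxeterSystem M W) {A : I → I → ℤ} (h : IsCartan M A)

include cs h

theorem two_of_no_three [Finite W] {o : I} (ho : o ∉ J) (h3 : ∀ k, M o k ≠ 3) : ∃ b, ∀ k, k = o ∨ k = b := by
  have key : ∀ a, a ∉ J → ∀ k, M a k ≠ 3 := by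
    intro a ha k
    obtain ⟨σ, h1, -, -, rfl⟩ := H.trans o a ho ha
    obtain ⟨k, rfl⟩ := σ.surjective k
    rw [h1]
    exact h3 k
  refine two_of_lf H.conn (lf_of_no_three cs h fun i j hij => ?_) o
  by_cases hi : i ∈ J
  · by_cases hj : j ∈ J
    · refine H.indep i hi j hj ⟨?_, by omega⟩
      rintro rfl
      rw [M.diagonal] at hij
      omega
    · rw [M.symmetric] at hij
      exact key j hj i hij
  · exact key i hi j hij

theorem op_cases [Finite W] (hπ : ∀ i, π (π i) = i) (hM : ∀ i j, M (π i) (π j) = M i j) :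
    (∀ i, π i ∈ J ↔ i ∈ J) ∨ ∃ o, o ∉ J ∧ π o ∈ J ∧ ∀ k, k = o ∨ k = π o := by
  by_cases h1 : ∃ o, o ∉ J ∧ π o ∈ J
  · right
    obtain ⟨o, ho, hoJ⟩ := h1
    have : Nonempty I := ⟨o⟩
    let π' : Equiv.Perm I := ⟨π, π, hπ, hπ⟩
    have hπ' : ∀ i j, M (π' i) (π' j) = M i j := hM
    have h2 : ∀ a, a ∉ J → π a ∈ J := by
      intro a ha
      obtain ⟨σ, -, h2, h3, rfl⟩ := H.trans o a ho ha
      rw [← h3, h2]
      exact hoJ
    have h3 : ∀ j ∈ J, π j ∉ J := by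
      intro j hj hj'
      obtain ⟨a, ha, hja⟩ := H.exists_adj hj
      exact H.indep _ hj' _ (h2 a ha) ((ad_perm hπ' j a).2 hja)
    obtain ⟨a, ha, hl⟩ : ∃ a, a ∉ J ∧ Lf M a := by
      obtain ⟨i, hi⟩ := exists_lf cs h
      by_cases hiJ : i ∈ J
      · exact ⟨π i, h3 i hiJ, hi.perm hπ'⟩
      · exact ⟨i, hiJ, hi⟩
    have h4 : ∀ b, b ∉ J → Lf M b := by
      intro b hb
      obtain ⟨σ, h4, -, -, rfl⟩ := H.trans a b ha hb
      exact hl.perm h4
    have h5 : ∀ b, Lf M b := by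
      intro b
      by_cases hb : b ∈ J
      · rw [← hπ b]
        exact (h4 _ (h3 b hb)).perm hπ'
      · exact h4 b hb
    obtain ⟨b, hb⟩ := two_of_lf H.conn h5 o
    refine ⟨o, ho, hoJ, fun k => ?_⟩
    rcases hb (π o) with h6 | h6
    · exact absurd (h6 ▸ hoJ) ho
    · rw [h6]
      exact hb k
  · left
    push Not at h1
    intro i
    refine ⟨fun hi => ?_, fun hi => ?_⟩
    · by_contra hi'
      exact h1 i hi' hi
    · by_contra hi'
      exact h1 _ hi' (by rw [hπ]; exact hi)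

theorem card_le [Finite W] : Nat.card {o // o ∉ J} ≤ 3 := by
  classical
  have := Fintype.ofFinite W
  let nb : I → Finset I := fun i => Finset.univ.filter (Ad M i)
  have hnb : ∀ i k, k ∈ nb i ↔ Ad M i k := fun i k => by simp only [nb, _root_.Finset.mem_filter, _root_.Finset.mem_univ, _root_.true_and]
  let y : I → ℤ := fun k => if k ∈ J then (nb k).card else 2
  have yJ : ∀ k ∈ J, y k = (nb k).card := fun k hk => if_pos hk
  have yO : ∀ k, k ∉ J → y k = 2 := fun k hk => if_neg hk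
  have hy : 0 ≤ y := by
    intro k
    simp only [y, Pi.zero_apply]
    split_ifs <;> (clear * -; positivity)
  obtain ⟨o₀, ho₀⟩ := H.ne
  obtain ⟨i, -, hi⟩ := exists_pairing_pos cs h hy (fun h0 => by
    have := congrFun h0 o₀
    rw [yO _ ho₀] at this
    exact two_ne_zero this)
  have hiJ : i ∉ J := by
    intro hiJ
    have h1 := pair_le' h hy i (s := nb i) fun k hk => (hnb i k).1 hk
    have h2 : ∑ k ∈ nb i, y k = ∑ k ∈ nb i, (2 : ℤ) :=
      Finset.sum_congr rfl fun k hk => yO k fun hkJ => H.indep i hiJ k hkJ ((hnb i k).1 hk)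
    rw [h2, Finset.sum_const, yJ i hiJ] at h1
    simp only [nsmul_eq_mul] at h1
    omega
  have Q : ∀ o, o ∉ J → ∀ s : Finset I, (∀ k ∈ s, Ad M o k) → ∑ k ∈ s, y k ≤ 3 := by
    intro o ho s hs
    obtain ⟨σ, h1, h2, -, rfl⟩ := H.trans o i ho hiJ
    have h3 : ∀ k, y (σ k) = y k := by
      intro k
      have h3 : (nb (σ k)).card = (nb k).card :=
        (Finset.card_equiv σ fun l => by rw [hnb, hnb, ad_perm h1]).symm
      simp only [y, h2, h3]
    have h4 := pair_le' h hy (σ o) (s := s.map σ.toEmbedding) (by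
      intro k hk
      obtain ⟨l, hl, rfl⟩ := Finset.mem_map.1 hk
      exact (ad_perm h1 o l).2 (hs l hl))
    rw [Finset.sum_map, yO _ hiJ] at h4
    simp only [Equiv.coe_toEmbedding, h3] at h4
    omega
  have Q2 : ∀ o, o ∉ J → ∀ k l, k ≠ l → Ad M o k → Ad M o l → y k + y l ≤ 3 := by
    intro o ho k l hkl h1 h2
    have h3 := Q o ho {k, l} (by
      intro m hm
      rcases Finset.mem_insert.1 hm with rfl | hm
      · exact h1
      · rw [Finset.mem_singleton.1 hm]; exact h2)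
    rwa [Finset.sum_pair hkl] at h3
  have hlf : ∀ j ∈ J, y j ≤ 1 → Lf M j := by
    intro j hj h1 k l hk hl
    rw [yJ j hj] at h1
    exact Finset.card_le_one.1 (by exact_mod_cast h1) k ((hnb j k).2 hk) l ((hnb j l).2 hl)
  have fin : ∀ s : Finset I, s.card ≤ 3 → (∀ o, o ∉ J → o ∈ s) → Nat.card {o // o ∉ J} ≤ 3 := by
    intro s hs h1
    refine le_trans ?_ hs
    rw [← Nat.card_eq_finsetCard s]
    exact Nat.card_le_card_of_injective (fun o => (⟨o.1, h1 o.1 o.2⟩ : s))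
      fun a b hab => Subtype.ext (congrArg (fun z : s => z.1) hab)
  by_cases hA : ∃ o o', o ∉ J ∧ o' ∉ J ∧ Ad M o o'
  · obtain ⟨o, o', ho, ho', hoo⟩ := hA
    have step : ∀ o o', o ∉ J → o' ∉ J → Ad M o o' →
        (∀ b, Ad M o b → b = o' ∨ b ∈ J) ∧ ∀ a ∈ J, Ad M o a → ∀ b, Ad M a b → b = o := by
      intro o o' ho ho' hoo
      refine ⟨fun b hb => ?_, fun a ha hoa b hb => ?_⟩
      · by_contra hcon
        rw [not_or] at hcon
        have h1 := Q2 o ho b o' hcon.1 hb hoo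
        rw [yO _ hcon.2, yO _ ho'] at h1
        omega
      · have h1 := Q2 o ho a o' (fun e => ho' (e ▸ ha)) hoa hoo
        rw [yO _ ho'] at h1
        exact hlf a ha (by omega) b o hb hoa.symm
    have h1 := closed_univ H.conn (K := {k | k = o ∨ k = o' ∨ (k ∈ J ∧ (Ad M o k ∨ Ad M o' k))}) ⟨o, Or.inl rfl⟩ (by
      rintro a (rfl | rfl | ⟨ha, h1 | h1⟩) b hb
      · rcases (step a o' ho ho' hoo).1 b hb with h1 | h1
        · exact Or.inr (Or.inl h1)
        · exact Or.inr (Or.inr ⟨h1, Or.inl hb⟩)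
      · rcases (step a o ho' ho hoo.symm).1 b hb with h1 | h1
        · exact Or.inl h1
        · exact Or.inr (Or.inr ⟨h1, Or.inr hb⟩)
      · exact Or.inl ((step o o' ho ho' hoo).2 a ha h1 b hb)
      · exact Or.inr (Or.inl ((step o' o ho' ho hoo.symm).2 a ha h1 b hb)))
    refine fin {o, o'} (Finset.card_le_two.trans (by omega)) fun k hk => ?_
    rcases h1 k with rfl | rfl | h2
    · simp
    · simp
    · exact absurd h2.1 hk
  have hB : ∀ o, o ∉ J → ∀ b, Ad M o b → b ∈ J := by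
    intro o ho b hb
    by_contra hb'
    exact hA ⟨o, b, ho, hb', hb⟩
  by_cases hC : ∃ j ∈ J, 2 ≤ y j
  · obtain ⟨j, hj, hj2⟩ := hC
    have hO : ∀ a, Ad M j a → a ∉ J := fun a ha haJ => H.indep j hj a haJ ha
    have h1 := closed_univ H.conn (K := {k | k = j ∨ Ad M j k ∨ (k ∈ J ∧ ∃ o, Ad M j o ∧ Ad M o k)})
      ⟨j, Or.inl rfl⟩ (by
      rintro a (rfl | ha | ⟨ha, o, h1, h2⟩) b hb
      · exact Or.inr (Or.inl hb)
      · exact Or.inr (Or.inr ⟨hB a (hO a ha) b hb, a, ha, hb⟩)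
      · by_cases haj : a = j
        · exact Or.inr (Or.inl (haj ▸ hb))
        · have h3 := Q2 o (hO o h1) a j haj h2 h1.symm
          rw [hlf a ha (by omega) b o hb h2.symm]
          exact Or.inr (Or.inl h1))
    obtain ⟨o, ho, hjo⟩ := H.exists_adj hj
    have h2 := Q o ho {j} (by
      intro k hk
      rw [Finset.mem_singleton.1 hk]
      exact hjo.symm)
    rw [Finset.sum_singleton, yJ j hj] at h2
    refine fin (nb j) (by exact_mod_cast h2) fun k hk => ?_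
    rcases h1 k with rfl | h3 | h3
    · exact absurd hj hk
    · exact (hnb j k).2 h3
    · exact absurd h3.1 hk
  · push Not at hC
    have h1 := closed_univ H.conn (K := {k | k = o₀ ∨ Ad M o₀ k}) ⟨o₀, Or.inl rfl⟩ (by
      rintro a (rfl | ha) b hb
      · exact Or.inr hb
      · have haJ := hB o₀ ho₀ a ha
        have := hC a haJ
        exact Or.inl (hlf a haJ (by omega) b o₀ hb ha.symm))
    refine fin {o₀} (by simp) fun k hk => ?_
    rcases h1 k with rfl | h2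
    · simp
    · exact absurd (hB o₀ ho₀ k h2) hk

end Orb

end Cfsg.Agent.SB.Par
end

-- part: SB/Par/Ctx
section
/-!
# S5765, parabolic case: the standard situation (helper64)

`Ctx cs h T X S J` : `S ≤ Aut Y` is solvable, `MaxInv`, and meets `Inn Y` in the parabolic subgroup `P_J`.

* `Ctx.decomp` : `s = conj g * β`, `g ∈ P_J`, `β` a frame automorphism;
* `Ctx.orb` : the combinatorial situation `Orb M J (op cs)`.
-/

set_option autoImplicit false

namespace Cfsg.Agent.SB.Par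

open CoxeterSystem Cfsg.Agent.ChevalleyStructure.CoxeterGeom Cfsg.Agent.Tits.Roots Cfsg.Agent.Tits.Core
  Cfsg.Agent.Tits.Exchange Cfsg.Agent.Nodes.Reps Cfsg.Agent.Nodes.BNOf Cfsg.Agent.Nodes.StabComb
  Cfsg.Agent.Nodes.Bruhat Cfsg.Agent.Nodes.OppDec Cfsg.Agent.Nodes.LeviDec Cfsg.Agent.Nodes.NormalForm
  Cfsg.Agent.KFacts.RgdOpp Cfsg.Agent.KFacts.RgdAut Cfsg.Agent.KFacts.RgdDiag Cfsg.Agent.KFacts.RgdRigid
  Cfsg.Agent.KFacts.RgdVJ Cfsg.Agent.KFacts.RgdCharP Cfsg.Agent.H786.FC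

variable {I W Y : Type*} [Fintype I] [DecidableEq I] [Group W] [Group Y] {M : CoxeterMatrix I}
  {cs : CoxeterSystem M W} {A : I → I → ℤ} {h : IsCartan M A} {p : ℕ} {T : Subgroup Y} {n : I → Y}
  {X : (I → ℤ) → Subgroup Y}

theorem conj_conj' (α : MulAut Y) (g : Y) : α * MulAut.conj g * α⁻¹ = MulAut.conj (α g) := by
  ext x
  simp only [_root_.MulAut.mul_apply, _root_.MulAut.inv_apply, _root_.MulAut.conj_apply, _root_.map_mul, _root_.MulEquiv.apply_symm_apply, _root_.map_inv]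

theorem conj_inj (hc : Subgroup.center Y = ⊥) {g : Y} (hg : MulAut.conj g = 1) : g = 1 := by
  rw [← Subgroup.mem_bot, ← hc, Subgroup.mem_center_iff]
  intro x
  have := congrArg (fun f : MulAut Y => f x) hg
  simp only [MulAut.conj_apply, MulAut.one_apply] at this
  rw [← this, inv_mul_cancel_right, this]

/-- an automorphism fixing a subgroup `P` which contains the maximal `p`-subgroup `U` fixes `U` up to `P` -/
theorem exists_fix_of_max [Finite Y] [Fact p.Prime] {U P : Subgroup Y} (hU : IsPGroup p U) (hUP : U ≤ P)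
    (hmax : ∀ Q : Subgroup Y, IsPGroup p Q → U ≤ Q → Q = U) {s : MulAut Y} (hs : _root_.Cfsg.Agent.KFacts.RgdAut.Fix s P) :
    ∃ g ∈ P, _root_.Cfsg.Agent.KFacts.RgdAut.Fix (MulAut.conj g * s) U := by
  let Q : Sylow p P := ⟨U.subgroupOf P, hU.comap_subtype, fun {Q} hQ hle => by
    have h1 := hmax (Q.map P.subtype) (hQ.map _) fun u hu => ⟨⟨u, hUP hu⟩, hle hu, rfl⟩
    refine le_antisymm (fun x hx => ?_) hle
    rw [Subgroup.mem_subgroupOf, ← h1]
    exact ⟨x, hx, rfl⟩⟩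
  have hU' : IsPGroup p ((U.map s.toMonoidHom).subgroupOf P) := (hU.map _).comap_subtype
  obtain ⟨Q', hQ'⟩ := hU'.exists_le_sylow
  obtain ⟨g, hg⟩ := MulAction.exists_smul_eq P Q' Q
  refine ⟨g, g.2, fix_iff.2 ?_⟩
  refine Subgroup.eq_of_le_of_card_ge ?_ ?_
  · rintro _ ⟨u, hu, rfl⟩
    have h1 : (⟨s u, (hs u).2 (hUP hu)⟩ : P) ∈ Q' := hQ' ⟨u, hu, rfl⟩
    have h2 : g * ⟨s u, (hs u).2 (hUP hu)⟩ * g⁻¹ ∈ (g • Q' : Sylow p P) := by
      rw [Sylow.smul_def]
      exact Subgroup.smul_mem_pointwise_smul _ (MulAut.conj g) _ h1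
    rw [hg] at h2
    exact h2
  · exact (Subgroup.card_map_of_injective (MulAut.conj (g : Y) * s).injective).ge

theorem hgen_of [Finite W] (R : RGD cs h p T n X) (hG : GG cs h T X = ⊤) : RGD.B cs h T X ⊔ NN cs R.nsys = ⊤ := by
  rw [eq_top_iff]
  intro g _
  obtain ⟨w, b₁, h1, k, hk, b₂, h2, rfl⟩ := (mem_GG R).1 (hG ▸ Subgroup.mem_top g)
  exact mul_mem (mul_mem (Subgroup.mem_sup_left h1) (Subgroup.mem_sup_right ⟨w, hk⟩)) (Subgroup.mem_sup_left h2)

/-- the standard situation -/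
structure Ctx (cs : CoxeterSystem M W) (h : IsCartan M A) (T : Subgroup Y) (X : (I → ℤ) → Subgroup Y)
    (S : Subgroup (MulAut Y)) (J : Set I) : Prop where
  gen : RGD.Sup X {x | IsRoot cs h x} = ⊤
  cen : Subgroup.center Y = ⊥
  conn : Conn M
  solv : Group.IsSolvable S
  max : MaxInv (InnG Y) S
  par : ∀ g, MulAut.conj g ∈ S ↔ g ∈ PJ cs h T X J
  ne : ∃ o, o ∉ J

namespace Ctx

variable {S : Subgroup (MulAut Y)} {J : Set I} (C : Ctx cs h T X S J)
include C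

theorem top : GG cs h T X = ⊤ := GG_eq_top C.gen

theorem fix {s : MulAut Y} (hs : s ∈ S) : _root_.Cfsg.Agent.KFacts.RgdAut.Fix s (PJ cs h T X J) := fun x => by
  rw [← C.par, ← C.par, ← conj_conj']
  exact ⟨fun h1 => by simpa only [mul_assoc, _root_.inv_mul_cancel_left, _root_.inv_mul_cancel, _root_.mul_one] using mul_mem (mul_mem (inv_mem hs) h1) hs,
    fun h1 => mul_mem (mul_mem hs h1) (inv_mem hs)⟩

/-- subgroups of `P_J` are solvable -/
theorem solvable {H : Subgroup Y} (hH : H ≤ PJ cs h T X J) : Group.IsSolvable H := by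
  have := C.solv
  refine Group.isSolvable_of_isSolvable_injective
    (f := (MulAut.conj.comp H.subtype).codRestrict S fun x => (C.par _).2 (hH x.2)) ?_
  rw [injective_iff_map_eq_one]
  intro x hx
  exact Subtype.ext (conj_inj C.cen (congrArg Subtype.val hx))

variable [Finite W] [Finite Y] [Fact p.Prime] (R : RGD cs h p T n X)
include R

theorem decomp {s : MulAut Y} (hs : s ∈ S) : ∃ g ∈ PJ cs h T X J, ∃ β ∈ S, ∃ σ, Fr cs h T X β σ ∧
    (∀ i, σ i ∈ J ↔ i ∈ J) ∧ s = MulAut.conj g * β := by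
  have hUP : RGD.Sup X (RGD.Pos cs h) ≤ PJ cs h T X J := RGD.U_le_B.trans B_le_PJ
  obtain ⟨g, hg, h1⟩ := exists_fix_of_max R.isPGroup_Upos hUP
    (fun Q hQ hle => eq_U_of_isPGroup R hQ hle (by rw [C.top]; exact le_top)) (C.fix hs)
  obtain ⟨u, hu, h2, h3, -, σ, D⟩ := exists_frame_pow R C.top h1
  have hβ : MulAut.conj u * (MulAut.conj g * s) ∈ S :=
    mul_mem ((C.par u).2 (hUP hu)) (mul_mem ((C.par g).2 hg) hs)
  have F : Fr cs h T X _ σ := ⟨h2, h3, D⟩
  refine ⟨(u * g)⁻¹, inv_mem (mul_mem (hUP hu) hg), _, hβ, σ, F, F.mem_of_PJ R (C.fix hβ), ?_⟩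
  rw [← mul_assoc (MulAut.conj u), ← map_mul, ← mul_assoc, ← map_mul, inv_mul_cancel, map_one, one_mul]

theorem trans {a b : I} (ha : a ∉ J) (hb : b ∉ J) : ∃ β ∈ S, ∃ σ, Fr cs h T X β σ ∧ σ a = b := by
  set K : Set I := {k | k ∈ J ∨ ∃ β ∈ S, ∃ σ, Fr cs h T X β σ ∧ σ a = k} with hK
  have hJK : J ⊆ K := fun k hk => Or.inl hk
  have step : ∀ β ∈ S, ∀ σ, Fr cs h T X β σ → ∀ i ∈ K, σ i ∈ K := by
    rintro β hβ σ F i (hi | ⟨β', hβ', σ', F', rfl⟩)
    · exact Or.inl ((F.mem_of_PJ R (C.fix hβ) i).2 hi)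
    · exact Or.inr ⟨_, mul_mem hβ hβ', _, F.mul F', rfl⟩
  have hfix : ∀ s ∈ S, _root_.Cfsg.Agent.KFacts.RgdAut.Fix s (PJ cs h T X K) := by
    intro s hs
    obtain ⟨g, hg, β, hβ, σ, F, -, rfl⟩ := C.decomp R hs
    refine (mp_conj_of_mem (PJ_mono hJK hg)).mul (F.mapP R C.top fun i => ⟨fun hi => ?_, step β hβ σ F i⟩)
    simpa using step _ (inv_mem hβ) _ F.inv _ hi
  rcases C.max ((PJ cs h T X K).map MulAut.conj) (by
      rintro _ ⟨h1, g, rfl⟩
      exact ⟨g, PJ_mono hJK ((C.par g).1 h1), rfl⟩) (Subgroup.map_le_range _ _) (by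
      rintro s hs _ ⟨g, hg, rfl⟩
      exact ⟨s g, (hfix s hs g).2 hg, (conj_conj' s g).symm⟩) with h1 | h1
  · have h2 : MulAut.conj (n b) ∈ (PJ cs h T X K).map MulAut.conj := by
      rw [h1]
      exact ⟨_, rfl⟩
    obtain ⟨g, hg, e⟩ := h2
    have h3 : g⁻¹ * n b = 1 := conj_inj C.cen (by rw [map_mul, map_inv, e, inv_mul_cancel])
    rw [inv_mul_eq_one.1 h3] at hg
    exact ((rp_mem_PJ_iff R (rp_simple cs R.nsys b)).1 hg).resolve_left hb
  · have h2 : n a ∈ PJ cs h T X K :=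
      (rp_mem_PJ_iff R (rp_simple cs R.nsys a)).2 (Or.inr ⟨1, one_mem _, 1, Fr.one, rfl⟩)
    exact absurd ((rp_mem_PJ_iff R (rp_simple cs R.nsys a)).1 ((C.par _).1 (h1 ⟨_, h2, rfl⟩))) ha

theorem orb : Orb M J (op cs) where
  conn := C.conn
  ne := C.ne
  indep := fun i hi j hj hij => H938.not_isSolvable_LJ Fact.out R (hgen_of R C.top) hij.1 hij.2
    (C.solvable ((LJ_mono (by
      rintro k (rfl | rfl)
      exacts [hi, hj])).trans LJ_le_PJ))
  trans := fun a b ha hb => by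
    obtain ⟨β, hβ, σ, F, e⟩ := C.trans R ha hb
    exact ⟨σ, F.D.matrix R, F.mem_of_PJ R (C.fix hβ), F.op_comm R C.top, e⟩

end Ctx

end Cfsg.Agent.SB.Par
end

-- part: SB/Par/Nielsen
section
/-!
# S5765, parabolic case: recolouring of triples by Nielsen moves (helper64)

`exists_three` : `H` a solvable subgroup of the finite group `G`, `v ≠ 1` a triple of elements of `G`. Then there are
three triples generating the same subgroup as `v` which are pairwise not conjugate under `H`.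
`exists_three_mod` : the same modulo a subgroup `N`.
-/

set_option autoImplicit false

namespace Cfsg.Agent.SB.Par

open Subgroup
open scoped commutatorElement

section Nielsen

variable {G : Type*} [Group G]

/-- the Nielsen move `v a ↦ v a * v b` -/
def nie (a b : Fin 3) (hab : a ≠ b) : Equiv.Perm (Fin 3 → G) where
  toFun v := Function.update v a (v a * v b)
  invFun v := Function.update v a (v a * (v b)⁻¹)
  left_inv v := by
    funext c
    by_cases hc : c = a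
    · subst hc
      simp [Function.update_of_ne hab.symm]
    · simp [Function.update_of_ne hc]
  right_inv v := by
    funext c
    by_cases hc : c = a
    · subst hc
      simp [Function.update_of_ne hab.symm]
    · simp [Function.update_of_ne hc]

theorem nie_apply (a b : Fin 3) (hab : a ≠ b) (v : Fin 3 → G) :
    nie a b hab v = Function.update v a (v a * v b) := rfl

theorem nie_inv_apply (a b : Fin 3) (hab : a ≠ b) (v : Fin 3 → G) :
    (nie a b hab)⁻¹ v = Function.update v a (v a * (v b)⁻¹) := rfl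

theorem nie_comm {a b c : Fin 3} (hab : a ≠ b) (hbc : b ≠ c) (hac : a ≠ c) :
    (nie a c hac : Equiv.Perm (Fin 3 → G)) = nie a b hab * nie b c hbc * (nie a b hab)⁻¹ * (nie b c hbc)⁻¹ := by
  ext v d
  simp only [Equiv.Perm.mul_apply, nie_apply, nie_inv_apply]
  by_cases h1 : d = a
  · subst h1
    simp [Function.update_of_ne hab, Function.update_of_ne hab.symm, Function.update_of_ne hbc.symm,
      Function.update_of_ne hac.symm, mul_assoc]
  · by_cases h2 : d = b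
    · subst h2
      simp [Function.update_of_ne hab.symm, Function.update_of_ne hbc.symm, Function.update_of_ne hac.symm]
    · simp [Function.update_of_ne h1, Function.update_of_ne h2]

theorem exists_third : ∀ a c : Fin 3, a ≠ c → ∃ b, a ≠ b ∧ b ≠ c := by decide

theorem exists_other : ∀ b : Fin 3, ∃ a, a ≠ b := by decide

/-- simultaneous conjugation -/
def ac (g : G) (v : Fin 3 → G) : Fin 3 → G := fun a => g * v a * g⁻¹

theorem ac_mul (g k : G) (v : Fin 3 → G) : ac (g * k) v = ac g (ac k v) := by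
  funext a
  simp only [ac]
  group

theorem ac_one (v : Fin 3 → G) : ac 1 v = v := by
  funext a
  simp [ac]

/-- the permutations of the triples commuting with conjugation and preserving the generated subgroup -/
def Gam (G : Type*) [Group G] : Subgroup (Equiv.Perm (Fin 3 → G)) where
  carrier := {γ | (∀ g v, γ (ac g v) = ac g (γ v)) ∧ ∀ v, _root_.Subgroup.closure (Set.range (γ v)) = closure (Set.range v)}
  one_mem' := ⟨fun _ _ => rfl, fun _ => rfl⟩
  mul_mem' := by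
    rintro γ δ ⟨h1, h2⟩ ⟨h3, h4⟩
    exact ⟨fun g v => by rw [Equiv.Perm.mul_apply, h3, h1, Equiv.Perm.mul_apply],
      fun v => by rw [Equiv.Perm.mul_apply, h2, h4]⟩
  inv_mem' := by
    rintro γ ⟨h1, h2⟩
    refine ⟨fun g v => γ.injective ?_, fun v => ?_⟩
    · rw [h1]
      simp
    · rw [← h2 (γ⁻¹ v)]
      simp

theorem nie_mem (a b : Fin 3) (hab : a ≠ b) : nie a b hab ∈ Gam G := by
  refine ⟨fun g v => ?_, fun v => ?_⟩
  · funext c
    by_cases hc : c = a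
    · subst hc
      simp only [nie_apply, ac, Function.update_self]
      group
    · simp only [nie_apply, ac, Function.update_of_ne hc]
  · have hv : ∀ c, v c ∈ _root_.Subgroup.closure (Set.range v) := fun c => subset_closure ⟨c, rfl⟩
    have hw : ∀ c, nie a b hab v c ∈ _root_.Subgroup.closure (Set.range (nie a b hab v)) := fun c => subset_closure ⟨c, rfl⟩
    apply le_antisymm
    · rw [closure_le]
      rintro _ ⟨c, rfl⟩
      by_cases hc : c = a
      · subst hc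
        rw [nie_apply, Function.update_self]
        exact mul_mem (hv _) (hv _)
      · rw [nie_apply, Function.update_of_ne hc]
        exact hv _
    · rw [closure_le]
      rintro _ ⟨c, rfl⟩
      by_cases hc : c = a
      · subst hc
        have h1 := mul_mem (hw c) (inv_mem (hw b))
        rw [nie_apply, Function.update_self, Function.update_of_ne hab.symm, mul_inv_cancel_right] at h1
        exact h1
      · have h1 := hw c
        rw [nie_apply, Function.update_of_ne hc] at h1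
        exact h1

theorem comm_apply {γ δ : Equiv.Perm (Fin 3 → G)} (hγ : γ ∈ Gam G) (hδ : δ ∈ Gam G) {v : Fin 3 → G} {g k : G}
    (h1 : γ v = ac g v) (h2 : δ v = ac k v) : (γ * δ * γ⁻¹ * δ⁻¹) v = ac ⁅k⁻¹, g⁻¹⁆ v := by
  have h3 : γ⁻¹ v = ac g⁻¹ v := by
    apply γ.injective
    rw [hγ.1, h1, ← ac_mul]
    simp [ac_one]
  have h4 : δ⁻¹ v = ac k⁻¹ v := by
    apply δ.injective
    rw [hδ.1, h2, ← ac_mul]
    simp [ac_one]
  simp only [Equiv.Perm.mul_apply]
  rw [h4, (inv_mem hγ).1, h3, hδ.1, hδ.1, h2, hγ.1, hγ.1, hγ.1, h1, ← ac_mul, ← ac_mul, ← ac_mul,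
    commutatorElement_def, inv_inv, inv_inv]

/-- a solvable group can not imitate all Nielsen moves -/
theorem eq_one_of_nie {H : Subgroup G} (hH : Group.IsSolvable H) {v : Fin 3 → G}
    (h0 : ∀ a b hab, ∃ h ∈ H, nie a b hab v = ac h v) : v = 1 := by
  have key : ∀ k : ℕ, ∀ a b hab, ∃ h : H, h ∈ derivedSeries H k ∧ nie a b hab v = ac (h : G) v := by
    intro k
    induction k with
    | zero =>
      intro a b hab
      obtain ⟨h, hh, e⟩ := h0 a b hab
      exact ⟨⟨h, hh⟩, by simp, e⟩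
    | succ k ih =>
      intro a c hac
      obtain ⟨b, hab, hbc⟩ := exists_third a c hac
      obtain ⟨g, hg, e1⟩ := ih a b hab
      obtain ⟨l, hl, e2⟩ := ih b c hbc
      refine ⟨⁅l⁻¹, g⁻¹⁆, ?_, ?_⟩
      · rw [derivedSeries_succ]
        exact commutator_mem_commutator (inv_mem hl) (inv_mem hg)
      · rw [nie_comm hab hbc hac, comm_apply (nie_mem a b hab) (nie_mem b c hbc) e1 e2]
        rfl
  obtain ⟨k, hk⟩ := hH
  funext b
  obtain ⟨a, hab⟩ := exists_other b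
  obtain ⟨h, hh, e⟩ := key k a b hab
  rw [hk, mem_bot] at hh
  rw [hh, OneMemClass.coe_one, ac_one] at e
  have h1 := congrFun e a
  rw [nie_apply, Function.update_self] at h1
  exact mul_eq_left.1 h1

/-- the moves imitated by `H` -/
def Imi (H : Subgroup G) (v : Fin 3 → G) : Subgroup (Gam G) where
  carrier := {γ | ∃ h ∈ H, γ.1 v = ac h v}
  one_mem' := ⟨1, one_mem _, (ac_one v).symm⟩
  mul_mem' := by
    rintro γ δ ⟨g, hg, e1⟩ ⟨k, hk, e2⟩
    refine ⟨k * g, mul_mem hk hg, ?_⟩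
    rw [Subgroup.coe_mul, Equiv.Perm.mul_apply, e2, γ.2.1, e1, ac_mul]
  inv_mem' := by
    rintro γ ⟨g, hg, e1⟩
    refine ⟨g⁻¹, inv_mem hg, γ.1.injective ?_⟩
    rw [γ.2.1, e1, ← ac_mul]
    simp [ac_one]

/-- **Recolouring.** -/
theorem exists_three [Finite G] {H : Subgroup G} (hH : Group.IsSolvable H) {v : Fin 3 → G} (hv : v ≠ 1) :
    ∃ w : Fin 3 → Fin 3 → G, (∀ s, _root_.Subgroup.closure (Set.range (w s)) = closure (Set.range v)) ∧
      ∀ s t, ∀ h ∈ H, ac h (w s) = w t → s = t := by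
  classical
  have h3 : 3 ≤ (Imi H v).index := by
    by_contra hcon
    have h0 : (Imi H v).index ≠ 0 := index_ne_zero_of_finite
    apply hv
    refine eq_one_of_nie hH fun a c hac => ?_
    have h1 : (⟨nie a c hac, nie_mem a c hac⟩ : Gam G) ∈ Imi H v := by
      by_cases h1 : (Imi H v).index = 1
      · rw [index_eq_one] at h1
        rw [h1]
        exact mem_top _
      · have h2 : (Imi H v).index = 2 := by omega
        obtain ⟨b, hab, hbc⟩ := exists_third a c hac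
        have e : (⟨nie a c hac, nie_mem a c hac⟩ : Gam G) = ⟨nie a b hab, nie_mem a b hab⟩ *
            ⟨nie b c hbc, nie_mem b c hbc⟩ * (⟨nie a b hab, nie_mem a b hab⟩ : Gam G)⁻¹ *
            (⟨nie b c hbc, nie_mem b c hbc⟩ : Gam G)⁻¹ := Subtype.ext (nie_comm hab hbc hac)
        rw [e]
        simp only [mul_mem_iff_of_index_two h2, inv_mem_iff]
        (clear * -; tauto)
    exact h1
  have _ := Fintype.ofFinite (Gam G ⧸ Imi H v)
  have h3' : Fintype.card (Fin 3) ≤ Fintype.card (Gam G ⧸ Imi H v) := by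
    rw [Fintype.card_fin, ← Nat.card_eq_fintype_card]
    exact h3
  obtain ⟨f⟩ := Function.Embedding.nonempty_of_card_le h3'
  refine ⟨fun s => ((f s).out).1 v, fun s => ((f s).out).2.2 v, fun s t h hh e => ?_⟩
  apply f.injective
  rw [← QuotientGroup.out_eq' (f s), ← QuotientGroup.out_eq' (f t)]
  refine QuotientGroup.eq.2 ⟨h, hh, ((f s).out).1.injective ?_⟩
  rw [((f s).out).2.1, e]
  simp only [_root_.Subgroup.coe_mul, _root_.InvMemClass.coe_inv, _root_.Equiv.Perm.coe_mul, _root_.Equiv.Perm.coe_inv, _root_.Function.comp_apply, _root_.Equiv.apply_symm_apply]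

/-- **Recolouring modulo a subgroup.** -/
theorem exists_three_mod [Finite G] {N V H : Subgroup G} (hH : Group.IsSolvable H) (hNV : N ≤ V) (hne : N ≠ V)
    (hV : V ≤ normalizer (N : Set G)) (hHN : H ≤ normalizer (N : Set G)) {v : Fin 3 → G} (hv : ∀ a, v a ∈ V) :
    ∃ w : Fin 3 → Fin 3 → G, (∀ s a, w s a ∈ V) ∧
      (∀ s, ∀ k ∈ normalizer (N : Set G), (∀ a, (w s a)⁻¹ * (k * w s a * k⁻¹) ∈ N) →
        ∀ a, (v a)⁻¹ * (k * v a * k⁻¹) ∈ N) ∧
      ∀ s t, ∀ h ∈ H, (∀ a, (w t a)⁻¹ * (h * w s a * h⁻¹) ∈ N) → s = t := by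
  classical
  -- without loss of generality `v` is not trivial modulo `N`
  have main : ∀ v : Fin 3 → G, (∀ a, v a ∈ V) → (∃ a, v a ∉ N) → ∃ w : Fin 3 → Fin 3 → G, (∀ s a, w s a ∈ V) ∧
      (∀ s, ∀ k ∈ normalizer (N : Set G), (∀ a, (w s a)⁻¹ * (k * w s a * k⁻¹) ∈ N) →
        ∀ a, (v a)⁻¹ * (k * v a * k⁻¹) ∈ N) ∧
      ∀ s t, ∀ h ∈ H, (∀ a, (w t a)⁻¹ * (h * w s a * h⁻¹) ∈ N) → s = t := by
    intro v hv hvN
    set L := normalizer (N : Set G) with hL
    have hn : (N.subgroupOf L).Normal := normal_in_normalizer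
    let π : L →* L ⧸ N.subgroupOf L := QuotientGroup.mk' _
    have hπ : ∀ a b : L, π a = π b ↔ (a : G)⁻¹ * b ∈ N := fun a b => QuotientGroup.eq
    let v' : Fin 3 → L ⧸ N.subgroupOf L := fun a => π ⟨v a, hV (hv a)⟩
    have hv' : v' ≠ 1 := by
      intro h
      obtain ⟨a, ha⟩ := hvN
      have h1 : π 1 = π ⟨v a, hV (hv a)⟩ := by
        rw [map_one]
        exact (congrFun h a).symm
      rw [hπ] at h1
      exact ha (by simpa only [_root_.OneMemClass.coe_one, _root_.inv_one, _root_.one_mul] using h1)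
    have hsol : Group.IsSolvable ((H.subgroupOf L).map π) := by
      have h1 : Group.IsSolvable (H.subgroupOf L) :=
        Group.isSolvable_of_surjective (f := (subgroupOfEquivOfLe hHN).symm.toMonoidHom)
          (subgroupOfEquivOfLe hHN).symm.surjective
      exact Group.isSolvable_of_surjective (π.subgroupMap_surjective _)
    obtain ⟨w', hw1, hw2⟩ := exists_three hsol hv'
    have hlift : ∀ s a, ∃ y : L, (y : G) ∈ V ∧ π y = w' s a := by
      intro s a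
      have h1 : w' s a ∈ _root_.Subgroup.closure (Set.range v') := by
        rw [← hw1 s]
        exact subset_closure ⟨a, rfl⟩
      have h2 : closure (Set.range v') ≤ (V.subgroupOf L).map π := by
        rw [closure_le]
        rintro _ ⟨b, rfl⟩
        exact ⟨⟨v b, hV (hv b)⟩, hv b, rfl⟩
      obtain ⟨y, hy, e⟩ := h2 h1
      exact ⟨y, hy, e⟩
    choose y hy1 hy2 using hlift
    refine ⟨fun s a => y s a, hy1, fun s k hk hf a => ?_, fun s t h hh hf => ?_⟩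
    · have h1 : _root_.Subgroup.closure (Set.range (w' s)) ≤ centralizer {π ⟨k, hk⟩} := by
        rw [closure_le]
        rintro _ ⟨b, rfl⟩
        rw [SetLike.mem_coe, mem_centralizer_singleton_iff, ← hy2]
        have h2 : π (y s b) = π (⟨k, hk⟩ * y s b * (⟨k, hk⟩ : L)⁻¹) := (hπ _ _).2 (hf b)
        conv_lhs => rw [h2]
        simp only [_root_.map_mul, _root_.map_inv, _root_.inv_mul_cancel_right]
      rw [hw1 s] at h1
      have h2 := h1 (subset_closure ⟨a, rfl⟩)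
      rw [mem_centralizer_singleton_iff] at h2
      have h3 : π ⟨v a, hV (hv a)⟩ = π (⟨k, hk⟩ * ⟨v a, hV (hv a)⟩ * (⟨k, hk⟩ : L)⁻¹) := by
        rw [map_mul, map_mul, map_inv, eq_mul_inv_iff_mul_eq]
        exact h2
      exact (hπ _ _).1 h3
    · refine hw2 s t (π ⟨h, hHN hh⟩) ⟨⟨h, hHN hh⟩, hh, rfl⟩ ?_
      funext a
      have h2 : π (y t a) = π (⟨h, hHN hh⟩ * y s a * (⟨h, hHN hh⟩ : L)⁻¹) := (hπ _ _).2 (hf a)
      rw [← hy2 t a, h2, map_mul, map_mul, map_inv, hy2]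
      rfl
  by_cases hvN : ∃ a, v a ∉ N
  · exact main v hv hvN
  · push Not at hvN
    obtain ⟨z, hz, hzN⟩ : ∃ z ∈ V, z ∉ N := by
      by_contra hcon
      push Not at hcon
      exact hne (le_antisymm hNV hcon)
    obtain ⟨w, h1, -, h3⟩ := main (fun _ => z) (fun _ => hz) ⟨0, hzN⟩
    exact ⟨w, h1, fun s k hk _ a => mul_mem (inv_mem (hvN a)) ((mem_normalizer_iff.1 hk _).1 (hvN a)), h3⟩

end Nielsen

end Cfsg.Agent.SB.Par
end

-- part: SB/Par/Split
section
/-!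
# S5765, parabolic case: the group theoretic end game (helper64)

`S = V D`, `V` a normal `p`-subgroup, `D = S ∩ S^x`.

* `fitReg_of` : `D` acts faithfully on `V` and normalises no non-trivial `p`-subgroup of itself: `FitReg`;
* `seven_of_split` : `S` permutes at most three pairwise comaximal subgroups `N i` of `V` with non-trivial intersection
  `M`, and the kernel `D₀` of `D` has these properties on `V / M`: `Seven`.
-/

set_option autoImplicit false

namespace Cfsg.Agent.SB.Par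

open Subgroup Cfsg Cfsg.Agent.H786.FC

universe u

/-- `p'`-elements of the Fitting subgroup centralise normal `p`-subgroups -/
theorem exists_pow_comm {G : Type*} [Group G] [Finite G] {p : ℕ} [hp : Fact p.Prime] {V : Subgroup G} (hV : V.Normal)
    (hVp : IsPGroup p V) {m : ℕ} (hm : m ≠ 0) :
    ∃ k : ℕ, ∀ f ∈ fittingSubgroup G, f ^ m = 1 → ∀ v ∈ V, f ^ p ^ k * v = v * f ^ p ^ k := by
  obtain ⟨k, m', hm', e⟩ := Nat.exists_eq_pow_mul_and_not_dvd hm p hp.out.ne_one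
  refine ⟨k, fun f hf hfm v hv => ?_⟩
  have hn : Group.IsNilpotent (fittingSubgroup G) := Lib.Cores.fittingSubgroup_isNilpotent
  have hVF : V ≤ fittingSubgroup G := Lib.Cores.le_fittingSubgroup hV hVp.isNilpotent
  obtain ⟨j, hj⟩ := hVp ⟨v, hv⟩
  have h1 : (⟨f ^ p ^ k, pow_mem hf _⟩ : fittingSubgroup G) ^ m' = 1 := by
    apply Subtype.ext
    show (f ^ p ^ k) ^ m' = 1
    rw [← pow_mul, ← e, hfm]
  have h2 : (⟨v, hVF hv⟩ : fittingSubgroup G) ^ p ^ j = 1 :=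
    Subtype.ext (show v ^ p ^ j = 1 from congrArg Subtype.val hj)
  have h3 : m'.Coprime (p ^ j) := (Nat.Coprime.pow_left j ((Nat.Prime.coprime_iff_not_dvd hp.out).2 hm')).symm
  exact congrArg Subtype.val (Lib.NilpotentCoprime.commute_of_pow_eq_one h3 h1 h2).eq

variable {A : Type u} [Group A] [Finite A] {T S V : Subgroup A} {x : A} {p : ℕ} [Fact p.Prime]

/-- `D = S ∩ S^x` -/
def DD (S : Subgroup A) (x : A) : Subgroup A := S ⊓ S.comap (MulAut.conj x⁻¹).toMonoidHom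

omit [Finite A] in
theorem mem_DD {k : A} : k ∈ DD S x ↔ k ∈ S ∧ x⁻¹ * k * x ∈ S := by
  simp only [DD, _root_.map_inv, _root_.MulEquiv.toMonoidHom_eq_coe, _root_.Subgroup.mem_inf, _root_.Subgroup.mem_comap, _root_.MonoidHom.coe_coe, _root_.MulAut.inv_apply, _root_.MulAut.conj_symm_apply]

theorem fitReg_of (hx : x ∈ T) (hVS : V ≤ S) (hVn : ∀ s ∈ S, ∀ v ∈ V, s * v * s⁻¹ ∈ V) (hVp : IsPGroup p V)
    (H1 : ∀ E : Subgroup A, E ≤ DD S x → IsPGroup p E → (∀ d ∈ DD S x, ∀ e ∈ E, d * e * d⁻¹ ∈ E) → E = ⊥)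
    (H2 : ∀ k ∈ DD S x, (∀ v ∈ V, k * v = v * k) → k = 1) : FitReg T S := by
  have hFn : (fittingSubgroup S).Normal := Lib.Cores.fittingSubgroup_normal
  have hn : (V.subgroupOf S).Normal := ⟨fun v hv s => hVn s s.2 v hv⟩
  obtain ⟨k, hk⟩ := exists_pow_comm hn (hVp.comap_subtype) (m := Nat.card S) Nat.card_pos.ne'
  have hE := H1 ((fittingSubgroup S).map S.subtype ⊓ DD S x) inf_le_right ?_ ?_
  · refine ⟨x, hx, fun v hv hvx => Subtype.ext ?_⟩
    have h1 : (v : A) ∈ (fittingSubgroup S).map S.subtype ⊓ DD S x := ⟨⟨v, hv, rfl⟩, mem_DD.2 ⟨v.2, hvx⟩⟩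
    rwa [hE, mem_bot] at h1
  · rintro ⟨_, ⟨f, hf, rfl⟩, hfD⟩
    refine ⟨k, Subtype.ext (H2 _ (pow_mem hfD _) fun v hv => ?_)⟩
    exact congrArg Subtype.val (hk f hf pow_card_eq_one' ⟨v, hVS hv⟩ hv)
  · rintro d hd _ ⟨⟨f, hf, rfl⟩, hfD⟩
    exact ⟨⟨_, hFn.conj_mem f hf ⟨d, (mem_DD.1 hd).1⟩, rfl⟩, (DD S x).mul_mem (mul_mem hd hfD) (inv_mem hd)⟩

omit [Finite A] [Fact p.Prime] in
/-- chinese remainder theorem -/
theorem crt {O : Type*} [Finite O] {N : O → Subgroup A} (hn : ∀ i, V ≤ normalizer (N i : Set A))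
    (hco : ∀ i, ∀ v ∈ V, ∃ w ∈ V, w⁻¹ * v ∈ N i ∧ ∀ j, j ≠ i → w ∈ N j) {f : O → A} (hf : ∀ i, f i ∈ V) :
    ∃ u ∈ V, ∀ i, u⁻¹ * f i ∈ N i := by
  classical
  have _ := Fintype.ofFinite O
  have key : ∀ s : Finset O, ∃ u ∈ V, (∀ i ∈ s, u⁻¹ * f i ∈ N i) ∧ ∀ j, j ∉ s → u ∈ N j := by
    intro s
    induction s using Finset.induction_on with
    | empty => exact ⟨1, one_mem _, by simp, fun j _ => one_mem _⟩
    | insert i s hi ih =>
      obtain ⟨u, hu, h1, h2⟩ := ih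
      obtain ⟨w, hw, h3, h4⟩ := hco i (f i) (hf i)
      refine ⟨u * w, mul_mem hu hw, fun j hj => ?_, fun j hj => ?_⟩
      · rcases Finset.mem_insert.1 hj with rfl | hj
        · have h5 := (mem_normalizer_iff.1 (hn j (inv_mem hw)) u⁻¹).1 (inv_mem (h2 j hi))
          have e : (u * w)⁻¹ * f j = w⁻¹ * u⁻¹ * w⁻¹⁻¹ * (w⁻¹ * f j) := by group
          rw [e]
          exact mul_mem h5 h3
        · have e : (u * w)⁻¹ * f j = w⁻¹ * (u⁻¹ * f j) := by group
          rw [e]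
          exact mul_mem (inv_mem (h4 j fun h => hi (h ▸ hj))) (h1 j hj)
      · rw [Finset.mem_insert, not_or] at hj
        exact mul_mem (h2 j hj.2) (h4 j hj.1)
  obtain ⟨u, hu, h1, -⟩ := key Finset.univ
  exact ⟨u, hu, fun i => h1 i (Finset.mem_univ i)⟩

/-- a regular triple for the kernel `D₀` (Seress) -/
theorem exists_triple (hS : Group.IsSolvable S) {M S₀ : Subgroup A} (hVS : V ≤ S₀) (hS₀ : S₀ ≤ S)
    (hS₀n : ∀ s ∈ S, ∀ v ∈ S₀, s * v * s⁻¹ ∈ S₀)
    (hVn : ∀ s ∈ S, ∀ v ∈ V, s * v * s⁻¹ ∈ V) (hVp : IsPGroup p V) (hMn : ∀ s ∈ S, ∀ v ∈ M, s * v * s⁻¹ ∈ M)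
    (hSD : ∀ s ∈ S, ∃ v ∈ V, ∃ d ∈ DD S x, s = v * d)
    (H1 : ∀ E : Subgroup A, E ≤ DD S x ⊓ S₀ → IsPGroup p E → (∀ d ∈ DD S x, ∀ e ∈ E, d * e * d⁻¹ ∈ E) → E = ⊥)
    (H2 : ∀ k ∈ DD S x ⊓ S₀, (∀ v ∈ V, v⁻¹ * (k * v * k⁻¹) ∈ M) → k = 1) :
    ∃ v : Fin 3 → A, (∀ a, v a ∈ V) ∧ ∀ k ∈ DD S x ⊓ S₀, (∀ a, (v a)⁻¹ * (k * v a * k⁻¹) ∈ M) → k = 1 := by
  have hMn' : (M.subgroupOf S).Normal := ⟨fun v hv s => hMn s s.2 v hv⟩
  have hVn' : (V.subgroupOf S).Normal := ⟨fun v hv s => hVn s s.2 v hv⟩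
  have hS₀n' : (S₀.subgroupOf S).Normal := ⟨fun v hv s => hS₀n s s.2 v hv⟩
  let π : S →* S ⧸ M.subgroupOf S := QuotientGroup.mk' _
  have hπs : Function.Surjective π := QuotientGroup.mk'_surjective _
  have hπ : ∀ a b : S, π a = π b ↔ (a : A)⁻¹ * b ∈ M := fun a b => QuotientGroup.eq
  have hsolq : Group.IsSolvable (S ⧸ M.subgroupOf S) := Group.isSolvable_of_surjective hπs
  have hFn : (fittingSubgroup (S ⧸ M.subgroupOf S)).Normal := Lib.Cores.fittingSubgroup_normal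
  have hVq : ((V.subgroupOf S).map π).Normal := hVn'.map π hπs
  have hVqp : IsPGroup p ((V.subgroupOf S).map π) := (hVp.comap_subtype).map π
  have hG₀ : ((S₀.subgroupOf S).map π).Normal := hS₀n'.map π hπs
  have hVF : (V.subgroupOf S).map π ≤ fittingSubgroup (S ⧸ M.subgroupOf S) :=
    Lib.Cores.le_fittingSubgroup hVq hVqp.isNilpotent
  obtain ⟨k, hk⟩ := exists_pow_comm hVq hVqp (m := Nat.card S) Nat.card_pos.ne'
  have hcomm : ∀ k v : S, π k * π v = π v * π k ↔ (v : A)⁻¹ * (k * v * (k : A)⁻¹) ∈ M := by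
    intro k v
    have h1 := hπ v (k * v * k⁻¹)
    rw [map_mul, map_mul, map_inv, eq_mul_inv_iff_mul_eq, eq_comm] at h1
    exact h1
  have hE := H1 (((fittingSubgroup (S ⧸ M.subgroupOf S)).comap π).map S.subtype ⊓ (DD S x ⊓ S₀)) inf_le_right ?_ ?_
  rotate_left
  · rintro ⟨_, ⟨f, hf, rfl⟩, hfD⟩
    refine ⟨k, Subtype.ext (H2 _ (pow_mem hfD _) fun v hv => ?_)⟩
    have h1 := hk (π f) hf (by rw [← map_pow, pow_card_eq_one', map_one]) (π ⟨v, hS₀ (hVS hv)⟩) ⟨_, hv, rfl⟩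
    rw [← map_pow] at h1
    exact (hcomm _ _).1 h1
  · rintro d hd _ ⟨⟨f, hf, rfl⟩, hfD, hf0⟩
    refine ⟨⟨⟨d, (mem_DD.1 hd).1⟩ * f * (⟨d, (mem_DD.1 hd).1⟩ : S)⁻¹, ?_, rfl⟩,
      (DD S x).mul_mem (mul_mem hd hfD) (inv_mem hd), hS₀n d (mem_DD.1 hd).1 _ hf0⟩
    exact (hFn.comap π).conj_mem f hf _
  have hone : ∀ d : S, (d : A) ∈ DD S x ⊓ S₀ → π d ∈ fittingSubgroup (S ⧸ M.subgroupOf S) → (d : A) = 1 := by
    intro d hd hF
    have h1 : (d : A) ∈ ((fittingSubgroup (S ⧸ M.subgroupOf S)).comap π).map S.subtype ⊓ (DD S x ⊓ S₀) :=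
      ⟨⟨d, hF, rfl⟩, hd⟩
    rwa [hE, mem_bot] at h1
  have hFeq := Lib.Cores.map_subtype_fittingSubgroup hG₀
  have hlift : ∀ w ∈ fittingSubgroup ((S₀.subgroupOf S).map π), ∃ v : S, (v : A) ∈ V ∧ π v = w := by
    intro w hw
    have h1 : (w : S ⧸ M.subgroupOf S) ∈ (S₀.subgroupOf S).map π ⊓ fittingSubgroup (S ⧸ M.subgroupOf S) := by
      rw [← hFeq]
      exact ⟨w, hw, rfl⟩
    obtain ⟨⟨s, hs, e⟩, h2⟩ := h1
    obtain ⟨v, hv, d, hd, e2⟩ := hSD s s.2
    have hd0 : d ∈ S₀ := by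
      have h3 := mul_mem (inv_mem (hVS hv)) (show (s : A) ∈ S₀ from hs)
      rwa [e2, inv_mul_cancel_left] at h3
    have e3 : s = ⟨v, hS₀ (hVS hv)⟩ * ⟨d, hS₀ hd0⟩ := Subtype.ext e2
    have h4 : π ⟨d, hS₀ hd0⟩ ∈ fittingSubgroup (S ⧸ M.subgroupOf S) := by
      have h5 := mul_mem (inv_mem (hVF ⟨⟨v, hS₀ (hVS hv)⟩, hv, rfl⟩)) h2
      rwa [← e, e3, map_mul, inv_mul_cancel_left] at h5
    have h6 : d = 1 := hone ⟨d, hS₀ hd0⟩ ⟨hd, hd0⟩ h4
    refine ⟨s, ?_, e⟩
    rw [e2, h6, mul_one]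
    exact hv
  obtain ⟨w₁, h1, w₂, h2, w₃, h3, hw⟩ := fit_base (S := (S₀.subgroupOf S).map π)
  obtain ⟨v₁, a1, b1⟩ := hlift w₁ h1
  obtain ⟨v₂, a2, b2⟩ := hlift w₂ h2
  obtain ⟨v₃, a3, b3⟩ := hlift w₃ h3
  refine ⟨![v₁, v₂, v₃], fun a => ?_, fun k hk hf => ?_⟩
  · fin_cases a
    exacts [a1, a2, a3]
  have hkS : k ∈ S := hS₀ hk.2
  have h4 := hw ⟨π ⟨k, hkS⟩, ⟨k, hkS⟩, hk.2, rfl⟩
    (Subtype.ext (by simpa only [← b1, _root_.Subgroup.coe_mul] using (hcomm ⟨k, hkS⟩ v₁).2 (hf 0)))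
    (Subtype.ext (by simpa only [← b2, _root_.Subgroup.coe_mul] using (hcomm ⟨k, hkS⟩ v₂).2 (hf 1)))
    (Subtype.ext (by simpa only [← b3, _root_.Subgroup.coe_mul] using (hcomm ⟨k, hkS⟩ v₃).2 (hf 2)))
  have h5 : π ⟨k, hkS⟩ ∈ (S₀.subgroupOf S).map π ⊓ fittingSubgroup (S ⧸ M.subgroupOf S) := by
    rw [← hFeq]
    exact ⟨_, h4, rfl⟩
  exact hone ⟨k, hkS⟩ hk h5.2

/-- conjugation by `s` maps `N` onto `N'` -/
def Mv (s : A) (N N' : Subgroup A) : Prop := ∀ v, v ∈ N ↔ s * v * s⁻¹ ∈ N'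

omit [Finite A] in
theorem Mv.inv {s : A} {N N' : Subgroup A} (h : Mv s N N') : Mv s⁻¹ N' N := fun v => by
  rw [h]
  simp [mul_assoc]

omit [Finite A] in
theorem Mv.mul {s t : A} {N N' N'' : Subgroup A} (h : Mv s N' N'') (h' : Mv t N N') : Mv (s * t) N N'' := fun v => by
  rw [h', h]
  simp only [mul_assoc, _root_.mul_inv_rev]

/-- **The end game for several nodes.** -/
theorem seven_of_split (hT : T.Normal) (hS : Group.IsSolvable S) (hx : x ∈ T) (hVS : V ≤ S)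
    (hVn : ∀ s ∈ S, ∀ v ∈ V, s * v * s⁻¹ ∈ V) (hVp : IsPGroup p V) (hxV : ∀ v ∈ V, x⁻¹ * v * x ∈ S → v = 1)
    (hSD : ∀ s ∈ S, ∃ v ∈ V, ∃ d ∈ DD S x, s = v * d) {O : Type*} [Finite O] [Nonempty O] (hO : Nat.card O ≤ 3)
    {N : O → Subgroup A} (hNV : ∀ i, N i ≤ V) (hne : ∀ i, N i ≠ V) (hn : ∀ i, V ≤ normalizer (N i : Set A))
    (hperm : ∀ s ∈ S, ∀ i, ∃ j, Mv s (N i) (N j))
    (hco : ∀ i, ∀ v ∈ V, ∃ w ∈ V, w⁻¹ * v ∈ N i ∧ ∀ j, j ≠ i → w ∈ N j) (hM : ⨅ i, N i ≠ ⊥)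
    (H1 : ∀ E : Subgroup A, E ≤ DD S x ⊓ ⨅ i, normalizer (N i : Set A) → IsPGroup p E →
      (∀ d ∈ DD S x, ∀ e ∈ E, d * e * d⁻¹ ∈ E) → E = ⊥)
    (H2 : ∀ k ∈ DD S x ⊓ ⨅ i, normalizer (N i : Set A), (∀ v ∈ V, v⁻¹ * (k * v * k⁻¹) ∈ ⨅ i, N i) → k = 1) :
    Seven T S := by
  classical
  have _ := Fintype.ofFinite O
  have hMn : ∀ s ∈ S, ∀ v ∈ ⨅ i, N i, s * v * s⁻¹ ∈ ⨅ i, N i := by
    intro s hs v hv
    rw [mem_iInf] at hv ⊢
    intro i
    obtain ⟨j, hj⟩ := hperm s⁻¹ (inv_mem hs) i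
    have h1 := (hj.inv v).1 (hv j)
    rwa [inv_inv] at h1
  have hMV : ⨅ i, N i ≤ V := (iInf_le _ (Classical.arbitrary O)).trans (hNV _)
  have hDS : DD S x ≤ S := inf_le_left
  have hS₀ : ∀ s ∈ S, ∀ k ∈ S ⊓ ⨅ i, normalizer (N i : Set A), s * k * s⁻¹ ∈ S ⊓ ⨅ i, normalizer (N i : Set A) := by
    intro s hs k hk
    refine ⟨S.mul_mem (mul_mem hs hk.1) (inv_mem hs), mem_iInf.2 fun i => ?_⟩
    obtain ⟨j, hj⟩ := hperm s⁻¹ (inv_mem hs) i
    have h1 : Mv k (N j) (N j) := mem_normalizer_iff.1 (mem_iInf.1 hk.2 j)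
    have h2 := (hj.inv.mul h1).mul hj
    rw [inv_inv] at h2
    exact mem_normalizer_iff.2 h2
  obtain ⟨v, hv, hreg⟩ := exists_triple (x := x) (M := ⨅ i, N i) (S₀ := S ⊓ ⨅ i, normalizer (N i : Set A)) hS
    (le_inf hVS (le_iInf hn)) inf_le_left hS₀ hVn hVp hMn hSD
    (fun E hE => H1 E (hE.trans (inf_le_inf_left _ inf_le_right)))
    (fun k hk => H2 k ⟨hk.1, hk.2.2⟩)
  -- recolouring
  have hrec := fun i => exists_three_mod (N := N i) (V := V) (H := S ⊓ normalizer (N i : Set A))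
    (Group.isSolvable_of_isSolvable_injective (f := inclusion inf_le_left) (inclusion_injective _)) (hNV i) (hne i)
    (hn i) inf_le_right hv
  choose w hw1 hw2 hw3 using hrec
  let r : Setoid (O × Fin 3) :=
    { r := fun y z => ∃ d ∈ S, Mv d (N y.1) (N z.1) ∧ ∀ a, (w z.1 z.2 a)⁻¹ * (d * w y.1 y.2 a * d⁻¹) ∈ N z.1
      iseqv :=
        { refl := fun y => ⟨1, one_mem _, fun v => by simp, fun a => by simp⟩
          symm := by
            rintro y z ⟨d, hd, h1, h2⟩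
            refine ⟨d⁻¹, inv_mem hd, h1.inv, fun a => ?_⟩
            have h3 := inv_mem ((h1.inv _).1 (h2 a))
            have e : (d⁻¹ * ((w z.1 z.2 a)⁻¹ * (d * w y.1 y.2 a * d⁻¹)) * d⁻¹⁻¹)⁻¹ =
                (w y.1 y.2 a)⁻¹ * (d⁻¹ * w z.1 z.2 a * d⁻¹⁻¹) := by group
            rwa [e] at h3
          trans := by
            rintro y z u ⟨d, hd, h1, h2⟩ ⟨d', hd', h3, h4⟩
            refine ⟨d' * d, mul_mem hd' hd, h3.mul h1, fun a => ?_⟩
            have h5 := mul_mem (h4 a) ((h3 _).1 (h2 a))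
            have e : (w u.1 u.2 a)⁻¹ * (d' * w z.1 z.2 a * d'⁻¹) *
                (d' * ((w z.1 z.2 a)⁻¹ * (d * w y.1 y.2 a * d⁻¹)) * d'⁻¹) =
                (w u.1 u.2 a)⁻¹ * (d' * d * w y.1 y.2 a * (d' * d)⁻¹) := by group
            rwa [e] at h5 } }
  let t : O → Finset (Quotient r) := fun i => Finset.univ.image fun s : Fin 3 => Quotient.mk r (i, s)
  have ht : ∀ i, (t i).card = 3 := by
    intro i
    rw [Finset.card_image_of_injective _ ?_, Finset.card_univ, Fintype.card_fin]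
    intro s s' h
    obtain ⟨d, hd, h1, h2⟩ := Quotient.exact h
    exact hw3 i s s' d ⟨hd, mem_normalizer_iff.2 h1⟩ h2
  obtain ⟨f, hf1, hf2⟩ := (Finset.all_card_le_biUnion_card_iff_exists_injective t).1 fun s => by
    rcases s.eq_empty_or_nonempty with rfl | ⟨i, hi⟩
    · simp
    · calc s.card ≤ Fintype.card O := Finset.card_le_univ s
        _ ≤ 3 := by rw [← Nat.card_eq_fintype_card]; exact hO
        _ = (t i).card := (ht i).symm
        _ ≤ (s.biUnion t).card := Finset.card_le_card (Finset.subset_biUnion_of_mem t hi)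
  have hc : ∀ i, ∃ s : Fin 3, Quotient.mk r (i, s) = f i := fun i => by
    obtain ⟨s, -, e⟩ := Finset.mem_image.1 (hf2 i)
    exact ⟨s, e⟩
  choose c hc using hc
  have hu := fun a => crt hn hco (f := fun i => w i (c i) a) fun i => hw1 i (c i) a
  choose u hu1 hu2 using hu
  refine seven_of_trick_mod hT hVS hVn hMV hMn hM hx hxV u hu1 fun k hk hkx hf => ?_
  have key : ∀ i j, Mv k (N i) (N j) → ∀ a, (w j (c j) a)⁻¹ * (k * w i (c i) a * k⁻¹) ∈ N j := by
    intro i j h a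
    have h1 := mul_mem (mul_mem (inv_mem (hu2 a j)) (mem_iInf.1 (hf a) j)) ((h _).1 (hu2 a i))
    have e : ((u a)⁻¹ * w j (c j) a)⁻¹ * ((u a)⁻¹ * (k * u a * k⁻¹)) * (k * ((u a)⁻¹ * w i (c i) a) * k⁻¹) =
        (w j (c j) a)⁻¹ * (k * w i (c i) a * k⁻¹) := by group
    rwa [e] at h1
  have hfix : ∀ i, Mv k (N i) (N i) := by
    intro i
    obtain ⟨j, hj⟩ := hperm k hk i
    have h1 : f i = f j := by
      rw [← hc i, ← hc j]
      exact Quotient.sound ⟨k, hk, hj, key i j hj⟩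
    rw [← hf1 h1] at hj
    exact hj
  refine hreg k ⟨mem_DD.2 ⟨hk, hkx⟩, hk, mem_iInf.2 fun i => mem_normalizer_iff.2 (hfix i)⟩ fun a => ?_
  exact mem_iInf.2 fun i => hw2 i (c i) k (mem_normalizer_iff.2 (hfix i)) (key i i (hfix i)) a

end Cfsg.Agent.SB.Par
end

-- part: SB/Par/Opp
section
/-!
# S5765, parabolic case: `J` fixed by the opposition (helper64)

`Ctx.good_of_op` : if `w₀` maps `P_J` onto the opposite parabolic subgroup and `Irr` holds for a node outside `J`, then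
`Good`.
-/

set_option autoImplicit false
set_option linter.unusedSectionVars false

namespace Cfsg.Agent.SB.Par

open CoxeterSystem Cfsg.Agent.ChevalleyStructure.CoxeterGeom Cfsg.Agent.Tits.Roots Cfsg.Agent.Tits.Core
  Cfsg.Agent.Tits.Exchange Cfsg.Agent.Nodes.Reps Cfsg.Agent.Nodes.BNOf Cfsg.Agent.Nodes.StabComb
  Cfsg.Agent.Nodes.Bruhat Cfsg.Agent.Nodes.OppDec Cfsg.Agent.Nodes.LeviDec Cfsg.Agent.Nodes.NormalForm
  Cfsg.Agent.KFacts.RgdOpp Cfsg.Agent.KFacts.RgdAut Cfsg.Agent.KFacts.RgdDiag Cfsg.Agent.KFacts.RgdRigid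
  Cfsg.Agent.KFacts.RgdVJ Cfsg.Agent.KFacts.RgdCharP Cfsg.Agent.H786.FC

variable {I W Y : Type*} [Fintype I] [DecidableEq I] [Group W] [Group Y] {M : CoxeterMatrix I}
  {cs : CoxeterSystem M W} {A : I → I → ℤ} {h : IsCartan M A} {p : ℕ} {T : Subgroup Y} {n : I → Y}
  {X : (I → ℤ) → Subgroup Y}

/-- every `p`-automorphism which fixes `P` and centralises `T` centralises `P` -/
def Irr (p : ℕ) (T P : Subgroup Y) : Prop :=
  ∀ β : MulAut Y, (∃ k : ℕ, β ^ p ^ k = 1) → _root_.Cfsg.Agent.KFacts.RgdAut.Fix β P → (∀ t ∈ T, β t = t) → ∀ x ∈ P, β x = x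

theorem conj_injective' (hc : Subgroup.center Y = ⊥) : Function.Injective (MulAut.conj : Y →* MulAut Y) :=
  (injective_iff_map_eq_one _).2 fun _ => conj_inj hc

theorem mv_iff (hc : Subgroup.center Y = ⊥) {s : MulAut Y} {H H' : Subgroup Y} :
    Mv s (H.map MulAut.conj) (H'.map MulAut.conj) ↔ Mp s H H' := by
  refine ⟨fun h1 x => ?_, fun h1 v => ⟨?_, ?_⟩⟩
  · have := h1 (MulAut.conj x)
    rwa [conj_conj', Subgroup.mem_map_iff_mem (conj_injective' hc), Subgroup.mem_map_iff_mem (conj_injective' hc),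
      Iff.comm] at this
  · rintro ⟨x, hx, rfl⟩
    exact ⟨s x, (h1 x).2 hx, (conj_conj' s x).symm⟩
  · rintro ⟨y, hy, e⟩
    refine ⟨s⁻¹ y, (h1.inv y).2 hy, ?_⟩
    rw [← conj_conj', e]
    group

theorem exists_full [Finite W] [Nonempty I] (hc : Conn M) : ∃ r, IsRoot cs h r ∧ 0 ≤ r ∧ ∀ i, 0 < r i := by
  obtain ⟨i₀⟩ := ‹Nonempty I›
  obtain ⟨r, hr, hmax⟩ := Set.exists_max_image (RGD.Pos cs h) ht
    ((RGD.finite_roots (cs := cs) (h := h)).subset fun x hx => hx.1) ⟨sr i₀, isRoot_sr cs h i₀, sr_nonneg i₀⟩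
  refine ⟨r, hr.1, hr.2, fun i => ?_⟩
  by_contra hi
  have h0 : ∃ j, 0 < r j := by
    by_contra hcon
    push Not at hcon
    exact hr.1.ne_zero (le_antisymm hcon hr.2)
  obtain ⟨a, ha, c, hc', hac⟩ := hc {j | 0 < r j} h0 (fun h1 => hi (h1 ▸ Set.mem_univ i : i ∈ {j | 0 < r j}))
  have hc0 : r c = 0 := le_antisymm (not_lt.1 hc') (hr.2 c)
  have h1 := pairing_neg h hr.2 hc0 ha (by rwa [M.symmetric])
  have h2 := hmax (rep cs h (cs.simple c) r) ⟨hr.1.act _, hr.1.simple_nonneg hr.2 c fun e => by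
    rw [e, sr_self] at hc0
    exact one_ne_zero hc0⟩
  rw [ht_simple] at h2
  omega

section
variable [Finite W] (R : RGD cs h p T n X)
include R

theorem subset_of_VJ_le {K K' : Set I} (hK : VJ cs h X K ≤ VJ cs h X K') : K' ⊆ K := by
  intro i hi
  by_contra hi'
  obtain ⟨u, hu, hu1⟩ := exists_ne_one R i
  exact hu1 (eq_one_of_mem_LJ_of_mem_VJ R (X_le_LJ' hi hu) (hK (X_le_VJ hi' hu)))

omit [Finite W] in
theorem diag_conj {t : Y} (ht : t ∈ T) : Diag T X (MulAut.conj t) (1 : Equiv.Perm I) where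
  tor := mp_conj_of_mem ht
  pos := fun i => mp_conj (mem_normalizer_iff_cj.2 (R.tor _ (isRoot_sr cs h i) t ht))
  neg := fun i => mp_conj (mem_normalizer_iff_cj.2 (R.tor _ (isRoot_sr cs h i).neg t ht))

theorem mem_VJ_of_mem {J : Set I} {o o' : I} (ho' : o' ≠ o) {u : Y} (h1 : u ∈ UJ cs h X (insert o J))
    (h2 : u ∈ VJ cs h X J) : u ∈ VJ cs h X (insert o' J) := by
  have h3 := KFacts.RgdEx.inf_eq_half R (AddMonoidHom.mk' ht fun x y => RGD.ht_add x y)
    (S := PosJ cs h (insert o J)) (S' := NotJ cs h J) (fun x hx => ⟨hx.1, RGD.ht_pos hx.1 hx.2.1⟩)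
    (fun x hx => ⟨hx.1, RGD.ht_pos hx.1 hx.2.1⟩)
    (fun x hx y hy z hz => ⟨hz.1, btwn_nonneg hz hx.2.1 hy.2.1, fun k hk =>
      btwn_apply_zero hz (hx.2.2 k hk) (hy.2.2 k hk)⟩)
    (fun x hx y hy z hz => ⟨hz.1, btwn_nonneg hz hx.2.1 hy.2.1, by
      obtain ⟨k, hk, h0⟩ := hx.2.2
      exact ⟨k, hk, btwn_apply_pos hz h0 (hy.2.1 k)⟩⟩)
  have h4 : u ∈ RGD.Sup X (PosJ cs h (insert o J) ∩ NotJ cs h J) := by
    rw [← h3]
    exact ⟨h1, h2⟩
  refine RGD.Sup_mono ?_ h4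
  rintro x ⟨⟨hx, h0, hz⟩, -, -, k, hk, hk0⟩
  refine ⟨hx, h0, k, ?_, hk0⟩
  rintro (rfl | hkJ)
  · rw [hz k (by simp [ho', hk])] at hk0
    exact lt_irrefl _ hk0
  · exact hk hkJ

end

namespace Ctx

variable {S : Subgroup (MulAut Y)} {J : Set I} (C : Ctx cs h T X S J)
  [Finite W] [Finite Y] [Fact p.Prime] (R : RGD cs h p T n X)
include C R

/-- no element of `L_J` centralises all the groups `V_J ∩ L_{J ∪ {o}}` -/
theorem cent_W {c : Y} (hc : c ∈ LJ cs h T X J)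
    (hW : ∀ o, o ∉ J → ∀ w ∈ VJ cs h X J ⊓ LJ cs h T X (insert o J), c * w = w * c) : c = 1 := by
  have hn : ∀ l ∈ LJ cs h T X J, ∀ o, ∀ w ∈ VJ cs h X J ⊓ LJ cs h T X (insert o J),
      l⁻¹ * w * l ∈ VJ cs h X J ⊓ LJ cs h T X (insert o J) := by
    intro l hl o w hw
    have h1 := LJ_mono (cs := cs) (h := h) (T := T) (X := X) (Set.subset_insert o J) hl
    refine Subgroup.mem_inf.2 ⟨?_, mul_mem (mul_mem (inv_mem h1) hw.2) h1⟩
    simpa using (Subgroup.mem_normalizer_iff.1 (LJ_le_normalizer_VJ R J (inv_mem hl)) w).1 hw.1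
  set Cw : Y → Prop := fun c => c ∈ LJ cs h T X J ∧
    ∀ o, o ∉ J → ∀ w ∈ VJ cs h X J ⊓ LJ cs h T X (insert o J), c * w = w * c with hCw
  have s0 : ∀ c, Cw c → ∀ l ∈ LJ cs h T X J, Cw (l * c * l⁻¹) := by
    intro c hc l hl
    refine ⟨mul_mem (mul_mem hl hc.1) (inv_mem hl), fun o ho w hw => ?_⟩
    have := hc.2 o ho _ (hn l hl o w hw)
    calc l * c * l⁻¹ * w = l * (c * (l⁻¹ * w * l)) * l⁻¹ := by group
      _ = w * (l * c * l⁻¹) := by rw [this]; group
  have s1 : ∀ c, Cw c → c ∈ RGD.B cs h T X := by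
    intro c hc
    obtain ⟨w, hw, hcell⟩ := exists_cellJ R hc.1
    have key : ∀ o, o ∉ J → ∀ x ∈ NotJ cs h J, x ∈ RootsJ cs h (insert o J) → rep cs h w x = x := by
      obtain ⟨b₁, h1, k, hk, b₂, h2, e⟩ := hcell
      intro o ho x hx hx'
      by_contra hne
      obtain ⟨u, hu, hu1⟩ := (Subgroup.bot_or_exists_ne_one (X x)).resolve_left (X_ne_bot R hx.1)
      have h3 := hc.2 o ho _ (hn b₂ (BJ_le_LJ h2) o u ⟨RGD.le_Sup hx hu, X_le_LJ hx' hu⟩)
      have h4 : b₂ * b₁ * (k * u * k⁻¹) * (b₂ * b₁)⁻¹ = u := by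
        rw [e] at h3
        calc _ = b₂ * (b₁ * k * b₂ * (b₂⁻¹ * u * b₂)) * (b₂⁻¹ * k⁻¹ * b₁⁻¹ * b₂⁻¹) := by group
          _ = u := by rw [h3]; group
      have h5 := NotJ.act hw hx
      have h6 := eq_one_of_conj_X R (mul_mem (BJ_le_B J h2) (BJ_le_B J h1)) h5.1 h5.2.1 hx.1 hx.2.1 hne
        (R.conj_mem hk hx.1 hu) (by rw [h4]; exact hu)
      exact hu1 (by simpa only [_root_.conj_eq_one_iff] using h6)
    have key1 : ∀ o, o ∉ J → rep cs h w (sr o) = sr o := fun o ho =>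
      key o ho _ (sr_mem_NotJ ho) (PosJ_subset _ (sr_mem_PosJ (Set.mem_insert o J)))
    have hw1 : w = 1 := by
      refine _root_.Cfsg.Agent.ChevalleyStructure.CoxeterGeom.eq_one_of_fix cs h w fun i => ?_
      change rep cs h w (sr i) = sr i
      by_cases hi : i ∈ J
      · obtain ⟨o, ho, hio⟩ := (C.orb R).exists_adj hi
        have h1 := key o ho _ (NotJ.act ((simple_mem_WJ h).2 hi) (sr_mem_NotJ ho))
          (RootsJ.act ((simple_mem_WJ h).2 (Set.mem_insert_of_mem o hi))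
            (PosJ_subset _ (sr_mem_PosJ (Set.mem_insert o J))))
        rw [rep_simple_eq, map_sub, map_smul, key1 o ho, sub_right_inj, pairing_sr0] at h1
        exact smul_right_injective _ (cartan_neg h hio.1 hio.2).ne h1
      · exact key1 i hi
    rw [hw1] at hcell
    exact BJ_le_B J hcell.mem_of_one
  have s2 : ∀ c, Cw c → c ∈ T := by
    intro c hc
    obtain ⟨t, ht, v, hv, e⟩ := mem_TV R (J := J) (c := c) (by
      intro g hg
      obtain ⟨l, hl, v, hv, rfl⟩ := (mem_PJ R).1 hg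
      have h1 : c * v⁻¹ * c⁻¹ ∈ VJ cs h X J :=
        (Subgroup.mem_normalizer_iff.1 (LJ_le_normalizer_VJ R J hc.1) _).1 (inv_mem hv)
      have h2 := (Subgroup.mem_normalizer_iff.1 (LJ_le_normalizer_VJ R J hl) _).1 (mul_mem hv h1)
      have e : l * v * c * (l * v)⁻¹ = l * (v * (c * v⁻¹ * c⁻¹)) * l⁻¹ * (l * c * l⁻¹) := by group
      rw [e]
      exact mul_mem (VJ_le_B J h2) (s1 _ (s0 c hc l hl)))
    have h1 : v = t⁻¹ * c := by rw [e]; group
    have h2 : v = 1 := eq_one_of_mem_LJ_of_mem_VJ R (by rw [h1]; exact mul_mem (inv_mem (T_le_LJ ht)) hc.1) hv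
    rw [e, h2, mul_one]
    exact ht
  have hcT := s2 c ⟨hc, hW⟩
  refine conj_inj C.cen (Diag.eq_one R C.gen (diag_conj R hcT) fun i u hu => ?_)
  rw [MulAut.conj_apply, mul_inv_eq_iff_eq_mul]
  by_cases hi : i ∈ J
  · have h1 := s2 _ (s0 c ⟨hc, hW⟩ u (X_le_LJ' hi hu))
    have h2 : u * c * u⁻¹ * c⁻¹ ∈ X (sr i) ⊓ T := by
      refine Subgroup.mem_inf.2 ⟨?_, mul_mem h1 (inv_mem hcT)⟩
      have h3 := ((diag_conj R hcT).pos i u⁻¹).2 (inv_mem hu)
      have h4 := mul_mem hu h3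
      simpa only [mul_assoc, _root_.MulAut.conj_apply] using h4
    rw [X_inf_T R (isRoot_sr cs h i), Subgroup.mem_bot] at h2
    rw [mul_inv_eq_one, mul_inv_eq_iff_eq_mul] at h2
    exact h2.symm
  · exact hW i hi u ⟨X_le_VJ hi hu, X_le_LJ' (Set.mem_insert i J) hu⟩

variable {k : Y} (hk : Rp cs R.nsys (w0 cs) k) (hJ : ∀ i, op cs i ∈ J ↔ i ∈ J)
include hk hJ

theorem conj_mem_iff {g : Y} :
    (MulAut.conj k)⁻¹ * MulAut.conj g * MulAut.conj k ∈ S ↔ g ∈ PNJ cs h T X J := by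
  rw [← map_inv, ← map_mul, ← map_mul, C.par, ← mem_cj, cj_PJ R C.top hk hJ]

theorem conj_mem_DD {g : Y} : MulAut.conj g ∈ DD S (MulAut.conj k) ↔ g ∈ LJ cs h T X J := by
  rw [mem_DD, C.conj_mem_iff R hk hJ, C.par, ← PJ_inf_PNJ R, Subgroup.mem_inf]

omit hJ in
theorem fr_mem_DD {β : MulAut Y} {σ : Equiv.Perm I} (hβ : β ∈ S) (F : Fr cs h T X β σ) :
    β ∈ DD S (MulAut.conj k) := by
  refine mem_DD.2 ⟨hβ, ?_⟩
  have e : (MulAut.conj k)⁻¹ * β * MulAut.conj k = MulAut.conj (k⁻¹ * β k) * β := by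
    rw [map_mul, map_inv, ← conj_conj']
    group
  rw [e]
  exact mul_mem ((C.par _).2 (B_le_PJ (RGD.T_le_B (F.w0_mem R C.top hk)))) hβ

theorem eq_one_of_V {v : Y} (hv : v ∈ VJ cs h X J)
    (h1 : (MulAut.conj k)⁻¹ * MulAut.conj v * MulAut.conj k ∈ S) : v = 1 :=
  eq_one_of_mem_VJ_of_mem_PNJ R hv ((C.conj_mem_iff R hk hJ).1 h1)

omit hk hJ in
theorem decomp' {s : MulAut Y} (hs : s ∈ S) : ∃ v ∈ VJ cs h X J, ∃ l ∈ LJ cs h T X J, ∃ β ∈ S, ∃ σ,
    Fr cs h T X β σ ∧ (∀ i, σ i ∈ J ↔ i ∈ J) ∧ s = MulAut.conj v * (MulAut.conj l * β) := by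
  obtain ⟨g, hg, β, hβ, σ, F, hσ, e⟩ := C.decomp R hs
  obtain ⟨l, hl, v, hv, e'⟩ := (mem_PJ R).1 (inv_mem hg)
  refine ⟨v⁻¹, inv_mem hv, l⁻¹, inv_mem hl, β, hβ, σ, F, hσ, ?_⟩
  rw [e, ← mul_assoc, ← map_mul, ← mul_inv_rev, ← e', inv_inv]

theorem decompD {d : MulAut Y} (hd : d ∈ DD S (MulAut.conj k)) : ∃ l ∈ LJ cs h T X J, ∃ β ∈ S, ∃ σ,
    Fr cs h T X β σ ∧ (∀ i, σ i ∈ J ↔ i ∈ J) ∧ d = MulAut.conj l * β := by
  obtain ⟨v, hv, l, hl, β, hβ, σ, F, hσ, e⟩ := C.decomp' R (mem_DD.1 hd).1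
  have h1 : MulAut.conj v ∈ DD S (MulAut.conj k) := by
    rw [← mul_inv_eq_iff_eq_mul] at e
    rw [← e]
    exact mul_mem hd (inv_mem (mul_mem ((C.conj_mem_DD R hk hJ).2 hl) (C.fr_mem_DD R hk hβ F)))
  rw [C.eq_one_of_V R hk hJ hv (mem_DD.1 h1).2, map_one, one_mul] at e
  exact ⟨l, hl, β, hβ, σ, F, hσ, e⟩

/-- the elements of `D` which fix all `V_{J ∪ {o}}` -/
theorem decompK {d : MulAut Y} (hd : d ∈ DD S (MulAut.conj k))
    (hK : ∀ o, o ∉ J → _root_.Cfsg.Agent.KFacts.RgdAut.Fix d (VJ cs h X (insert o J))) : ∃ l ∈ LJ cs h T X J, ∃ β ∈ S, ∃ σ,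
    Fr cs h T X β σ ∧ (∀ i, σ i ∈ J ↔ i ∈ J) ∧ (∀ o, o ∉ J → σ o = o) ∧ d = MulAut.conj l * β := by
  obtain ⟨l, hl, β, hβ, σ, F, hσ, e⟩ := C.decompD R hk hJ hd
  refine ⟨l, hl, β, hβ, σ, F, hσ, fun o ho => ?_, e⟩
  have h1 : Mp d (VJ cs h X (insert o J)) (VJ cs h X (insert (σ o) J)) := by
    rw [e]
    refine (mp_conj (LJ_le_normalizer_VJ R _ (LJ_mono (Set.subset_insert _ J) hl))).mul (F.mapV R C.top fun i => ?_)
    simp [hσ]
  have h2 := subset_of_VJ_le R (Mp.unique (hK o ho) h1).ge (Set.mem_insert o J)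
  exact (h2.resolve_right ho).symm

/-- an element of the kernel which centralises `L_J` is a frame automorphism -/
theorem fr_of_cent {d : MulAut Y} (hd : d ∈ DD S (MulAut.conj k))
    (hK : ∀ o, o ∉ J → _root_.Cfsg.Agent.KFacts.RgdAut.Fix d (VJ cs h X (insert o J))) (hL : ∀ l ∈ LJ cs h T X J, d l = l) :
    Diag T X d (1 : Equiv.Perm I) := by
  obtain ⟨l, hl, β, hβ, σ, F, hσ, e⟩ := C.decompD R hk hJ hd
  have hV : _root_.Cfsg.Agent.KFacts.RgdAut.Fix d (VJ cs h X J) := by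
    rw [e]
    exact (mp_conj (LJ_le_normalizer_VJ R J hl)).mul (F.mapV R C.top hσ)
  have hVN : _root_.Cfsg.Agent.KFacts.RgdAut.Fix d (VNJ cs h X J) := by
    rw [e]
    exact (mp_conj (LJ_le_normalizer_VNJ R J hl)).mul (F.mapVN R C.top hσ)
  have key : ∀ {X' : (I → ℤ) → Subgroup Y}, RGD cs h p T n X' → _root_.Cfsg.Agent.KFacts.RgdAut.Fix d (VJ cs h X' J) →
      (∀ l ∈ LJ cs h T X' J, d l = l) → _root_.Cfsg.Agent.KFacts.RgdAut.Fix d (RGD.Sup X' (RGD.Pos cs h)) := by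
    intro X' R' h1 h2
    refine fix_iff.2 (Subgroup.eq_of_le_of_card_ge ?_ (Subgroup.card_map_of_injective d.injective).ge)
    rintro _ ⟨x, hx, rfl⟩
    obtain ⟨u, hu, v, hv, rfl⟩ := (mem_U_iff R' (J := J)).1 hx
    rw [map_mul]
    refine mul_mem ?_ (VJ_le_U J ((h1 v).2 hv))
    have h3 := h2 u (BJ_le_LJ (UJ_le_BJ hu))
    rw [MulEquiv.coe_toMonoidHom, h3]
    exact UJ_le_U J hu
  have hU := key R hV hL
  have hUN := key (opp R) (by rw [VJ_opp]; exact hVN) (by rw [LJ_opp]; exact hL)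
  rw [U_opp] at hUN
  obtain ⟨τ, F'⟩ := exists_fr R C.top hU hUN
  obtain ⟨l', hl', β', -, σ', F'', h0, h1, e'⟩ := C.decompK R hk hJ hd hK
  have hτ : τ = 1 := by
    ext i
    by_cases hi : i ∈ J
    · obtain ⟨u, hu, hu1⟩ := exists_ne_one R i
      exact Diag.apply_eq R F'.D hu hu1 (hL u (X_le_LJ' hi hu))
    · have h2 : Mp d (PJ cs h T X (insert i J)) (PJ cs h T X (insert i J)) := by
        rw [e']
        refine (mp_conj_of_mem (LJ_le_PJ (LJ_mono (Set.subset_insert _ J) hl'))).mul (F''.mapP R C.top fun j => ?_)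
        rw [Set.mem_insert_iff, Set.mem_insert_iff, h0]
        refine or_congr_left ⟨fun h4 => σ'.injective (by rw [h4, h1 i hi]), fun h4 => by rw [h4, h1 i hi]⟩
      have h3 := (F'.mem_of_PJ R h2 i).2 (Set.mem_insert i J)
      exact h3.resolve_right fun h4 => hi ((F'.mem_of_PJ R (C.fix (mem_DD.1 hd).1) i).1 h4)
  rw [← hτ]
  exact F'.D

theorem H1 (hI : ∃ o, o ∉ J ∧ Irr p T (X (sr o))) {E : Subgroup (MulAut Y)} (hE : E ≤ DD S (MulAut.conj k))
    (hK : ∀ d ∈ E, ∀ o, o ∉ J → _root_.Cfsg.Agent.KFacts.RgdAut.Fix d (VJ cs h X (insert o J))) (hp : IsPGroup p E)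
    (hn : ∀ d ∈ DD S (MulAut.conj k), ∀ e ∈ E, d * e * d⁻¹ ∈ E) : E = ⊥ := by
  have h0 : E.comap MulAut.conj = ⊥ := by
    refine eq_bot_of_LJ R C.top (J := J) (hp.comap_of_injective _ (conj_injective' C.cen))
      (fun x hx => (C.conj_mem_DD R hk hJ).1 (hE hx)) fun g hg e he => ?_
    rw [Subgroup.mem_comap, map_mul, map_mul, map_inv]
    exact hn _ ((C.conj_mem_DD R hk hJ).2 hg) _ he
  have h1 : ∀ e ∈ E, ∀ l ∈ LJ cs h T X J, e l = l := by
    intro e he l hl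
    have h2 := mul_mem (hn _ ((C.conj_mem_DD R hk hJ).2 hl) _ he) (inv_mem he)
    have h3 : l * (e l)⁻¹ ∈ E.comap MulAut.conj := by
      rw [Subgroup.mem_comap, map_mul, map_inv, ← conj_conj']
      simpa only [mul_assoc, _root_.mul_inv_rev, _root_.inv_inv] using h2
    rw [h0, Subgroup.mem_bot, mul_inv_eq_one] at h3
    exact h3.symm
  have h2 : ∀ e ∈ E, Diag T X e (1 : Equiv.Perm I) := fun e he => C.fr_of_cent R hk hJ (hE he) (hK e he) (h1 e he)
  obtain ⟨o, ho, hI⟩ := hI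
  have h3 : ∀ e ∈ E, ∀ x ∈ X (sr o), e x = x := by
    intro e he
    obtain ⟨m, hm⟩ := hp ⟨e, he⟩
    exact hI e ⟨m, congrArg Subtype.val hm⟩ ((h2 e he).pos o) fun t ht => h1 e he t (T_le_LJ ht)
  rw [eq_bot_iff]
  intro e he
  refine Diag.eq_one R C.gen (h2 e he) fun i x hx => ?_
  by_cases hi : i ∈ J
  · exact h1 e he x (X_le_LJ' hi hx)
  · obtain ⟨β, hβ, σ, F, rfl⟩ := C.trans R ho hi
    have h4 := h3 _ (hn _ (inv_mem (C.fr_mem_DD R hk hβ F)) e he) (β⁻¹ x) ((F.D.pos o _).1 (by simpa using hx))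
    simpa only [_root_.inv_inv, _root_.MulAut.inv_apply, _root_.MulAut.mul_apply, _root_.MulEquiv.apply_symm_apply, _root_.EmbeddingLike.apply_eq_iff_eq] using h4

theorem H2 {d : MulAut Y} (hd : d ∈ DD S (MulAut.conj k)) (hK : ∀ o, o ∉ J → _root_.Cfsg.Agent.KFacts.RgdAut.Fix d (VJ cs h X (insert o J)))
    (hW : ∀ o, o ∉ J → ∀ w ∈ VJ cs h X J ⊓ LJ cs h T X (insert o J), d w = w) : d = 1 := by
  have h1 : ∀ l ∈ LJ cs h T X J, d l = l := by
    intro l hl
    obtain ⟨l', hl', β, -, σ, F, hσ, e⟩ := C.decompD R hk hJ hd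
    have h2 : d l ∈ LJ cs h T X J := by
      rw [e]
      exact (((mp_conj_of_mem hl').mul (F.mapL R C.top hσ)) l).2 hl
    have h3 := C.cent_W R (mul_mem (inv_mem hl) h2) fun o ho w hw => by
      have h4 := LJ_mono (cs := cs) (h := h) (T := T) (X := X) (Set.subset_insert o J) hl
      have h5 := hW o ho (l * w * l⁻¹) (Subgroup.mem_inf.2
        ⟨(Subgroup.mem_normalizer_iff.1 (LJ_le_normalizer_VJ R J hl) w).1 hw.1, mul_mem (mul_mem h4 hw.2) (inv_mem h4)⟩)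
      rw [map_mul, map_mul, map_inv, hW o ho w hw] at h5
      calc l⁻¹ * d l * w = l⁻¹ * (d l * w * (d l)⁻¹) * d l := by group
        _ = w * (l⁻¹ * d l) := by rw [h5]; group
    exact (inv_mul_eq_one.1 h3).symm
  refine Diag.eq_one R C.gen (C.fr_of_cent R hk hJ hd hK h1) fun i x hx => ?_
  by_cases hi : i ∈ J
  · exact h1 x (X_le_LJ' hi hx)
  · exact hW i hi x ⟨X_le_VJ hi hx, X_le_LJ' (Set.mem_insert i J) hx⟩

omit hk in
/-- **The case `J = op J`.** -/
theorem good_of_op (hI : ∃ o, o ∉ J ∧ Irr p T (X (sr o))) : Good (InnG Y) S := by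
  obtain ⟨k, hk⟩ := exists_rp cs R.nsys (w0 cs)
  have hinj := conj_injective' C.cen
  have hx : MulAut.conj k ∈ InnG Y := ⟨k, rfl⟩
  have hfix : ∀ s ∈ S, ∀ o, o ∉ J → ∃ o', o' ∉ J ∧ Mp s (VJ cs h X (insert o J)) (VJ cs h X (insert o' J)) := by
    intro s hs o ho
    obtain ⟨g, hg, β, -, σ, F, hσ, rfl⟩ := C.decomp R hs
    refine ⟨σ o, fun h1 => ho ((hσ o).1 h1), (mp_conj (PJ_le_normalizer_VJ R _
      (PJ_mono (Set.subset_insert _ J) hg))).mul (F.mapV R C.top fun i => ?_)⟩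
    simp [hσ]
  have hVS : (VJ cs h X J).map MulAut.conj ≤ S := by
    rintro _ ⟨v, hv, rfl⟩
    exact (C.par v).2 (VJ_le_PJ hv)
  have hfixV : ∀ s ∈ S, Mp s (VJ cs h X J) (VJ cs h X J) := by
    intro s hs
    obtain ⟨g, hg, β, -, σ, F, hσ, rfl⟩ := C.decomp R hs
    exact (mp_conj (PJ_le_normalizer_VJ R _ hg)).mul (F.mapV R C.top hσ)
  have hVn : ∀ s ∈ S, ∀ v ∈ (VJ cs h X J).map MulAut.conj, s * v * s⁻¹ ∈ (VJ cs h X J).map MulAut.conj :=
    fun s hs v hv => ((mv_iff C.cen).2 (hfixV s hs) v).1 hv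
  have hVp : IsPGroup p ((VJ cs h X J).map MulAut.conj) := (isPGroup_VJ R J).map _
  by_cases h1 : ∀ o o', o ∉ J → o' ∉ J → o = o'
  · have hK : ∀ d ∈ DD S (MulAut.conj k), ∀ o, o ∉ J → _root_.Cfsg.Agent.KFacts.RgdAut.Fix d (VJ cs h X (insert o J)) := by
      intro d hd o ho
      obtain ⟨o', ho', h2⟩ := hfix d (mem_DD.1 hd).1 o ho
      rwa [← h1 o o' ho ho'] at h2
    refine Or.inl (fitReg_of hx hVS hVn hVp (fun E hE hp hn => C.H1 R hk hJ hI hE (fun d hd => hK d (hE hd)) hp hn)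
      fun d hd hc => C.H2 R hk hJ hd (hK d hd) fun o _ w hw => hinj ?_)
    rw [← conj_conj', hc _ ⟨w, hw.1, rfl⟩, mul_inv_cancel_right]
  · push Not at h1
    obtain ⟨o₁, o₂, ho₁, ho₂, hne⟩ := h1
    have : Nonempty {o // o ∉ J} := ⟨⟨o₁, ho₁⟩⟩
    have hK : ∀ d ∈ DD S (MulAut.conj k) ⊓ ⨅ o : {o // o ∉ J},
        Subgroup.normalizer (((VJ cs h X (insert o.1 J)).map MulAut.conj : Subgroup (MulAut Y)) : Set (MulAut Y)),
        ∀ o, o ∉ J → _root_.Cfsg.Agent.KFacts.RgdAut.Fix d (VJ cs h X (insert o J)) := fun d hd o ho =>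
      (mv_iff C.cen).1 (Subgroup.mem_normalizer_iff.1 (Subgroup.mem_iInf.1 hd.2 ⟨o, ho⟩))
    refine Or.inr (seven_of_split (innG_normal Y) C.solv hx hVS hVn hVp ?_ ?_ ((C.orb R).card_le cs h)
      (N := fun o : {o // o ∉ J} => (VJ cs h X (insert o.1 J)).map MulAut.conj)
      (fun o => Subgroup.map_mono (VJ_anti (Set.subset_insert _ J))) ?_ ?_ ?_ ?_ ?_ ?_ ?_)
    · rintro _ ⟨v, hv, rfl⟩ h2
      rw [C.eq_one_of_V R hk hJ hv h2, map_one]
    · intro s hs
      obtain ⟨v, hv, l, hl, β, hβ, σ, F, -, e⟩ := C.decomp' R hs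
      exact ⟨_, ⟨v, hv, rfl⟩, _, mul_mem ((C.conj_mem_DD R hk hJ).2 hl) (C.fr_mem_DD R hk hβ F), e⟩
    · intro o h2
      exact o.2 (subset_of_VJ_le R (Subgroup.map_injective hinj h2).ge (Set.mem_insert _ J))
    · rintro o _ ⟨v, hv, rfl⟩
      exact Subgroup.mem_normalizer_iff.2 ((mv_iff C.cen).2
        (mp_conj (PJ_le_normalizer_VJ R _ (PJ_mono (Set.subset_insert _ J) (VJ_le_PJ hv)))))
    · intro s hs o
      obtain ⟨o', ho', h2⟩ := hfix s hs o.1 o.2
      exact ⟨⟨o', ho'⟩, (mv_iff C.cen).2 h2⟩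
    · rintro o _ ⟨v, hv, rfl⟩
      obtain ⟨u, hu, v', hv', e⟩ := (mem_U_iff R (J := insert o.1 J)).1 (VJ_le_U J hv)
      have h2 : u ∈ VJ cs h X J := by
        rw [← mul_inv_eq_iff_eq_mul] at e
        rw [← e]
        exact mul_mem hv (inv_mem (VJ_anti (Set.subset_insert _ J) hv'))
      refine ⟨_, ⟨u, h2, rfl⟩, ⟨v', hv', ?_⟩, fun o' ho' => ⟨u, ?_, rfl⟩⟩
      · rw [e, map_mul, inv_mul_cancel_left]
      · exact mem_VJ_of_mem R (fun h3 => ho' (Subtype.ext h3)) hu h2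
    · have : Nonempty I := ⟨o₁⟩
      obtain ⟨r, hr, h0, hfull⟩ := exists_full (cs := cs) (h := h) C.conn
      obtain ⟨u, hu, hu1⟩ := (Subgroup.bot_or_exists_ne_one (X r)).resolve_left (X_ne_bot R hr)
      intro h2
      have h3 : MulAut.conj u ∈ ⨅ o : {o // o ∉ J}, (VJ cs h X (insert o.1 J)).map MulAut.conj := by
        refine Subgroup.mem_iInf.2 fun o => ⟨u, RGD.le_Sup (S := NotJ cs h (insert o.1 J)) ⟨hr, h0, ?_⟩ hu, rfl⟩
        by_cases h4 : o₁ = o.1
        · exact ⟨o₂, by simp [← h4, hne.symm, ho₂], hfull _⟩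
        · exact ⟨o₁, by simp [h4, ho₁], hfull _⟩
      rw [h2, Subgroup.mem_bot] at h3
      exact hu1 (conj_inj C.cen h3)
    · exact fun E hE hp hn => C.H1 R hk hJ hI (hE.trans inf_le_left) (fun d hd => hK d (hE hd)) hp hn
    · intro d hd hc
      refine C.H2 R hk hJ hd.1 (hK d hd) fun o ho w hw => ?_
      have h2 := Subgroup.mem_iInf.1 (hc _ ⟨w, hw.1, rfl⟩) ⟨o, ho⟩
      rw [conj_conj', ← map_inv, ← map_mul, Subgroup.mem_map_iff_mem hinj] at h2
      obtain ⟨l, hl, β, -, σ, F, hσ, hσ', e⟩ := C.decompK R hk hJ hd.1 (hK d hd)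
      have h3 : d w ∈ LJ cs h T X (insert o J) := by
        rw [e]
        refine (((mp_conj_of_mem (LJ_mono (Set.subset_insert _ J) hl)).mul (F.mapL R C.top fun j => ?_)) w).2 hw.2
        rw [Set.mem_insert_iff, Set.mem_insert_iff, hσ]
        exact or_congr_left ⟨fun h4 => σ.injective (by rw [h4, hσ' o ho]), fun h4 => by rw [h4, hσ' o ho]⟩
      exact (inv_mul_eq_one.1 (eq_one_of_mem_LJ_of_mem_VJ R (mul_mem (inv_mem hw.2) h3) h2)).symm

end Ctx

end Cfsg.Agent.SB.Par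
end

-- part: SB/Par/Two
section
/-!
# S5765, parabolic case: the projective plane, and the theorem for root group data (helper64)

* `Ctx.good_of_plane` : type `A₂`, `J` a single node: four points in general position;
* `irr_of_three` : `Irr` for the nodes with a simple bond;
* `Ctx.good` : the theorem.
-/

set_option autoImplicit false
set_option linter.unusedSectionVars false

namespace Cfsg.Agent.SB.Par

open CoxeterSystem Cfsg.Agent.ChevalleyStructure.CoxeterGeom Cfsg.Agent.Tits.Roots Cfsg.Agent.Tits.Core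
  Cfsg.Agent.Tits.Exchange Cfsg.Agent.Nodes.Reps Cfsg.Agent.Nodes.BNOf Cfsg.Agent.Nodes.StabComb
  Cfsg.Agent.Nodes.Bruhat Cfsg.Agent.Nodes.OppDec Cfsg.Agent.Nodes.LeviDec Cfsg.Agent.Nodes.NormalForm
  Cfsg.Agent.KFacts.RgdOpp Cfsg.Agent.KFacts.RgdAut Cfsg.Agent.KFacts.RgdDiag Cfsg.Agent.KFacts.RgdRigid
  Cfsg.Agent.KFacts.RgdVJ Cfsg.Agent.KFacts.RgdCharP Cfsg.Agent.H786.FC Cfsg.Agent.KFacts.RgdPar
  Cfsg.Agent.KFacts.RgdSL
open scoped commutatorElement

variable {I W Y : Type*} [Fintype I] [DecidableEq I] [Group W] [Group Y] {M : CoxeterMatrix I}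
  {cs : CoxeterSystem M W} {A : I → I → ℤ} {h : IsCartan M A} {p : ℕ} {T : Subgroup Y} {n : I → Y}
  {X : (I → ℤ) → Subgroup Y}

theorem rep_w0_sr [Finite W] (i : I) : rep cs h (w0 cs) (sr i) = -sr (op cs i) := by
  have hr : IsRoot cs h (-rep cs h (w0 cs) (sr i)) := ((isRoot_sr cs h i).act _).neg
  have h0 : 0 ≤ -rep cs h (w0 cs) (sr i) := neg_nonneg.2 (rep_w0_nonpos (isRoot_sr cs h i) (sr_nonneg i))
  rw [← neg_eq_iff_eq_neg]
  by_contra hne
  have h1 := hr.simple_nonneg h0 (op cs i) hne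
  rw [map_neg, ← rep_mul_apply, simple_op_mul_w0, rep_mul_apply, rep_simple_sr, map_neg, neg_neg] at h1
  exact hr.not_pos_neg h0 (neg_nonpos.2 h1)

theorem cartan_op [Finite W] (h : IsCartan M A) (i j : I) : A (op cs i) (op cs j) = A i j := by
  have h1 : rep cs h (cs.simple (op cs i) * w0 cs) (sr j) = rep cs h (w0 cs * cs.simple i) (sr j) := by
    rw [simple_op_mul_w0]
  rw [rep_mul_apply, rep_mul_apply, rep_w0_sr, map_neg, rep_simple_eq, rep_simple_eq, map_sub, map_smul, rep_w0_sr,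
    rep_w0_sr, pairing_sr0, pairing_sr0] at h1
  have h2 := congrFun h1 (op cs i)
  simp only [Pi.neg_apply, Pi.sub_apply, Pi.smul_apply, sr_self, smul_eq_mul] at h2
  omega

theorem irr_of_three [Finite W] [Finite Y] [Fact p.Prime] (R : RGD cs h p T n X) {i j : I} (hM : M i j = 3) :
    Irr p T (X (sr j)) := by
  rintro β ⟨k, hk⟩ hP hT x hx
  obtain ⟨y, hy, hy1, e⟩ := KFacts.RgdField.exists_fixed hk hP (R.pgrp j) (X_ne_bot R (isRoot_sr cs h j))
  by_cases hx1 : x = 1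
  · rw [hx1, map_one]
  obtain ⟨t, ht, rfl⟩ := A2.tor_trans R (H939.RgdV.a2_simple (cs := cs) (h := h) hM) hy hy1 hx hx1
  rw [map_mul, map_mul, map_inv, hT t ht.1, e]

theorem cj_half (R : RGD cs h p T n X) {w : W} {g : Y} (hg : Rp cs R.nsys w g) (f : (I → ℤ) →+ ℤ) :
    cj g (PS T X (Half cs h f)) = PS T X (Half cs h (pull cs h f w⁻¹)) := by
  rw [cj_PS R hg fun x hx => hx.1]
  congr 1
  ext x
  refine and_congr_left fun _ => ⟨fun hx => ?_, fun hx => hx.act _⟩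
  simpa only [rep_apply_inv, _root_.Representation.self_inv_apply] using hx.act w

namespace Ctx

variable {S : Subgroup (MulAut Y)} {J : Set I} (C : Ctx cs h T X S J)
  [Finite W] [Finite Y] [Fact p.Prime] (R : RGD cs h p T n X)
include C R

theorem good_of_plane {i j : I} (hi : i ∉ J) (hj : j ∈ J) (hall : ∀ k, k = i ∨ k = j) (hM : M i j = 3) :
    Good (InnG Y) S := by
  have hp : p.Prime := Fact.out
  have hij : i ≠ j := fun e => hi (e ▸ hj)
  have hA : A i j = -1 ∧ A j i = -1 := by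
    rcases h.rel i j hij with ⟨h1, -⟩ | ⟨-, h1⟩ | ⟨h1, -⟩ | ⟨h1, -⟩
    exacts [by omega, h1, by omega, by omega]
  have a2 : A2 cs h (sr i) (sr j) := H939.RgdV.a2_simple hM
  have pr : ∀ k (x : I → ℤ), pairing A k x = A k i * x i + A k j * x j := by
    intro k x
    unfold pairing
    rw [← Finset.sum_pair (f := fun l => A k l * x l) hij]
    refine (Finset.sum_subset (Finset.subset_univ _) fun l _ hl => ?_).symm
    exact absurd (by simpa using hall l) hl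
  set f₁ : (I → ℤ) →+ ℤ := Pi.evalAddMonoidHom (fun _ => ℤ) i with hf₁
  have e₁ : ∀ x, f₁ x = x i := fun _ => rfl
  have hP : PS T X (Half cs h f₁) = PJ cs h T X J := by
    rw [PS_half_of_dom fun k => sr_nonneg k i]
    congr 1
    ext k
    rcases hall k with rfl | rfl
    · simp [e₁, sr_self, hi]
    · simp [e₁, sr_ne hij, hj]
  have hn := rp_simple cs R.nsys i
  have hk := (rp_simple cs R.nsys j).mul hn
  set f₂ := pull cs h f₁ (cs.simple i)⁻¹ with hf₂
  set f₃ := pull cs h f₁ (cs.simple j * cs.simple i)⁻¹ with hf₃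
  have e₂ : ∀ x, f₂ x = x j - x i := by
    intro x
    rw [hf₂, pull_apply, e₁, cs.inv_simple, rep_simple_apply_self, pr, h.diag, hA.1]
    ring
  have e₃ : ∀ x, f₃ x = -x j := by
    intro x
    rw [hf₃, pull_apply, e₁, mul_inv_rev, cs.inv_simple, cs.inv_simple, rep_mul_apply, rep_simple_apply_self, pr,
      h.diag, hA.1, rep_simple_apply_self, rep_simple_apply _ _ _ _ _ hij, pr, h.diag, hA.2]
    ring
  have hP₂ : cj (n i) (PJ cs h T X J) = PS T X (Half cs h f₂) := by rw [← hP, cj_half R hn]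
  have hP₃ : cj (n j * n i) (PJ cs h T X J) = PS T X (Half cs h f₃) := by rw [← hP, cj_half R hk]
  have hs : rep cs h (cs.simple i) (sr j) = sr i + sr j := by
    rw [rep_simple_eq, pairing_sr0, hA.1, neg_smul, one_smul, sub_neg_eq_add, add_comm]
  have hcj : ∀ x, n i * x * (n i)⁻¹ ∈ X (sr i + sr j) ↔ x ∈ X (sr j) := by
    intro x
    rw [← hs, ← R.conj i _ (isRoot_sr cs h j), conj_mem_cj]
  have hV : ∀ b ∈ X (sr j), ∀ c ∈ X (sr i + sr j), b * c ∈ RGD.Sup X {x | IsRoot cs h x ∧ f₃ x < 0} :=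
    fun b hb c hc => mul_mem (RGD.le_Sup (S := {x | IsRoot cs h x ∧ f₃ x < 0}) ⟨a2.ry, by simp [e₃, sr_self]⟩ hb)
      (RGD.le_Sup (S := {x | IsRoot cs h x ∧ f₃ x < 0}) ⟨a2.rxy, by simp [e₃, sr_self, sr_ne hij.symm]⟩ hc)
  have hne : sr j ≠ sr i + sr j := fun e => sr_ne_zero i (by simpa using e)
  have huniq : ∀ b ∈ X (sr j), ∀ c ∈ X (sr i + sr j), ∀ b' ∈ X (sr j), ∀ c' ∈ X (sr i + sr j),
      (b * c)⁻¹ * (b' * c') ∈ PS T X (Half cs h f₃) → b = b' ∧ c = c' := by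
    intro b hb c hc b' hb' c' hc' h1
    have h2 := key R f₃ rp_one (mul_mem (inv_mem (hV b hb c hc)) (hV b' hb' c' hc')) (by rwa [mul_one])
    rw [inv_mul_eq_one] at h2
    have h3 : b'⁻¹ * b = c' * c⁻¹ := by rw [inv_mul_eq_iff_eq_mul, ← mul_assoc, ← h2, mul_inv_cancel_right]
    have h4 : b'⁻¹ * b ∈ X (sr j) ⊓ X (sr i + sr j) :=
      Subgroup.mem_inf.2 ⟨mul_mem (inv_mem hb') hb, h3 ▸ mul_mem hc' (inv_mem hc)⟩
    rw [X_inf_X R a2.ry a2.rxy hne, Subgroup.mem_bot] at h4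
    rw [h4, eq_comm, mul_inv_eq_one] at h3
    exact ⟨(inv_mul_eq_one.1 h4).symm, h3.symm⟩
  -- the root group is cyclic of order `p`
  have hcyc : IsCyclic (X (sr j)) := by
    by_contra hc
    refine H938.not_isSolvable_LJ_one hp R le_rfl (fun a ha b hb => ?_) hc
      (C.solvable ((LJ_mono (Set.singleton_subset_iff.2 hj)).trans LJ_le_PJ))
    have := A2.comm_self R a2 ((hcj a).2 ha) ((hcj b).2 hb)
    rw [conj_mul, conj_mul] at this
    simpa only [_root_.mul_left_inj, _root_.mul_right_inj] using this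
  obtain ⟨u, hu, hu1⟩ := exists_ne_one R j
  have hgen : ∀ y ∈ X (sr j), ∃ m : ℤ, u ^ m = y := by
    obtain ⟨g, hg⟩ := hcyc.exists_generator
    have h1 : Nat.card (X (sr j)) ∣ p := by
      rw [← orderOf_eq_card_of_forall_mem_zpowers hg]
      exact orderOf_dvd_of_pow_eq_one (Subtype.ext (KFacts.RgdEx.elementary R a2 g.2))
    have h2 : orderOf u = p := orderOf_eq_prime (KFacts.RgdEx.elementary R a2 hu) hu1
    have h3 : Subgroup.zpowers u = X (sr j) :=
      Subgroup.eq_of_le_of_card_ge (by simpa using hu) (by rw [Nat.card_zpowers, h2]; exact Nat.le_of_dvd hp.pos h1)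
    intro y hy
    rw [← h3] at hy
    exact hy
  refine Or.inr (seven_of_four ⟨MulAut.conj (n i), ⟨_, rfl⟩, MulAut.conj (n j * n i), ⟨_, rfl⟩,
    MulAut.conj (u * (n i * u * (n i)⁻¹) * (n j * n i)), ⟨_, rfl⟩, fun s hs h1 h2 h3 => ?_⟩ ?_)
  · have conj_iff : ∀ s ∈ S, ∀ x, (MulAut.conj x)⁻¹ * s * MulAut.conj x ∈ S ↔ x⁻¹ * s x ∈ PJ cs h T X J := by
      intro s hs x
      have e : (MulAut.conj x)⁻¹ * s * MulAut.conj x = MulAut.conj (x⁻¹ * s x) * s := by
        rw [map_mul, map_inv, ← conj_conj']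
        group
      rw [e, Subgroup.mul_mem_cancel_right _ hs, C.par]
    rw [conj_iff s hs] at h1 h2 h3
    have one : ∀ {β σ}, β ∈ S → Fr cs h T X β σ → σ = 1 := by
      intro β σ hβ F
      have h4 := F.mem_of_PJ R (C.fix hβ)
      have h5 : σ i = i := (hall _).resolve_right fun e => hi ((h4 i).1 (e ▸ hj))
      ext k
      rcases hall k with rfl | rfl
      · exact h5
      · exact (hall _).resolve_left fun e => hij (σ.injective (h5.trans e.symm))
    have tor : ∀ {β}, Diag T X β (1 : Equiv.Perm I) → (n i)⁻¹ * β (n i) ∈ T ∧ (n j * n i)⁻¹ * β (n j * n i) ∈ T := by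
      intro β D
      refine ⟨hn.unique (D.rp (R := R) i), hk.unique ?_⟩
      rw [map_mul]
      exact (D.rp (R := R) j).mul (D.rp (R := R) i)
    have hTP : T ≤ PJ cs h T X J := RGD.T_le_B.trans B_le_PJ
    obtain ⟨g, hg, β, hβ, σ, F, -, rfl⟩ := C.decomp R hs
    obtain rfl := one hβ F
    have aux : ∀ x, x⁻¹ * β x ∈ T → x⁻¹ * (MulAut.conj g * β) x ∈ PJ cs h T X J → g ∈ cj x (PJ cs h T X J) := by
      intro x h4 h5
      rw [mem_cj]
      have e : x⁻¹ * g * x = x⁻¹ * (MulAut.conj g * β) x * g * (x⁻¹ * β x)⁻¹ := by simp only [mul_assoc, _root_.MulAut.mul_apply, _root_.MulAut.conj_apply, _root_.inv_mul_cancel, _root_.mul_one, _root_.mul_inv_rev, _root_.inv_inv, _root_.mul_inv_cancel_left]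
      rw [e]
      exact mul_mem (mul_mem h5 hg) (inv_mem (hTP h4))
    have hgT : g ∈ T := by
      have h4 := (inter R [f₁, f₂, f₃] (g := g) (by rw [C.top]; trivial) (by
        intro f hf
        simp only [List.mem_cons, List.not_mem_nil, or_false] at hf
        rcases hf with rfl | rfl | rfl
        · rwa [hP]
        · rw [← hP₂]; exact aux _ (tor F.D).1 h1
        · rw [← hP₃]; exact aux _ (tor F.D).2 h2)).1
      have h5 : {x | IsRoot cs h x ∧ ∀ f ∈ [f₁, f₂, f₃], 0 ≤ f x} = ∅ := by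
        refine Set.eq_empty_of_forall_notMem fun x hx => hx.1.ne_zero ?_
        have a1 := hx.2 f₁ (by simp)
        have a2 := hx.2 f₂ (by simp)
        have a3 := hx.2 f₃ (by simp)
        rw [e₁] at a1
        rw [e₂] at a2
        rw [e₃] at a3
        ext k
        rcases hall k with rfl | rfl <;> simp only [Pi.zero_apply] <;> omega
      rwa [h5, PS, Sup_empty, sup_bot_eq] at h4
    have D : Diag T X (MulAut.conj g * β) (1 : Equiv.Perm I) := by simpa using (diag_conj R hgT).mul F.D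
    generalize MulAut.conj g * β = s at h3 D
    have hc : ∀ x, s x ∈ X (sr i + sr j) ↔ x ∈ X (sr i + sr j) := fun x =>
      Diag.root_comp R D (fun _ _ => rfl) a2.rxy x
    have h4 := huniq u hu _ ((hcj u).2 hu) _ ((D.pos j u).2 hu) _ ((hc _).2 ((hcj u).2 hu)) (by
      rw [← hP₃, mem_cj, ← map_mul]
      have h5 := mul_mem h3 (inv_mem (hTP (tor D).2))
      generalize u * (n i * u * (n i)⁻¹) = v at h5 ⊢
      generalize n j * n i = k at h5 ⊢
      simpa only [mul_assoc, _root_.mul_inv_rev, _root_.map_mul, _root_.inv_inv, _root_.mul_inv_cancel_left] using h5)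
    have h5 : ∀ y ∈ X (sr j), s y = y := by
      intro y hy
      obtain ⟨m, rfl⟩ := hgen y hy
      rw [map_zpow, ← h4.1]
    have h6 : ∀ y ∈ X (sr i + sr j), s y = y := by
      intro y hy
      obtain ⟨m, hm⟩ := hgen ((n i)⁻¹ * y * n i) ((hcj _).1 (by simpa [mul_assoc] using hy))
      have e : y = (n i * u * (n i)⁻¹) ^ m := by rw [conj_zpow, hm]; group
      rw [e, map_zpow, ← h4.2]
    refine Diag.eq_one R C.gen D fun l x hx => ?_
    rcases hall l with rfl | rfl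
    · refine A2.comm_inj R a2.symm hu hu1 ((D.pos l x).2 hx) hx ?_
      have h7 := h6 _ (add_comm (sr j) (sr l) ▸ A2.comm_mem R a2.symm hu hx)
      rwa [map_commutatorElement, h5 u hu] at h7
    · exact h5 x hx
  · have e : S.comap MulAut.conj = PJ cs h T X J := by
      ext g
      exact C.par g
    rw [← Subgroup.index_comap, e]
    set P := PJ cs h T X J with hPdef
    let F : Unit ⊕ X (sr i) ⊕ X (sr j) × X (sr i + sr j) → Y :=
      Sum.elim (fun _ => 1) (Sum.elim (fun a => a * n i) fun b => b.1 * b.2 * (n j * n i))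
    have hcjeq : ∀ {x y : Y}, (x : Y ⧸ P) = y → cj x P = cj y P := by
      intro x y hxy
      rw [QuotientGroup.eq] at hxy
      rw [← mul_inv_cancel_left x y, cj_mul, cj_eq_of_mem hxy]
    have i1 : ∀ a ∈ X (sr i), ¬ X (sr i) ≤ cj (a * n i) P := by
      intro a ha h1
      rw [cj_mul, hP₂, ← cj_eq_of_mem ha, cj_le_cj_iff, X_le_half_iff R _ a2.rx, e₂, sr_self, sr_ne hij.symm] at h1
      omega
    have i2 : ∀ a ∈ X (sr i), X (sr i + sr j) ≤ cj (a * n i) P := by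
      intro a ha x hx
      rw [cj_mul, hP₂, mem_cj, mul_assoc, A2.comm_left R a2 hx ha, inv_mul_cancel_left]
      exact (X_le_half_iff R _ a2.rxy).2 (by simp [e₂, sr_self, sr_ne hij, sr_ne hij.symm]) hx
    have i3 : ∀ b ∈ X (sr j), ∀ c ∈ X (sr i + sr j), ¬ X (sr i + sr j) ≤ cj (b * c * (n j * n i)) P := by
      intro b hb c hc h1
      have h2 : X (sr i + sr j) ≤ PS T X (Half cs h f₃) := by
        intro x hx
        have h3 := h1 hx
        rwa [cj_mul, hP₃, mem_cj, mul_assoc, ← mul_assoc x, A2.comm_right R a2 hx hb, mul_assoc b,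
          A2.comm_self R a2 hx hc, ← mul_assoc b, inv_mul_cancel_left] at h3
      rw [X_le_half_iff R _ a2.rxy, e₃] at h2
      simp [sr_self, sr_ne hij.symm] at h2
    have i4 : X (sr i) ≤ cj 1 P := by
      rw [cj_one]
      exact (RGD.X_le_B a2.rx (sr_nonneg i)).trans B_le_PJ
    have i5 : X (sr i + sr j) ≤ cj 1 P := by
      rw [cj_one]
      exact (RGD.X_le_B a2.rxy (add_nonneg (sr_nonneg i) (sr_nonneg j))).trans B_le_PJ
    have hF : Function.Injective fun x => (F x : Y ⧸ P) := by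
      rintro (_ | a | ⟨b, c⟩) (_ | a' | ⟨b', c'⟩) hxy
      · rfl
      · exact absurd (hcjeq hxy ▸ i4) (i1 _ a'.2)
      · exact absurd (hcjeq hxy ▸ i5) (i3 _ b'.2 _ c'.2)
      · exact absurd (hcjeq hxy.symm ▸ i4) (i1 _ a.2)
      · have h1 : (a : Y)⁻¹ * a' ∈ PS T X (Half cs h f₂) := by
          rw [← hP₂, mem_cj]
          simpa only [F, mul_assoc, _root_.Sum.elim_inr, _root_.Sum.elim_inl, _root_.mul_inv_rev] using QuotientGroup.eq.1 hxy
        have h2 := key R f₂ rp_one (RGD.le_Sup (S := {x | IsRoot cs h x ∧ f₂ x < 0})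
          ⟨a2.rx, by simp [e₂, sr_self, sr_ne hij.symm]⟩ (mul_mem (inv_mem a.2) a'.2)) (by rwa [mul_one])
        rw [Subtype.ext (inv_mul_eq_one.1 h2)]
      · exact absurd (hcjeq hxy ▸ i2 _ a.2) (i3 _ b'.2 _ c'.2)
      · exact absurd (hcjeq hxy.symm ▸ i5) (i3 _ b.2 _ c.2)
      · exact absurd (hcjeq hxy.symm ▸ i2 _ a'.2) (i3 _ b.2 _ c.2)
      · have h1 := huniq _ b.2 _ c.2 _ b'.2 _ c'.2 (by
          rw [← hP₃, mem_cj]
          simpa only [F, mul_assoc, _root_.mul_inv_rev, _root_.Sum.elim_inr] using QuotientGroup.eq.1 hxy)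
        rw [Subtype.ext h1.1, Subtype.ext h1.2]
    have h1 := Nat.card_le_card_of_injective _ hF
    rw [Nat.card_sum, Nat.card_sum, Nat.card_prod, Nat.card_unique] at h1
    have two : ∀ x, IsRoot cs h x → 2 ≤ Nat.card (X x) := fun x hx =>
      (Subgroup.one_lt_card_iff_ne_bot _).2 (X_ne_bot R hx)
    have h2 := two _ a2.rx
    have h3 := Nat.mul_le_mul (two _ a2.ry) (two _ a2.rxy)
    rw [Subgroup.index_eq_card]
    omega

/-- **The parabolic case for root group data.** -/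
theorem good (hI : (∀ i j, M i j ≠ 3) → ∃ i, Irr p T (X (sr i)) ∧
    ∀ j, j ≠ i → Irr p T (X (sr j)) ∨ ¬ Group.IsSolvable (LJ cs h T X {i})) : Good (InnG Y) S := by
  rcases (C.orb R).op_cases cs h (op_op cs (simple_inj h)) (matrix_op (cs := cs)) with hJ | ⟨o, ho, ho', hall⟩
  · refine C.good_of_op R hJ ?_
    obtain ⟨o, ho⟩ := C.ne
    by_cases h3 : ∃ k, M k o = 3
    · obtain ⟨k, hk⟩ := h3
      exact ⟨o, ho, irr_of_three R hk⟩
    · push Not at h3
      have h3' : ∀ k, M o k ≠ 3 := fun k => by rw [M.symmetric]; exact h3 k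
      obtain ⟨b, hb⟩ := (C.orb R).two_of_no_three cs h ho h3'
      obtain ⟨i, hi, hi'⟩ := hI (by
        intro i j
        rcases hb i with rfl | rfl
        · exact h3' j
        · rcases hb j with rfl | rfl
          · exact h3 i
          · rw [M.diagonal]; omega)
      by_cases hiJ : i ∈ J
      · exact ⟨o, ho, (hi' o fun e => ho (e ▸ hiJ)).resolve_right (not_not.2
          (C.solvable ((LJ_mono (Set.singleton_subset_iff.2 hiJ)).trans LJ_le_PJ)))⟩
      · exact ⟨i, hiJ, hi⟩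
  · refine C.good_of_plane R ho ho' hall ?_
    have hne : o ≠ op cs o := fun e => ho (e ▸ ho')
    obtain ⟨o', ho'', hadj⟩ := (C.orb R).exists_adj ho'
    obtain rfl : o' = o := (hall o').resolve_right fun e => ho'' (e ▸ ho')
    have h1 := cartan_op (cs := cs) h o' (op cs o')
    rw [op_op cs (simple_inj h)] at h1
    have h2 := hadj.2
    rw [M.symmetric] at h2
    rcases h.rel o' (op cs o') hne with ⟨h3, -⟩ | ⟨h3, -⟩ | ⟨-, h3 | h3⟩ | ⟨-, h3 | h3⟩
    exacts [absurd h3 h2, h3, by omega, by omega, by omega, by omega]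

end Ctx

end Cfsg.Agent.SB.Par
end

-- part: SB/Par/Bt
section
/-!
# S5765, parabolic case: Borel–Tits (helper64)

* `BTI p Y` : the theorem of Borel and Tits without root data; `bti_of_filt`;
* `exists_borel` : `S` contains the normaliser in `Inn Y` of a Sylow `p`-subgroup;
* `rowP_of_rgd` : `RowP p Y` from a root group datum.
-/

set_option autoImplicit false
set_option linter.unusedSectionVars false

namespace Cfsg.Agent.SB.Par

open CoxeterSystem Cfsg.Agent.ChevalleyStructure.CoxeterGeom Cfsg.Agent.Tits.Roots Cfsg.Agent.Tits.Core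
  Cfsg.Agent.Tits.Exchange Cfsg.Agent.Nodes.Reps Cfsg.Agent.Nodes.BNOf Cfsg.Agent.Nodes.StabComb
  Cfsg.Agent.Nodes.Bruhat Cfsg.Agent.Nodes.OppDec Cfsg.Agent.Nodes.LeviDec Cfsg.Agent.Nodes.NormalForm
  Cfsg.Agent.KFacts.RgdOpp Cfsg.Agent.KFacts.RgdAut Cfsg.Agent.KFacts.RgdDiag Cfsg.Agent.KFacts.RgdRigid
  Cfsg.Agent.KFacts.RgdVJ Cfsg.Agent.KFacts.RgdCharP Cfsg.Agent.H786.FC Cfsg.Agent.KFacts.RgdFilt

variable {I W Y : Type*} [Fintype I] [DecidableEq I] [Group W] [Group Y] {M : CoxeterMatrix I}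
  {cs : CoxeterSystem M W} {A : I → I → ℤ} {h : IsCartan M A} {p : ℕ} {T : Subgroup Y} {n : I → Y}
  {X : (I → ℤ) → Subgroup Y}

/-- a maximal `p`-subgroup -/
def MaxP (p : ℕ) (U : Subgroup Y) : Prop := IsPGroup p U ∧ ∀ Q : Subgroup Y, IsPGroup p Q → U ≤ Q → Q = U

/-- Borel–Tits -/
def BTI (p : ℕ) (Y : Type*) [Group Y] : Prop :=
  ∀ K : Subgroup Y, IsPGroup p K → K ≠ ⊥ → ∃ V : Subgroup Y, IsPGroup p V ∧ K ≤ V ∧
    Subgroup.normalizer (K : Set Y) ≤ Subgroup.normalizer (V : Set Y) ∧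
      ∃ U : Subgroup Y, MaxP p U ∧ Subgroup.normalizer (U : Set Y) ≤ Subgroup.normalizer (V : Set Y)

theorem MaxP.cj {U : Subgroup Y} (hU : MaxP p U) (g : Y) : MaxP p (cj g U) := by
  refine ⟨hU.1.map _, fun Q hQ hle => ?_⟩
  rw [← hU.2 (Nodes.Reps.cj g⁻¹ Q) (hQ.map _) (by rw [← cj_le_cj_iff g, cj_cj_inv]; exact hle), cj_cj_inv]

theorem MaxP.exists_cj [Finite Y] [Fact p.Prime] {U U' : Subgroup Y} (hU : MaxP p U) (hU' : MaxP p U') :
    ∃ g, Nodes.Reps.cj g U = U' := by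
  let P : Sylow p Y := ⟨U, hU.1, fun {Q} hQ hle => hU.2 Q hQ hle⟩
  let P' : Sylow p Y := ⟨U', hU'.1, fun {Q} hQ hle => hU'.2 Q hQ hle⟩
  obtain ⟨g, hg⟩ := MulAction.exists_smul_eq Y P P'
  exact ⟨g, congrArg Sylow.toSubgroup hg⟩

theorem normalizer_cj (g : Y) (H : Subgroup Y) :
    Subgroup.normalizer (cj g H : Set Y) = cj g (Subgroup.normalizer (H : Set Y)) := by
  ext x
  rw [mem_cj, mem_normalizer_iff_cj, mem_normalizer_iff_cj, cj_mul, cj_mul]
  exact ⟨fun h1 => by rw [h1, cj_inv_cj], fun h1 => by rw [← cj_cj_inv g (cj x (cj g H)), h1]⟩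

theorem maxP_U [Finite W] [Finite Y] [Fact p.Prime] (R : RGD cs h p T n X) (hG : GG cs h T X = ⊤) :
    MaxP p (RGD.Sup X (RGD.Pos cs h)) :=
  ⟨R.isPGroup_Upos, fun _ hQ hle => eq_U_of_isPGroup R hQ hle (by rw [hG]; exact le_top)⟩

theorem bti_of_filt [Finite Y] [Fact p.Prime] (hF : HasFilt p Y) : BTI p Y := by
  obtain ⟨l, M, A, h, T, n, X, R, F, hW, hX, hF⟩ := hF
  intro K hK hK1
  obtain ⟨g, J, -, h1, h2⟩ := borel_tits_of_filt hF hX hK hK1
  have hG := KFacts.RgdFilt.GG_eq_top (T := T) hX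
  refine ⟨_, (isPGroup_VJ R J).map _, h1, h2.trans ?_, _, (maxP_U R hG).cj g, ?_⟩
  · exact (cj_mono g (PJ_le_normalizer_VJ R J)).trans (normalizer_cj g _).ge
  · refine (normalizer_cj g _).le.trans ((cj_mono g ?_).trans (normalizer_cj g _).ge)
    rw [normalizer_U' R hG]
    exact B_le_PJ.trans (PJ_le_normalizer_VJ R J)

theorem center_bot [IsSimpleGroup Y] (hY : ¬ IsMulCommutative Y) : Subgroup.center Y = ⊥ :=
  KFacts.RgdLieCharP.center_eq_bot (by
    by_contra hc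
    push Not at hc
    exact hY ⟨⟨hc⟩⟩)

/-- `S ∩ Inn Y` contains a Borel subgroup -/
theorem exists_borel [Finite Y] [IsSimpleGroup Y] [Fact p.Prime] (hY : ¬ IsMulCommutative Y) (hB : BTI p Y)
    {S : Subgroup (MulAut Y)} (hS : Group.IsSolvable S) (hm : MaxInv (InnG Y) S) (hn : ¬ NPar p (InnG Y) S) :
    ∃ U : Subgroup Y, MaxP p U ∧ ∀ g ∈ Subgroup.normalizer (U : Set Y), MulAut.conj g ∈ S := by
  have hinj := conj_injective hY
  set R := S.comap (MulAut.conj : Y →* MulAut Y) with hR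
  have hRS : ∀ s ∈ S, ∀ g ∈ R, s g ∈ R := fun s hs g hg => by
    rw [hR, Subgroup.mem_comap, ← conj_conj']
    exact mul_mem (mul_mem hs hg) (inv_mem hs)
  set Q : Subgroup Y → Prop := fun K => IsPGroup p K ∧ K ≤ R ∧ R ≤ Subgroup.normalizer (K : Set Y) with hQ
  have hsup : ∀ K K', Q K → Q K' → Q (K ⊔ K') := fun K K' h1 h2 =>
    ⟨IsPGroup.to_sup_of_normal_right' h1.1 h2.1 (h1.2.1.trans h2.2.2), sup_le h1.2.1 h2.2.1, fun g hg => by
      rw [mem_normalizer_iff_cj, cj_sup, mem_normalizer_iff_cj.1 (h1.2.2 hg), mem_normalizer_iff_cj.1 (h2.2.2 hg)]⟩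
  obtain ⟨K, hK⟩ := exists_maximal_of_wellFoundedGT Q ⟨⊥, IsPGroup.of_bot, bot_le, fun g _ => by
    rw [mem_normalizer_iff_cj, KFacts.RgdFilt.cj_bot]⟩
  have hle : ∀ K', Q K' → K' ≤ K := fun K' h1 => le_sup_right.trans (hK.2 (hsup K K' hK.1 h1) le_sup_left)
  have hK1 : K ≠ ⊥ := by
    intro hb
    refine hn fun E h1 h2 h3 => ?_
    have h4 := hle (E.comap MulAut.conj) ⟨h2.comap_of_injective _ hinj, fun x hx => (h1 hx).1,
      le_normalizer_of_conj fun g hg x hx => by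
        rw [Subgroup.mem_comap, map_mul, map_mul, map_inv]
        exact h3 _ hg _ hx⟩
    rw [eq_bot_iff]
    intro e he
    obtain ⟨x, rfl⟩ := (h1 he).2
    have h5 : x ∈ K := h4 he
    rw [hb, Subgroup.mem_bot] at h5
    rw [h5, map_one]
    exact one_mem _
  have hKS : ∀ s ∈ S, ∀ x ∈ K, s x ∈ K := by
    intro s hs x hx
    refine hle (K.map s.toMonoidHom) ⟨hK.1.1.map _, ?_, le_normalizer_of_conj ?_⟩ ⟨x, hx, rfl⟩
    · rintro _ ⟨y, hy, rfl⟩
      exact hRS s hs y (hK.1.2.1 hy)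
    · rintro g hg _ ⟨y, hy, rfl⟩
      refine ⟨_, (Subgroup.mem_normalizer_iff.1 (hK.1.2.2 (hRS _ (inv_mem hs) g hg)) y).1 hy, ?_⟩
      simp only [_root_.MulEquiv.toMonoidHom_eq_coe, _root_.MulAut.inv_apply, _root_.MonoidHom.coe_coe, _root_.map_mul, _root_.MulEquiv.apply_symm_apply, _root_.map_inv]
  have hN : Subgroup.normalizer (K : Set Y) ≤ R := by
    intro g hg
    refine hm.mem_of_normalizes (as_inn hY) (X := K.map MulAut.conj)
      (fun e => hK1 ((Subgroup.map_eq_bot_iff_of_injective _ hinj).1 e))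
      (fun e => (as_inn hY).not_le hS (e.trans (Subgroup.map_le_iff_le_comap.2 hK.1.2.1))) ?_ ⟨g, rfl⟩ ?_
    · rintro s hs _ ⟨y, hy, rfl⟩
      exact ⟨_, hKS s hs y hy, (conj_conj' s y).symm⟩
    · rintro _ ⟨y, hy, rfl⟩
      exact ⟨_, (Subgroup.mem_normalizer_iff.1 hg y).1 hy, by simp only [_root_.map_mul, _root_.map_inv]⟩
  obtain ⟨V, hV, hKV, hNV, U, hU, hUV⟩ := hB K hK.1.1 hK1
  have h1 : R ⊓ V ≤ K := hle _ ⟨hV.to_inf_right, inf_le_left, le_normalizer_of_conj fun g hg x hx =>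
    Subgroup.mem_inf.2 ⟨mul_mem (mul_mem hg hx.1) (inv_mem hg),
      (Subgroup.mem_normalizer_iff.1 (hNV (hK.1.2.2 hg)) x).1 hx.2⟩⟩
  have h2 : K = V := by
    have := hV.isNilpotent
    have h3 := normalizerCondition_iff_only_full_group_self_normalizing.1
      (Group.normalizerCondition_of_isNilpotent (G := V)) (K.subgroupOf V) (by
        rw [← Subgroup.subgroupOf_normalizer_eq hKV]
        exact le_antisymm (fun x hx => h1 ⟨hN hx, x.2⟩) fun x hx => Subgroup.le_normalizer hx)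
    exact le_antisymm hKV (Subgroup.subgroupOf_eq_top.1 h3)
  exact ⟨U, hU, fun g hg => hN (h2 ▸ hUV hg)⟩

/-- conjugating into the standard position -/
theorem rowP_of_std [Finite Y] [IsSimpleGroup Y] [Fact p.Prime] (hY : ¬ IsMulCommutative Y) (hB : BTI p Y)
    {U : Subgroup Y} (hU : MaxP p U) (H : ∀ S : Subgroup (MulAut Y), Group.IsSolvable S → MaxInv (InnG Y) S →
      (∀ g ∈ Subgroup.normalizer (U : Set Y), MulAut.conj g ∈ S) → Good (InnG Y) S) : RowP p Y := by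
  intro S hS hm hn
  obtain ⟨U', hU', h1⟩ := exists_borel hY hB hS hm hn
  obtain ⟨g, rfl⟩ := hU.exists_cj hU'
  refine Good.of_conj (innG_normal Y) (MulAut.conj g⁻¹) (H _ ?_ (hm.conj (innG_normal Y) _) fun x hx => ?_)
  · exact Group.isSolvable_of_surjective ((MulAut.conj (MulAut.conj g⁻¹)).toMonoidHom.subgroupMap_surjective S)
  · refine ⟨_, h1 (g * x * g⁻¹) (by rw [normalizer_cj, conj_mem_cj]; exact hx), ?_⟩
    simp [mul_assoc]

/-- **The parabolic case for a simple group with a root group datum.** -/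
theorem rowP_of_rgd [Finite W] [Finite Y] [IsSimpleGroup Y] [Fact p.Prime] (hY : ¬ IsMulCommutative Y)
    (hB : BTI p Y) (R : RGD cs h p T n X) (hG : RGD.Sup X {x | IsRoot cs h x} = ⊤)
    (hI : (∀ i j, M i j ≠ 3) → ∃ i, Irr p T (X (sr i)) ∧
      ∀ j, j ≠ i → Irr p T (X (sr j)) ∨ ¬ Group.IsSolvable (LJ cs h T X {i})) : RowP p Y := by
  have hG' : GG cs h T X = ⊤ := KFacts.RgdRigid.GG_eq_top hG
  refine rowP_of_std hY hB (maxP_U R hG') fun S hS hm h1 => ?_
  rw [normalizer_U' R hG'] at h1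
  have h2 := eq_PJ R hG' (P := S.comap MulAut.conj) h1 (J := {i | MulAut.conj (n i) ∈ S}) fun _ => Iff.rfl
  refine Ctx.good ⟨hG, center_bot hY, KFacts.RgdLieCharP.conn_of_simple R hG (center_bot hY), hS, hm,
    fun g => by rw [← h2]; rfl, ?_⟩ R hI
  by_contra hc
  push Not at hc
  refine (as_inn hY).not_le hS ?_
  rintro _ ⟨g, rfl⟩
  have h3 : g ∈ S.comap MulAut.conj := by
    rw [h2, Set.eq_univ_of_forall hc]
    refine LJ_le_PJ ?_
    rw [LJ_univ, hG']
    trivial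
  exact h3

end Cfsg.Agent.SB.Par
end

-- part: SB/Par/Fam
section
/-!
# S5765, parabolic case: the families with a root group datum (helper64)

`rowP_of_lieFilt` : `RowP p K` for the groups of Lie type other than `²F₄(q)` and the groups of rank one.
-/

set_option autoImplicit false
set_option linter.unusedSectionVars false

namespace Cfsg.Agent.SB.Par

open CoxeterSystem Cfsg.Agent.ChevalleyStructure.CoxeterGeom Cfsg.Agent.Tits.Roots
  Cfsg.Agent.Nodes.Reps Cfsg.Agent.Nodes.BNOf Cfsg.Agent.Nodes.Bruhat Cfsg.Agent.KFacts.RgdAut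
  Cfsg.Agent.KFacts.RgdField Cfsg.Agent.H786.FC Cfsg.Agent.KFacts.RgdFilt Cfsg.Agent.Omega.ML.Ex.Typ
  Cfsg.Agent.KFacts.RgdLieCharP

theorem rowP_of_equiv {p : ℕ} {K K' : Type*} [Group K] [Group K'] (e : K ≃* K') (h : RowP p K') : RowP p K := by
  intro S hS hm hn
  have hφ : Function.Injective (MulAut.congr e).toMonoidHom := (MulAut.congr e).injective
  refine Good.of_map _ hφ ?_
  rw [congr_innG]
  refine h _ (Group.isSolvable_of_surjective ((MulAut.congr e).toMonoidHom.subgroupMap_surjective S)) ?_ fun h1 => ?_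
  · rw [← congr_innG e]
    exact hm.map _ hφ
  · rw [← congr_innG e] at h1
    exact hn (h1.of_map _ hφ)

theorem noncomm_of_equiv {K K' : Type*} [Group K] [Group K'] (e : K ≃* K') (h : ¬ IsMulCommutative K) :
    ¬ IsMulCommutative K' := fun h1 => h ⟨⟨fun a b => e.injective (by rw [map_mul, map_mul, h1.is_comm.comm])⟩⟩

section
variable {Y : Type*} [Group Y] [Finite Y] {p : ℕ} [Fact p.Prime]

theorem irr_of_span {F : Type*} [Field F] {T P : Subgroup Y} (hp : IsPGroup p P) (hP : P ≠ ⊥) {x : F → Y}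
    (mem : ∀ y, y ∈ P ↔ ∃ a, x a = y) (add : ∀ a b, x (a + b) = x a * x b)
    (span : ∀ S : AddSubgroup F, (∀ c, (∃ t ∈ T, ∀ a, t * x a * t⁻¹ = x (c * a)) → c ∈ S) → S = ⊤) : Irr p T P := by
  rintro β ⟨k, hk⟩ hβ hT y hy
  obtain ⟨y₀, hy₀, hy1, e⟩ := exists_fixed hk hβ hp hP
  obtain ⟨a₀, rfl⟩ := (mem _).1 hy₀
  obtain ⟨a, rfl⟩ := (mem _).1 hy
  have zero : x 0 = 1 := by
    have := add 0 0
    rwa [add_zero, left_eq_mul] at this
  have ha : a₀ ≠ 0 := fun h0 => hy1 (by rw [h0, zero])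
  let S : AddSubgroup F :=
    { carrier := {c | β (x (c * a₀)) = x (c * a₀)}
      zero_mem' := by simp [zero]
      add_mem' := fun {a b} h1 h2 => by
        simp only [Set.mem_ofPred_eq] at h1 h2 ⊢
        rw [add_mul, add, map_mul, h1, h2]
      neg_mem' := fun {a} h1 => by
        simp only [Set.mem_ofPred_eq] at h1 ⊢
        have h2 : x (-a * a₀) = (x (a * a₀))⁻¹ := by
          rw [eq_inv_iff_mul_eq_one, ← add, neg_mul, neg_add_cancel, zero]
        rw [h2, map_inv, h1] }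
  have h1 : a * a₀⁻¹ ∈ S := by
    rw [span S ?_]
    · trivial
    · rintro c ⟨t, ht, h2⟩
      change β _ = _
      rw [← h2, map_mul, map_mul, map_inv, hT t ht, e]
  change β _ = _ at h1
  rwa [inv_mul_cancel_right₀ ha] at h1

theorem irr_of_coord {F : Type*} [Field F] {T P : Subgroup Y} (hp : IsPGroup p P) {x : F → Y} {χ : Y → F}
    (C : Coord T P x χ) : Irr p T P := by
  refine irr_of_span hp (fun h => C.ne_one one_ne_zero ?_) C.mem C.add fun S hS => ?_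
  · rw [← Subgroup.mem_bot, ← h, C.mem]
    exact ⟨1, rfl⟩
  · rw [eq_top_iff, ← C.span, AddSubgroup.closure_le]
    rintro _ ⟨t, ht, rfl⟩
    exact hS _ ⟨t, ht, C.act t ht⟩

variable [IsSimpleGroup Y] (hY : ¬ IsMulCommutative Y) (hF : HasFilt p Y)
include hY hF

theorem rowP_of_three {l : ℕ} {M : CoxeterMatrix (Fin l)} (hT : HasRGDT p M Y) {i j : Fin l} (h3 : M i j = 3) :
    RowP p Y := by
  obtain ⟨A, h, T, n, X, hW, R, hG⟩ := hT
  exact rowP_of_rgd hY (bti_of_filt hF) R hG fun h1 => absurd h3 (h1 i j)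

theorem rowP_of_rank {l : ℕ} {M : CoxeterMatrix (Fin l)} (hT : HasRGDT p M Y) (h3 : 3 ≤ l) : RowP p Y := by
  obtain ⟨A, h, T, n, X, hW, R, hG⟩ := hT
  refine rowP_of_rgd hY (bti_of_filt hF) R hG fun h1 => ?_
  obtain ⟨b, hb⟩ := two_of_lf (conn_of_simple R hG (center_bot hY)) (lf_of_no_three M.toCoxeterSystem h h1)
    ⟨0, by omega⟩
  have h2 := hb ⟨1, by omega⟩
  have h4 := hb ⟨2, by omega⟩
  simp only [Fin.ext_iff] at h2 h4
  omega

end

section Witt

open Cfsg.Agent.Nodes Cfsg.Agent.Nodes.TypeC Cfsg.Agent.Nodes.WittAll Cfsg.Agent.Nodes.WittU Cfsg.Agent.Nodes.WittInst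
  Cfsg.Agent.Nodes.WittRoot Cfsg.Agent.Nodes.WittRGD
  Cfsg.Agent.TitsThree Cfsg.Agent.TitsThree.Siegel Cfsg.Agent.TitsThree.SiegelGen
  Cfsg.Agent.TitsThree.WittFrame Cfsg.Agent.TitsThree.WBridge Cfsg.Agent.TitsThree.WittWeyl
  Cfsg.Agent.TitsThree.FrameCN Cfsg.Agent.TitsThree.LineBorel

variable {F : Type*} [Field F] {V : Type*} [AddCommGroup V] [Module F V] {H : HForm F V} {n : ℕ}
  {Fr : Frame H (Fin n)} {K : Type*} [Group K] (M : Model Fr K)

theorem rowP_C [Finite K] [IsSimpleGroup K] (hK : ¬ IsMulCommutative K) {p : ℕ} (hA : AmbT Fr p M.I) [Finite V]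
    [Fact p.Prime] [CharP F p] {p0 : Fr.Adm} (hp0 : p0.c ≠ 0) (hn : 1 < n) [Finite F] (hF : ¬ (Nat.card F).Prime) :
    RowP p K := by
  have := Nodes.TypeC.finite_W (CoxeterMatrix.B n).toCoxeterSystem
  have R := rgdC_model M hA hp0 (CoxeterMatrix.B n).toCoxeterSystem
  set i : Fin n := ⟨0, by omega⟩ with hi
  have hi' : (i : ℕ) + 1 < n := hn
  have hne : (i, true).1 ≠ (nx i).1 := by
    unfold nx
    rw [dif_pos hi']
    simp [Fin.ext_iff]
  have mem : ∀ y, y ∈ WittModel.X M (sr i) ↔ ∃ a, M.X (i, true) (nx i) a = y := by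
    intro y
    rw [WittModel.mem_X, rg_sr, PG_ne _ hne]
    exact ⟨fun ⟨_, _, ⟨a, ha⟩, e⟩ => ⟨a, by subst ha; exact e.symm⟩, fun ⟨a, e⟩ => ⟨_, M.hX _ _ a, ⟨a, rfl⟩, e.symm⟩⟩
  refine rowP_of_rgd hK (bti_of_filt (KFacts.RgdFiltClass.hasFilt_C M hA hp0 (by omega))) R
    (WittModel.G1_eq_top _ (by omega) _) fun _ => ⟨i, ?_, fun _ _ => Or.inr ?_⟩
  · refine irr_of_span (R.pgrp i) (X_ne_bot R (isRoot_sr _ _ i)) mem
      (fun a b => (H938.mx M (i, true) (nx i)).map_mul (Multiplicative.ofAdd a) (Multiplicative.ofAdd b))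
      fun S hS => KFacts.RgdChevCoord.closure_sq fun c hc => hS _ ?_
    have h1 := WittAll.tor_of_mono (WittAll.nX_mem hA (i, true) (nx i) c) (WittAll.nX_mem hA (i, true) (nx i) 1)
      (mono_nX hi' hc) (mono_nX hi' one_ne_zero)
    refine ⟨M.φ ⟨_, h1.1⟩, ⟨⟨_, h1.1⟩, h1, rfl⟩, fun a => ?_⟩
    unfold Model.X
    rw [← map_mul, ← map_inv, ← map_mul]
    congr 1
    apply Subtype.ext
    have h2 := nX_conj_X_neg Fr hne one_ne_zero (-a)
    have h3 := nX_conj_X_neg Fr hne hc (-a)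
    rw [one_pow, one_mul, _root_.neg_neg] at h2
    rw [mul_neg, _root_.neg_neg] at h3
    change nX Fr _ _ c * (nX Fr _ _ 1)⁻¹ * Fr.X _ _ a * (nX Fr _ _ c * (nX Fr _ _ 1)⁻¹)⁻¹ = Fr.X _ _ (c ^ 2 * a)
    rw [← h2, ← h3]
    group
  · refine H938.not_isSolvable_LJ_one Fact.out R (E := (H938.mx M (i, true) (nx i)).range) ?_ ?_
      (H938.not_isCyclic_range _ (H938.mx_injective M hne) hF)
    · rintro _ ⟨a, rfl⟩
      exact (mem _).2 ⟨a.toAdd, rfl⟩
    · rintro _ ⟨a, rfl⟩ _ ⟨b, rfl⟩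
      rw [← map_mul, ← map_mul, mul_comm]

theorem rowP_PSU {F : Type*} [Field F] [Fintype F] {q N : ℕ} (hF : Fintype.card F = q ^ 2) (hN : 4 ≤ N) {p : ℕ}
    [Fact p.Prime] [CharP F p] [IsSimpleGroup (PSU N F q)] (hK : ¬ IsMulCommutative (PSU N F q)) :
    RowP p (PSU N F q) := by
  obtain ⟨m, hm⟩ : ∃ m, N = 2 * m ∨ N = 2 * m + 1 := ⟨N / 2, by omega⟩
  obtain ⟨W, -⟩ := exists_wframe hF hm
  obtain ⟨p0, hp0, -⟩ := exists_adm hF W
  have : Finite (PSU N F q) := Quotient.finite _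
  refine rowP_C (KInstU.model hF (by omega) W) hK (AmbT.of_amb (amb_U hF W) p) hp0 (by omega) ?_
  rw [Nat.card_eq_fintype_card, hF]
  exact Nat.Prime.not_prime_pow le_rfl

end Witt

section Chev

open Cfsg.Lie Cfsg.Agent.Nodes.RGDChev Cfsg.Agent.ChevalleyStructure Cfsg.Agent.ChevalleyStructure.CoxeterGeomTypes

theorem rowP_group {D : ChevalleyDatum} {l : ℕ} {M : CoxeterMatrix (Fin l)} (hp : IsType D l M) (hl : 0 < l)
    (F : Type) [Field F] [Finite F] (p : ℕ) [Fact p.Prime] [CharP F p] {K : Type*} [Group K] [Finite K]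
    [IsSimpleGroup K] (hK : ¬ IsMulCommutative K) (e : K ≃* D.group F) : RowP p K := by
  have := e.symm.isSimpleGroup
  have : Finite (D.group F) := Finite.of_equiv K e.toEquiv
  have := finite_W hp M.toCoxeterSystem
  have R := rgd (K := F) hp M.toCoxeterSystem p
  have h1 : ∀ i, Irr p _ _ := fun i => irr_of_coord (R.pgrp i)
    ((KFacts.RgdChevCoord.coords (K := F) hp M.toCoxeterSystem p).coord _ (isRoot_sr _ _ i))
  exact rowP_of_equiv e (rowP_of_rgd (noncomm_of_equiv e hK) (bti_of_filt (KFacts.RgdFiltChev.hasFilt_group hp F p)) R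
    (G1_eq_top hp _) fun _ => ⟨⟨0, hl⟩, h1 _, fun j _ => Or.inl (h1 j)⟩)

theorem rowP_twD4 {F : Type} [Field F] [Fintype F] {q : ℕ} (hq : IsPrimePow q) (hF : Fintype.card F = q ^ 3)
    (p : ℕ) [Fact p.Prime] [CharP F p] {K : Type*} [Group K] [Finite K]
    [IsSimpleGroup K] (hK : ¬ IsMulCommutative K) (e : K ≃* twistedD4 F q) : RowP p K := by
  have := e.symm.isSimpleGroup
  have : Finite (twistedD4 F q) := Finite.of_equiv K e.toEquiv
  obtain ⟨φ, hφ⟩ := D4Fixed.exists_frob hq hF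
  have := Nodes.RGDFold.finite_W (hp := Nodes.RGDTwD4.hp) CoxeterMatrix.G₂.toCoxeterSystem Nodes.RGDTwD4.isCartan
    Nodes.RGDTwD4.foldData
  have R := Nodes.RGDTwD4.rgd CoxeterMatrix.G₂.toCoxeterSystem hF hφ p
  have h1 : ∀ i, Irr p _ _ := fun i => irr_of_coord (R.pgrp i) (KFacts.TwDFour.Out.coordD hφ hF i)
  have hfil : HasFilt p (twistedD4 F q) := hasFilt_of_lie (Or.inr (Or.inr (Or.inr (Or.inr (Or.inr (Or.inr (Or.inr
    ⟨F, _, _, ‹_›, q, hq, Or.inr ⟨hF, ⟨MulEquiv.refl _⟩⟩⟩)))))))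
  exact rowP_of_equiv e (rowP_of_rgd (noncomm_of_equiv e hK) (bti_of_filt hfil) R
    (Nodes.RGDTwD4.G1_eq_top _ hF hφ) fun _ => ⟨0, h1 _, fun j _ => Or.inl (h1 j)⟩)

/-- **The parabolic case, all families but `²F₄(q)`.** -/
theorem rowP_of_lieFilt {p : ℕ} {K : Type} [Group K] [Finite K] [IsSimpleGroup K] (hK : ¬ IsMulCommutative K)
    (h1 : ¬ RankOne K) (h : IsLieFilt p K) : RowP p K := by
  have hF := hasFilt_of_lie h
  rcases h with h | h | h | h | h | h | h | h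
  · obtain ⟨F, i1, i2, _, n, hn, h2, ⟨e⟩⟩ := h
    have : Fact p.Prime := ⟨CharP.char_is_prime F p⟩
    rcases Nat.eq_or_lt_of_le hn with rfl | h3
    · exact absurd (Or.inl ⟨F, i1, i2, h2 rfl, ⟨e⟩⟩) h1
    · obtain ⟨n, rfl⟩ : ∃ k, n = k + 1 := ⟨n - 1, by omega⟩
      refine rowP_of_three hK hF ((typ_PSL n).of_equiv e.symm) (i := ⟨0, by omega⟩) (j := ⟨1, by omega⟩) ?_
      change LieRecognition.CoxClass.mA 0 1 = 3
      unfold LieRecognition.CoxClass.mA
      norm_num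
  · obtain ⟨F, _, _, _, m, hm, -, ⟨e⟩⟩ := h
    have : Fact p.Prime := ⟨CharP.char_is_prime F p⟩
    rcases Nat.eq_or_lt_of_le hm with rfl | h3
    · obtain ⟨e'⟩ := B2Sp4.chevB2_equiv_PSp F
      exact rowP_group (l := 2) (M := CoxeterMatrix.B 2) (by simp [IsType, typeList]) two_pos F p hK (e.trans e'.symm)
    · exact rowP_of_rank hK hF ((typ_PSp (by omega)).of_equiv e.symm) h3
  · obtain ⟨F, i1, i2, _, n, q, hq, hn, h2, ⟨e⟩⟩ := h
    have : Fact p.Prime := ⟨CharP.char_is_prime F p⟩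
    rcases Nat.eq_or_lt_of_le hn with rfl | h3
    · exact absurd (Or.inr (Or.inl ⟨F, i1, i2, q, hq, fun h3 => h2 ⟨rfl, h3⟩, ⟨e⟩⟩)) h1
    · have := e.symm.isSimpleGroup
      exact rowP_of_equiv e (rowP_PSU hq h3 (noncomm_of_equiv e hK))
  · obtain ⟨F, _, _, _, m, hm, hodd, ⟨e⟩⟩ := h
    have : Fact p.Prime := ⟨CharP.char_is_prime F p⟩
    have h2 : (2 : F) ≠ 0 := by
      intro h2
      have h3 : CharP F 2 := CharTwo.of_one_ne_zero_of_two_eq_zero one_ne_zero h2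
      obtain ⟨k, -, hk⟩ := FiniteField.card F 2
      rw [hk] at hodd
      exact (Nat.not_odd_iff_even.2 ((even_two).pow_of_ne_zero k.ne_zero)) hodd
    exact rowP_of_rank hK hF ((H938.typ_PO_odd h2 (by omega)).of_equiv e.symm) hm
  · obtain ⟨F, _, _, _, m, hm, ⟨e⟩⟩ := h
    have : Fact p.Prime := ⟨CharP.char_is_prime F p⟩
    obtain ⟨n, rfl⟩ : ∃ n, m = n + 3 := ⟨m - 3, by omega⟩
    exact rowP_of_rank hK hF ((typ_PO_plus n).of_equiv e.symm) (by omega)
  · obtain ⟨F, _, _, _, m, a, b, hm, hab, ⟨e⟩⟩ := h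
    have : Fact p.Prime := ⟨CharP.char_is_prime F p⟩
    exact rowP_of_rank hK hF ((typ_PO_minus hab (by omega)).of_equiv e.symm) (by omega)
  · obtain ⟨F, _, _, _, ⟨-, ⟨e⟩⟩ | ⟨⟨e⟩⟩ | ⟨⟨e⟩⟩ | ⟨⟨e⟩⟩ | ⟨⟨e⟩⟩⟩ := h <;>
      have : Fact p.Prime := ⟨CharP.char_is_prime F p⟩
    · exact rowP_group (l := 2) (M := CoxeterMatrix.G₂) (by simp [IsType, typeList]) (by norm_num) F p hK e
    · exact rowP_group (l := 4) (M := CoxeterMatrix.F₄) (by simp [IsType, typeList]) (by norm_num) F p hK e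
    · exact rowP_group (l := 6) (M := CoxeterMatrix.E₆) (by simp [IsType, typeList]) (by norm_num) F p hK e
    · exact rowP_group (l := 7) (M := CoxeterMatrix.E₇) (by simp [IsType, typeList]) (by norm_num) F p hK e
    · exact rowP_group (l := 8) (M := CoxeterMatrix.E₈) (by simp [IsType, typeList]) (by norm_num) F p hK e
  · obtain ⟨F, _, _, _, q, hq, ⟨hc, ⟨e⟩⟩ | ⟨hc, ⟨e⟩⟩⟩ := h <;> have : Fact p.Prime := ⟨CharP.char_is_prime F p⟩
    · exact rowP_of_rank hK hF ((typ_twE6 hq hc p).of_equiv e.symm) (by norm_num)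
    · exact rowP_twD4 hq hc p hK e

end Chev

end Cfsg.Agent.SB.Par
end

private theorem dce_9b33353c5d48 : _root_.True := by
  try have : _root_.True := by simp only [_root_.Cfsg.Agent.KFacts.RgdPar.PS.eq_1]
  try have : _root_.True := by simp only [_root_.Cfsg.Agent.SB.Par.Ad.eq_1]
  try have : _root_.True := by simp only [_root_.Cfsg.Agent.SB.Par.nie.congr_simp]
  try have : _root_.True := by simp only [_root_.Cfsg.Agent.SB.Par.DD.eq_1]
  try have : _root_.True := by simp only [_root_.Cfsg.Agent.SB.Par.ac.eq_1]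
  try have : _root_.True := by simp only [_root_.Cfsg.Agent.Nodes.Reps.Rp.congr_simp]
  try have : _root_.True := by simp only [_root_.Cfsg.Agent.KFacts.RgdDiag.Diag.congr_simp]
  exact _root_.True.intro
end

-- part: SB/SporD/Fi/Opp
section
set_option linter.all false
open scoped Cfsg.Agent.FastGrp

/-!
# S5765, the rows `Fi22` and `Fi23`: Borel–Tits and the opposite parabolic subgroup (helper52)
-/

set_option autoImplicit false

namespace Cfsg.Agent.SB.SporD.Fi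

open Cfsg CoxeterSystem Cfsg.Agent.ChevalleyStructure.CoxeterGeom Cfsg.Agent.Tits.Roots Cfsg.Agent.Tits.Core
  Cfsg.Agent.Tits.Exchange Cfsg.Agent.Nodes.Reps Cfsg.Agent.Nodes.BNOf Cfsg.Agent.Nodes.Bruhat Cfsg.Agent.Nodes.OppDec
  Cfsg.Agent.Nodes.LeviDec Cfsg.Agent.KFacts.RgdDiag Cfsg.Agent.KFacts.RgdCharP Cfsg.Agent.KFacts.RgdLieCharP Cfsg.Agent.KFacts.RgdAut
  Cfsg.Agent.Omega.ML.Ex.Typ Cfsg.Agent.SB.Par Cfsg.Agent.Nodes

namespace Op

theorem opp_of {p l : ℕ} [Fact p.Prime] {Y : Type*} [Group Y] [Finite Y] (hF : IsLieFilt p Y) {M : CoxeterMatrix (Fin l)}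
    (hT : HasRGDT p M Y) (ho : ∀ [Finite M.Group] i, op M.toCoxeterSystem i = i) : Opp p Y := by
  obtain ⟨A, h, T, n, X, _, R, hX⟩ := hT
  have hG : GG M.toCoxeterSystem h T X = ⊤ := KFacts.RgdRigid.GG_eq_top hX
  intro F hp
  by_cases h0 : F = ⊥
  · exact ⟨1, fun v hv _ => by rwa [h0, Subgroup.mem_bot] at hv⟩
  obtain ⟨V, h1, h2, h3, U, h4, h5⟩ := bti_of_filt (hasFilt_of_lie hF) F hp h0
  obtain ⟨g, rfl⟩ := (maxP_U R hG).exists_cj h4
  have h6 := eq_PJ R hG (P := Subgroup.normalizer (cj g⁻¹ V : Set Y)) (by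
    rw [normalizer_cj, ← normalizer_U' R hG, ← cj_le_cj_iff g, cj_cj_inv, ← normalizer_cj]
    exact h5) (J := {i | n i ∈ Subgroup.normalizer (cj g⁻¹ V : Set Y)}) fun _ => Iff.rfl
  have h7 := le_VJ R hG (E := cj g⁻¹ V) (h1.map _) fun x hx e he => (Subgroup.mem_normalizer_iff.1 (h6 ▸ hx) e).1 he
  obtain ⟨k, hk⟩ := exists_rp M.toCoxeterSystem R.nsys (w0 M.toCoxeterSystem)
  refine ⟨g * k * g⁻¹, fun v hv hn => ?_⟩
  have h8 := eq_one_of_mem_VJ_of_mem_PNJ R (h7 (conj_mem_cj.2 (h2 hv))) (by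
    rw [← cj_PJ R hG hk fun i => by rw [ho], mem_cj, ← h6, normalizer_cj, mem_cj]
    simpa only [mul_inv_rev, inv_inv, mul_assoc] using h3 hn)
  exact conj_eq_one_iff.1 h8

theorem op_B3 [Finite (CoxeterMatrix.B 3).Group] (i : Fin 3) : op (CoxeterMatrix.B 3).toCoxeterSystem i = i := by
  have h : ∀ a b c : Fin 3, CoxeterMatrix.B 3 a b = CoxeterMatrix.B 3 0 1 → CoxeterMatrix.B 3 b c = CoxeterMatrix.B 3 1 2 →
      CoxeterMatrix.B 3 a c = CoxeterMatrix.B 3 0 2 → a = 0 ∧ b = 1 ∧ c = 2 := by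
    intro a b c; fin_cases a <;> fin_cases b <;> fin_cases c <;> decide
  obtain ⟨h0, h1, h2⟩ := h _ _ _ (matrix_op (cs := (CoxeterMatrix.B 3).toCoxeterSystem) 0 1) (matrix_op 1 2) (matrix_op 0 2)
  fin_cases i
  exacts [h0, h1, h2]

theorem op_D4 [Finite (TypeD.M 2).Group] (i : Fin 4) : op (TypeD.M 2).toCoxeterSystem i = i := by
  set cs := (TypeD.M 2).toCoxeterSystem
  have h := TypeD.isCartan 2
  have hA : TypeD.A 2 = ![![2, -1, 0, 0], ![-1, 2, -1, -1], ![0, -1, 2, 0], ![0, -1, 0, 2]] := by decide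
  have s0 : ∀ a b c d : ℤ, rep cs h (cs.simple 0) ![a, b, c, d] = ![b - a, b, c, d] := fun a b c d => by
    rw [rep_simple_eq]; funext k; fin_cases k <;> simp [pairing, hA, Fin.sum_univ_four, sr] <;> ring
  have s1 : ∀ a b c d : ℤ, rep cs h (cs.simple 1) ![a, b, c, d] = ![a, a + c + d - b, c, d] := fun a b c d => by
    rw [rep_simple_eq]; funext k; fin_cases k <;> simp [pairing, hA, Fin.sum_univ_four, sr] <;> ring
  have s2 : ∀ a b c d : ℤ, rep cs h (cs.simple 2) ![a, b, c, d] = ![a, b, b - c, d] := fun a b c d => by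
    rw [rep_simple_eq]; funext k; fin_cases k <;> simp [pairing, hA, Fin.sum_univ_four, sr] <;> ring
  have s3 : ∀ a b c d : ℤ, rep cs h (cs.simple 3) ![a, b, c, d] = ![a, b, c, b - d] := fun a b c d => by
    rw [rep_simple_eq]; funext k; fin_cases k <;> simp [pairing, hA, Fin.sum_univ_four, sr] <;> ring
  have hs : ∀ a b c d : ℤ, rep cs h (cs.simple 0 * cs.simple 1 * cs.simple 2 * cs.simple 3) ![a, b, c, d] =
      ![b - c - d, a + b - c - d, b - c, b - d] := fun a b c d => by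
    rw [rep_mul_apply, rep_mul_apply, rep_mul_apply, s3, s2, s1, s0]
    funext k; fin_cases k <;> simp <;> ring
  have h1 : ∀ j, rep cs h (w0 cs * (cs.simple 0 * cs.simple 1 * cs.simple 2 * cs.simple 3) ^ 3) (sr j) = sr (op cs j) :=
    fun j => by
      have h2 : ∀ x : Fin 4 → ℤ, x = ![x 0, x 1, x 2, x 3] := fun x => by funext k; fin_cases k <;> rfl
      rw [pow_three, rep_mul_apply, rep_mul_apply, rep_mul_apply _ _ (_ * _ * _ * _), h2 (sr j), hs, hs, hs,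
        ← neg_neg (sr (op cs j)), ← rep_w0_sr (h := h), ← map_neg]
      congr 1
      funext k; fin_cases k <;> simp <;> ring
  have h2 := h1 i
  rw [OddHalf.NI.Mult.eq_one_of_nonneg cs h (v := w0 cs * _) fun j => (h1 j).symm ▸ sr_nonneg _, map_one,
    Module.End.one_apply] at h2
  by_contra h3
  exact one_ne_zero ((sr_self _).symm.trans ((congrFun h2 _).symm.trans (sr_ne h3)))

end Op

/-- **Borel–Tits in `O₇(3)` and `O₈⁺(3)`** -/
theorem boxOpp : BoxOpp :=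
  ⟨Op.opp_of (.inr (.inr (.inr (.inl ⟨ZMod 3, inferInstance, inferInstance, inferInstance, 3, le_rfl, by rw [ZMod.card]; decide, ⟨.refl _⟩⟩))))
      (H938.typ_PO_odd (by decide) (by decide)) Op.op_B3,
    Op.opp_of (.inr (.inr (.inr (.inr (.inl ⟨ZMod 3, inferInstance, inferInstance, inferInstance, 4, le_rfl, ⟨.refl _⟩⟩))))) (typ_PO_plus 1) Op.op_D4⟩

end Cfsg.Agent.SB.SporD.Fi
end

-- part: SB/SporD/Fi/Sing
section
prune_inst 0x4c0102e04082210000018000420003c42d6000190006b880151400d460486bd4120078721f0e03e1211182a6c003a8068119c00c9425000002a008600411c00a084aa70c2a208b004050007c0e807180c00000000000000000000000000041000000000000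
set_option linter.all false
open scoped Cfsg.Agent.FastGrp

/-!
# S5765, the rows `Fi22`, `Fi23`: extraspecial groups, singular sets, Sylow subgroups (helper93)

The proofs of `Es.dep` and `sing3` are those of `SB/Mon/F24/Geo.lean` (helper56), with weaker hypotheses.
-/

set_option autoImplicit false

namespace Cfsg.Agent.SB.SporD.Fi

open Subgroup Cfsg
open Cfsg.Agent.SB.F24.Geo (zp mem_of_zp comm_zp conj_comm comm_of_eq_one conj_of_comm mem_cen conj_closure le_norm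
  conj_inv_shift El)

/-- Sylow's theorem in a subgroup -/
theorem conj_into {G : Type*} [Group G] [Finite G] {p k : ℕ} [hp : Fact p.Prime] {H E T : Subgroup G} (hE : E ≤ H)
    (hEp : IsPGroup p E) (hcE : p ^ k ≤ Nat.card E) (hH : ¬ p ^ (k + 1) ∣ Nat.card H) (hT : T ≤ H) (hTp : IsPGroup p T) :
    ∃ g ∈ H, ∀ x ∈ T, g * x * g⁻¹ ∈ E := by
  obtain ⟨S1, hS1⟩ := (hEp.of_equiv (subgroupOfEquivOfLe hE).symm).exists_le_sylow
  obtain ⟨S2, hS2⟩ := (hTp.of_equiv (subgroupOfEquivOfLe hT).symm).exists_le_sylow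
  have hEq : E.subgroupOf H = (S1 : Subgroup H) := by
    apply eq_of_le_of_card_ge hS1
    rw [Nat.card_congr (subgroupOfEquivOfLe hE).toEquiv]
    refine le_trans ?_ hcE
    obtain ⟨n, hn⟩ := IsPGroup.iff_card.1 S1.isPGroup'
    rw [hn]
    refine Nat.pow_le_pow_right hp.out.pos ?_
    by_contra hlt
    exact hH ((pow_dvd_pow p (by omega)).trans (hn ▸ card_subgroup_dvd_card _))
  obtain ⟨g, hg⟩ := MulAction.exists_smul_eq H S2 S1
  refine ⟨g, g.2, fun x hx => ?_⟩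
  have h2 : g * ⟨x, hT hx⟩ * g⁻¹ ∈ ((g • S2 : Sylow p H) : Subgroup H) := by
    rw [Sylow.coe_subgroup_smul]
    exact ⟨_, hS2 (mem_subgroupOf.2 hx), rfl⟩
  rw [hg, ← hEq, mem_subgroupOf] at h2
  exact h2

/-- a subgroup which is conjugate to a subgroup of a group with `Opp` -/
theorem reg_of_opp {G Y : Type*} [Group G] [Group Y] {p : ℕ} (φ : Y →* G) (hφ : Function.Injective φ) (hY : Opp p Y)
    {F : Subgroup G} (hF : IsPGroup p F) {g : G} (h : ∀ f ∈ F, g * f * g⁻¹ ∈ φ.range) :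
    ∃ y : Y, ∀ v ∈ F, (g⁻¹ * φ y * g)⁻¹ * v * (g⁻¹ * φ y * g) ∈ normalizer (F : Set G) → v = 1 := by
  let ψ : Y →* G := (MulAut.conj g⁻¹).toMonoidHom.comp φ
  have hψ : Function.Injective ψ := (MulAut.conj g⁻¹).injective.comp hφ
  have e : ∀ y, ψ y = g⁻¹ * φ y * g := fun y => by
    show g⁻¹ * φ y * g⁻¹⁻¹ = _
    rw [inv_inv]
  obtain ⟨y, hy⟩ := hY (F.comap ψ) (hF.comap_of_injective ψ hψ)
  refine ⟨y, fun v hv h1 => ?_⟩
  obtain ⟨w, hw⟩ := h v hv
  have h2 : ψ w = v := by rw [e, hw]; group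
  rw [← h2, hy w (by show ψ w ∈ F; rwa [h2]) (mem_normalizer_iff.2 fun z => ?_), map_one]
  show ψ z ∈ F ↔ ψ (y⁻¹ * w * y * z * (y⁻¹ * w * y)⁻¹) ∈ F
  rw [← e, ← h2, ← map_inv, ← map_mul, ← map_mul] at h1
  rw [map_mul, map_mul, map_inv]
  exact mem_normalizer_iff.1 h1 _

variable {G : Type} [Group G]

/-- `Q` is extraspecial with centre `⟨p⟩` of order three -/
structure Es (p : G) (Q : Subgroup G) : Prop where
  cube : p ^ 3 = 1
  ne : p ≠ 1
  self : p ∈ Q
  cen : ∀ x ∈ Q, Commute x p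
  com : ∀ x ∈ Q, ∀ y ∈ Q, x * y * x⁻¹ * y⁻¹ ∈ zpowers p
  nd : ∀ a ∈ Q, (∀ x ∈ Q, Commute a x) → a ∈ zpowers p

namespace Es

variable {p : G} {Q : Subgroup G} (H : Es p Q)

include H

theorem conj (g : G) : Es (g * p * g⁻¹) (Q.map (MulAut.conj g).toMonoidHom) where
  cube := by rw [conj_pow, H.cube, mul_one, mul_inv_cancel]
  ne := fun h => H.ne (by rwa [conj_eq_one_iff] at h)
  self := ⟨p, H.self, rfl⟩
  cen := by
    rintro _ ⟨x, hx, rfl⟩
    exact conj_comm (H.cen x hx) g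
  com := by
    rintro _ ⟨x, hx, rfl⟩ _ ⟨y, hy, rfl⟩
    obtain ⟨k, hk⟩ := H.com x hx y hy
    refine ⟨k, ?_⟩
    show (g * p * g⁻¹) ^ k = g * x * g⁻¹ * (g * y * g⁻¹) * (g * x * g⁻¹)⁻¹ * (g * y * g⁻¹)⁻¹
    rw [conj_zpow, show p ^ k = _ from hk]
    group
  nd := by
    rintro _ ⟨a, ha, rfl⟩ h
    obtain ⟨k, hk⟩ := H.nd a ha fun x hx => (MulAut.conj g).injective (by
      rw [map_mul, map_mul]
      exact h _ ⟨x, hx, rfl⟩)
    refine ⟨k, ?_⟩
    show (g * p * g⁻¹) ^ k = g * a * g⁻¹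
    rw [conj_zpow, show p ^ k = _ from hk]

theorem order : orderOf p = 3 :=
  have : Fact (Nat.Prime 3) := ⟨Nat.prime_three⟩
  orderOf_eq_prime H.cube H.ne

theorem card_ab [Finite G] {A : Subgroup G} (hA : A ≤ Q) (h : ∀ x ∈ A, ∀ y ∈ A, x * y = y * x) :
    Nat.card A * Nat.card A ≤ 3 * Nat.card Q :=
  Mon.card_mul_le Nat.prime_three H.order H.cen H.com H.nd hA hA h

theorem card_cent [Finite G] {A : Subgroup G} {x : G} (h : ∀ a ∈ A, a * x * a⁻¹ * x⁻¹ ∈ zpowers p) :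
    Nat.card A ≤ 3 * Nat.card ↥(A ⊓ centralizer {x}) := by
  have h1 := F24.Geo.card_le_mul A (zpowers p) x h
  rwa [Nat.card_zpowers, H.order] at h1

theorem shift' {x a : G} (hx : x ∈ Q) (ha : a ∈ Q) (h : ¬ Commute x a) :
    ∃ y, (y = x ∨ y = x⁻¹) ∧ y * a * y⁻¹ = a * p := by
  have h1 := H.com x hx a ha
  have e : x * a * x⁻¹ = a * (x * a * x⁻¹ * a⁻¹) := by
    rw [(comm_zp (H.cen a ha) h1).eq, inv_mul_cancel_right]
  rcases zp H.cube h1 with h2 | h2 | h2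
  · exact absurd (comm_of_eq_one h2) h
  · exact ⟨x, Or.inl rfl, by rwa [h2] at e⟩
  · rw [h2] at e
    have h3 := conj_inv_shift e (H.cen x hx).inv_right
    exact ⟨x⁻¹, Or.inr rfl, by rwa [inv_inv p] at h3⟩

theorem shift {a : G} (ha : a ∈ Q) (h : a ∉ zpowers p) : ∃ y ∈ Q, y * a * y⁻¹ = a * p := by
  obtain ⟨x, hx, h1⟩ : ∃ x ∈ Q, ¬ Commute x a := by
    by_contra h2
    push Not at h2
    exact h (H.nd a ha fun x hx => (h2 x hx).symm)
  obtain ⟨y, rfl | rfl, h2⟩ := H.shift' hx ha h1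
  · exact ⟨_, hx, h2⟩
  · exact ⟨_, inv_mem hx, h2⟩

theorem dep {a b : G} (ha : a ∈ Q) (hb : b ∈ Q) (h : ∀ x ∈ Q, Commute x a → Commute x b) :
    ∃ z ∈ zpowers a, b * z ∈ zpowers p := by
  by_cases h1 : a ∈ zpowers p
  · exact ⟨1, one_mem _, by
      rw [mul_one]
      exact H.nd b hb fun x hx => (h x hx (comm_zp (H.cen x hx) h1)).symm⟩
  obtain ⟨y, hy, e⟩ := H.shift ha h1
  obtain ⟨z, hz, h2⟩ : ∃ z ∈ zpowers a, Commute y (b * z) := by
    by_cases h3 : Commute y b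
    · exact ⟨1, one_mem _, by rwa [mul_one]⟩
    obtain ⟨y', rfl | rfl, e'⟩ := H.shift' hy hb h3
    · refine ⟨a⁻¹, inv_mem (mem_zpowers a), mul_inv_eq_iff_eq_mul.1 ?_⟩
      calc y' * (b * a⁻¹) * y'⁻¹ = (y' * b * y'⁻¹) * (y' * a * y'⁻¹)⁻¹ := by group
        _ = _ := by rw [e, e']; group
    · refine ⟨a, mem_zpowers a, (Commute.inv_left_iff.1 (mul_inv_eq_iff_eq_mul.1 ?_))⟩
      calc y⁻¹ * (b * a) * y⁻¹⁻¹ = (y⁻¹ * b * y⁻¹⁻¹) * (y⁻¹ * a * y⁻¹⁻¹) := by group
        _ = b * (p * a) * p⁻¹ := by rw [e', conj_inv_shift e (H.cen y hy)]; group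
        _ = _ := by rw [← (H.cen a ha).eq]; group
  refine ⟨z, hz, H.nd _ (mul_mem hb (zpowers_le.2 ha hz)) fun x hx => Commute.symm ?_⟩
  have key : ∀ x ∈ Q, Commute x a → Commute x (b * z) := fun x hx h3 => (h x hx h3).mul_right (comm_zp h3 hz)
  have key' : ∀ x ∈ Q, x * a * x⁻¹ = a * p → Commute x (b * z) := fun x hx h3 => by
    have h4 := key (y⁻¹ * x) (mul_mem (inv_mem hy) hx) (mul_inv_eq_iff_eq_mul.1 (by
      calc y⁻¹ * x * a * (y⁻¹ * x)⁻¹ = y⁻¹ * (x * a * x⁻¹) * y := by group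
        _ = a := by rw [h3, ← e]; group))
    have h5 := h2.mul_left h4
    rwa [mul_inv_cancel_left] at h5
  by_cases h3 : Commute x a
  · exact key x hx h3
  obtain ⟨x', rfl | rfl, e'⟩ := H.shift' hx ha h3
  · exact key' _ hx e'
  · exact Commute.inv_left_iff.1 (key' _ (inv_mem hx) e')

end Es

theorem inf_zp {p w z : G} (hw : w ^ 3 = 1) (hn : w ∉ zpowers p) (h1 : z ∈ zpowers p) (h2 : z ∈ zpowers w) : z = 1 := by
  by_contra h
  exact hn (mem_of_zp hw h2 h h1)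

/-- a singular set of rank at least three has a normalizer which is not solvable -/
theorem sing3 {I : Set G} {Q : G → Subgroup G} (hI : ∀ a ∈ I, Es a (Q a)) (hc : ∀ a ∈ I, ∀ b ∈ I, b ∈ Q a)
    {p q r : G} (hp : p ∈ I) (hq : q ∈ I) (hr : r ∈ I) (h1 : q ∉ zpowers p) (h2 : ∀ z ∈ zpowers q, r * z ∉ zpowers p) :
    ¬ Group.IsSolvable (normalizer (closure I : Set G)) := by
  intro hs
  have hle : ∀ a ∈ I, closure I ≤ Q a := fun a ha => (closure_le _).2 (hc a ha)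
  have hcm : ∀ a ∈ I, ∀ b ∈ I, Commute a b := fun a ha b hb => (hI b hb).cen a (hc b hb a ha)
  let Ind : G → G → G → Prop := fun a b c => a ∈ I ∧ b ∈ I ∧ c ∈ I ∧
    ∀ x ∈ zpowers a, ∀ y ∈ zpowers b, ∀ z ∈ zpowers c, x * y * z = 1 → x = 1 ∧ y = 1 ∧ z = 1
  have hz : ∀ {a b x y : G}, a ∈ I → b ∈ I → x ∈ zpowers a → y ∈ zpowers b → x * y = y * x := fun ha hb hx hy =>
    (comm_zp (comm_zp (hcm _ hb _ ha) hx).symm hy).eq
  have s1 : ∀ a b c, Ind a b c → Ind a c b := fun a b c h => ⟨h.1, h.2.2.1, h.2.1, fun x hx y hy z hz' e => by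
    rw [mul_assoc, hz h.2.2.1 h.2.1 hy hz', ← mul_assoc] at e
    have h3 := h.2.2.2 x hx z hz' y hy e
    exact ⟨h3.1, h3.2.2, h3.2.1⟩⟩
  have s2 : ∀ a b c, Ind a b c → Ind b a c := fun a b c h => ⟨h.2.1, h.1, h.2.2.1, fun x hx y hy z hz' e => by
    rw [hz h.2.1 h.1 hx hy] at e
    have h3 := h.2.2.2 y hy x hx z hz' e
    exact ⟨h3.2.1, h3.1, h3.2.2⟩⟩
  have key : ∀ n, ∀ a b c, Ind a b c → ∃ x : ↥(normalizer (closure I : Set G)),
      x ∈ derivedSeries _ n ∧ El a b c x := by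
    intro n
    induction n with
    | zero =>
      intro a b c h
      have ha := hI a h.1
      obtain ⟨x, hx, h3, h4⟩ : ∃ x ∈ Q a, Commute x c ∧ ¬ Commute x b := by
        by_contra h3
        push Not at h3
        obtain ⟨z, hz', h4⟩ := ha.dep (hc a h.1 c h.2.2.1) (hc a h.1 b h.2.1) h3
        exact (hI b h.2.1).ne (h.2.2.2 _ (inv_mem h4) b (mem_zpowers b) z hz' (by group)).2.1
      have h5 : Q a ≤ normalizer (closure I : Set G) := le_norm fun g hg y hy => by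
        have h6 := mul_mem (zpowers_le.2 (subset_closure h.1) (ha.com g hg y (hle a h.1 hy))) hy
        rwa [inv_mul_cancel_right] at h6
      obtain ⟨y, rfl | rfl, e⟩ := ha.shift' hx (hc a h.1 b h.2.1) h4
      · exact ⟨⟨y, h5 hx⟩, mem_top _, e, ha.cen _ hx, h3⟩
      · exact ⟨⟨x⁻¹, h5 (inv_mem hx)⟩, mem_top _, e, ha.cen _ (inv_mem hx), h3.inv_left⟩
    | succ n ih =>
      intro a b c h
      obtain ⟨x, hx, h3⟩ := ih a c b (s1 _ _ _ h)
      obtain ⟨y, hy, h4⟩ := ih c b a (s1 _ _ _ (s2 _ _ _ (s1 _ _ _ h)))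
      exact ⟨x * y * x⁻¹ * y⁻¹, commutator_mem_commutator hx hy, h3.comm (hcm a h.1 c h.2.2.1) h4⟩
  obtain ⟨n, hn⟩ := hs.solvable
  obtain ⟨x, hx, h3, -⟩ := key n p q r ⟨hp, hq, hr, fun x hx y hy z hz' e => by
    have h3 : z = 1 := by
      by_contra h3
      have h4 : z = (x * y)⁻¹ := eq_inv_of_mul_eq_one_right e
      rcases zp (hI r hr).cube hz' with h5 | h5 | h5
      · exact h3 h5
      · refine h2 y hy ?_
        rw [← h5, h4, hz hp hq hx hy, mul_inv_rev, inv_mul_cancel_right]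
        exact inv_mem hx
      · refine h2 y⁻¹ (inv_mem hy) ?_
        rw [← inv_inv r, ← h5, h4, inv_inv, mul_inv_cancel_right]
        exact hx
    rw [h3, mul_one] at e
    have h4 : y = 1 := inf_zp (hI q hq).cube h1 (by
      rw [eq_inv_of_mul_eq_one_right e]
      exact inv_mem hx) hy
    rw [h4, mul_one] at e
    exact ⟨e, h4, h3⟩⟩
  rw [hn, mem_bot] at hx
  rw [hx, OneMemClass.coe_one, one_mul, inv_one, mul_one, left_eq_mul] at h3
  exact (hI p hp).ne h3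

end Cfsg.Agent.SB.SporD.Fi
end

-- part: SB/Red/Inn
section
set_option linter.all false
open scoped Cfsg.Agent.FastGrp

/-!
# S5765: the pair `(Inn K, Aut K)` for a non-abelian simple group `K`; transport of `Row` (helper61)
-/

set_option autoImplicit false

namespace Cfsg.Agent.SB.Red

open Subgroup Cfsg Cfsg.Agent.H786.FC

section inn

variable {K : Type*} [Group K]

theorem conj_conj (α : MulAut K) (x : K) : α * MulAut.conj x * α⁻¹ = MulAut.conj (α x) := by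
  ext y
  simp [MulAut.mul_apply, MulAut.conj_apply]

theorem inn_normal : (InnG K).Normal :=
  ⟨by
    rintro _ ⟨x, rfl⟩ α
    exact ⟨α x, (conj_conj α x).symm⟩⟩

theorem conj_injective (hs : IsSimpleGroup K) (hna : ¬ IsMulCommutative K) :
    Function.Injective (MulAut.conj : K →* MulAut K) := by
  rw [← MonoidHom.ker_eq_bot_iff]
  rcases (inferInstance : (MulAut.conj : K →* MulAut K).ker.Normal).eq_bot_or_eq_top with h | h
  · exact h
  · exfalso
    refine hna ⟨⟨fun a b => ?_⟩⟩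
    have h1 : a ∈ (MulAut.conj : K →* MulAut K).ker := h ▸ mem_top a
    have h2 : MulAut.conj a b = b := by rw [MonoidHom.mem_ker.1 h1]; rfl
    rw [MulAut.conj_apply, mul_inv_eq_iff_eq_mul] at h2
    exact h2

/-- `K ≃ Inn K` -/
noncomputable def innEquiv (hs : IsSimpleGroup K) (hna : ¬ IsMulCommutative K) : K ≃* InnG K :=
  MonoidHom.ofInjective (conj_injective hs hna)

theorem inn_simple (hs : IsSimpleGroup K) (hna : ¬ IsMulCommutative K) : IsSimpleGroup (InnG K) :=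
  (innEquiv hs hna).symm.isSimpleGroup

theorem inn_noncomm (hs : IsSimpleGroup K) (hna : ¬ IsMulCommutative K) : ¬ IsMulCommutative (InnG K) := by
  intro h
  refine hna ⟨⟨fun a b => (innEquiv hs hna).injective ?_⟩⟩
  rw [map_mul, map_mul]
  exact h.is_comm.comm _ _

theorem inn_centralizer (hs : IsSimpleGroup K) (hna : ¬ IsMulCommutative K) :
    centralizer (InnG K : Set (MulAut K)) = ⊥ := by
  rw [eq_bot_iff]
  intro α hα
  rw [mem_bot]
  ext x
  have h1 := mem_centralizer_iff.1 hα (MulAut.conj x) ⟨x, rfl⟩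
  have h2 : MulAut.conj (α x) = MulAut.conj x := by
    rw [← conj_conj, ← h1, mul_inv_cancel_right]
  exact conj_injective hs hna h2

end inn

section transport

variable {A B : Type*} [Group A] [Group B] (e : A ≃* B) {T S : Subgroup A}

theorem mem_map_equiv' {X : Subgroup A} {x : A} : e x ∈ X.map e.toMonoidHom ↔ x ∈ X :=
  mem_map_iff_mem (f := e.toMonoidHom) e.injective

theorem maxInv_map (h : MaxInv T S) : MaxInv (T.map e.toMonoidHom) (S.map e.toMonoidHom) := by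
  intro Y h1 h2 h3
  rcases h (Y.comap e.toMonoidHom) (fun x hx => h1 ⟨⟨x, hx.1, rfl⟩, ⟨x, hx.2, rfl⟩⟩)
    (fun x hx => (mem_map_equiv' e).1 (h2 hx)) (fun s hs y hy => by
      have h4 := h3 (e s) ⟨s, hs, rfl⟩ (e y) hy
      rw [← map_inv, ← map_mul, ← map_mul] at h4
      exact h4) with h4 | h4
  · left
    rw [← h4, map_comap_eq_self_of_surjective e.surjective]
  · right
    intro y hy
    obtain ⟨x, rfl⟩ := e.surjective y
    exact ⟨x, h4 hy, rfl⟩

theorem fitReg_of_map (h : FitReg (T.map e.toMonoidHom) (S.map e.toMonoidHom)) : FitReg T S := by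
  obtain ⟨_, ⟨x, hx, rfl⟩, h⟩ := h
  refine ⟨x, hx, fun v hv hvx => ?_⟩
  have h1 : e.subgroupMap S v ∈ fittingSubgroup (S.map e.toMonoidHom) := by
    have h2 := Lib.Cores.map_equiv_fittingSubgroup (e.subgroupMap S)
    have h3 : e.subgroupMap S v ∈ (fittingSubgroup S).map (e.subgroupMap S).toMonoidHom := ⟨v, hv, rfl⟩
    exact h2 ▸ h3
  have h2 := h _ h1 ⟨_, hvx, by simp⟩
  exact (e.subgroupMap S).injective (h2.trans (map_one _).symm)

theorem seven_of_map (h : Seven (T.map e.toMonoidHom) (S.map e.toMonoidHom)) : Seven T S := by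
  obtain ⟨x, hx, h⟩ := h
  choose y hy hyx using hx
  refine ⟨y, hy, fun s hs c c' hi => ?_⟩
  obtain ⟨h1, h2⟩ := h (e s) ⟨s, hs, rfl⟩ c c' fun i => ⟨_, hi i, by
    rw [← hyx, ← hyx]
    simp⟩
  exact ⟨h1, e.injective (h2.trans (map_one _).symm)⟩

theorem good_of_map (h : Good (T.map e.toMonoidHom) (S.map e.toMonoidHom)) : Good T S :=
  h.imp (fitReg_of_map e) (seven_of_map e)

theorem rowIn_of_equiv (h : RowIn (T.map e.toMonoidHom)) : RowIn T := fun S hS hM =>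
  good_of_map e (h _ (Group.isSolvable_of_surjective (f := e.toMonoidHom.subgroupMap S)
    (e.toMonoidHom.subgroupMap_surjective S)) (maxInv_map e hM))

theorem inn_map {K K' : Type*} [Group K] [Group K'] (e : K ≃* K') :
    (InnG K).map (MulAut.congr e).toMonoidHom = InnG K' := by
  have key : ∀ k : K, MulAut.congr e (MulAut.conj k) = MulAut.conj (e k) := by
    intro k
    ext y
    simp [MulAut.congr]
  ext α
  constructor
  · rintro ⟨_, ⟨k, rfl⟩, rfl⟩
    exact ⟨e k, (key k).symm⟩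
  · rintro ⟨k, rfl⟩
    obtain ⟨k, rfl⟩ := e.surjective k
    exact ⟨_, ⟨k, rfl⟩, key k⟩

/-- `Row` is invariant under isomorphisms -/
theorem row_of_equiv {K K' : Type*} [Group K] [Group K'] (e : K ≃* K') (h : Row K') : Row K := by
  have h1 : RowIn ((InnG K).map (MulAut.congr e).toMonoidHom) := by
    rw [inn_map]
    exact h
  exact rowIn_of_equiv (MulAut.congr e) h1

end transport

end Cfsg.Agent.SB.Red
end

-- part: SB/Red/Colour
section
set_option linter.all false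
open scoped Cfsg.Agent.FastGrp

/-!
# S5765, reduction: a solvable permutation group has an asymmetric colouring with seven colours (helper61)

S4374 is applied to the wreath product of `GL(2,2) = S₃` with the permutation group, acting on `ι → F₂²`.
-/

set_option autoImplicit false

namespace Cfsg.Agent.SB.Red

universe u v

/-- the four-group -/
abbrev U4 : Type := ZMod 2 × ZMod 2

/-- the three nonzero vectors -/
def enc (u : U4) : Option (Fin 3) :=
  if u = (0, 0) then none else if u = (1, 0) then some 0 else if u = (0, 1) then some 1 else some 2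

def dec : Option (Fin 3) → U4
  | none => (0, 0)
  | some j => if j = 0 then (1, 0) else if j = 1 then (0, 1) else (1, 1)

/-- `S₃` permutes the nonzero vectors -/
def act (σ : Equiv.Perm (Fin 3)) (u : U4) : U4 := dec ((enc u).map σ)

theorem act_one : ∀ u : U4, act 1 u = u := by decide

theorem act_mul : ∀ (σ τ : Equiv.Perm (Fin 3)) (u : U4), act (σ * τ) u = act σ (act τ u) := by decide +kernel

theorem act_zero : ∀ σ : Equiv.Perm (Fin 3), act σ 0 = 0 := by decide +kernel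

theorem act_add : ∀ (σ : Equiv.Perm (Fin 3)) (u w : U4), act σ (u + w) = act σ u + act σ w := by decide +kernel

theorem act_ne : ∀ (σ : Equiv.Perm (Fin 3)) (u : U4), u ≠ 0 → act σ u ≠ 0 := by decide +kernel

theorem act_faith : ∀ σ : Equiv.Perm (Fin 3), (∀ u : U4, act σ u = u) → σ = 1 := by decide +kernel

theorem act_irr : ∀ a u : U4, a ≠ 0 → ∃ σ τ : Equiv.Perm (Fin 3), u = (act σ a - a) + (act τ a - a) := by
  decide +kernel

/-- spanning triples -/
def sp (a b c : U4) : Prop := (a ≠ 0 ∧ b ≠ 0 ∧ a ≠ b) ∨ (a ≠ 0 ∧ c ≠ 0 ∧ a ≠ c) ∨ (b ≠ 0 ∧ c ≠ 0 ∧ b ≠ c)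

instance decSp (a b c : U4) : Decidable (sp a b c) := by unfold sp; infer_instance

/-- the linear relation of a spanning triple -/
def col (a b c : U4) : Fin 7 :=
  if a = 0 then 0 else if b = 0 then 1 else if c = 0 then 2 else if a = b then 3 else if a = c then 4 else
    if b = c then 5 else 6

theorem not_sp : ∀ a b c : U4, ¬ sp a b c →
    ∃ σ : Equiv.Perm (Fin 3), σ ≠ 1 ∧ act σ a = a ∧ act σ b = b ∧ act σ c = c := by decide +kernel

theorem sp_col : ∀ a b c a' b' c' : U4, sp a b c → sp a' b' c' → col a b c = col a' b' c' →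
    ∃ σ : Equiv.Perm (Fin 3), act σ a = a' ∧ act σ b = b' ∧ act σ c = c' := by decide +kernel

theorem solvable_pi (ι : Type v) : Group.IsSolvable (ι → Equiv.Perm (Fin 3)) := by
  have hc : ∀ a b : Equiv.Perm (Fin 3), Equiv.Perm.sign a = 1 → Equiv.Perm.sign b = 1 → a * b = b * a := by
    decide +kernel
  have h1 : Group.IsSolvable (ι → alternatingGroup (Fin 3)) :=
    Group.isSolvable_of_comm fun a b => funext fun i => Subtype.ext (hc _ _ (a i).2 (b i).2)
  have h2 : Group.IsSolvable (ι → ℤˣ) := inferInstance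
  refine Group.isSolvable_of_ker_le_range ((alternatingGroup (Fin 3)).subtype.compLeft ι)
    ((Equiv.Perm.sign : Equiv.Perm (Fin 3) →* ℤˣ).compLeft ι) ?_
  intro f hf
  rw [MonoidHom.mem_ker] at hf
  exact ⟨fun i => ⟨f i, congrFun hf i⟩, rfl⟩

/-- the faithful case -/
theorem colour_faithful {P : Type u} [Group P] [Finite P] (hP : Group.IsSolvable P) {ι : Type v} [Finite ι]
    [MulAction P ι] (hf : ∀ g : P, (∀ i : ι, g • i = i) → g = 1) :
    ∃ χ : ι → Fin 7, ∀ g : P, (∀ i, χ (g • i) = χ i) → g = 1 := by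
  classical
  have _ : Fintype ι := Fintype.ofFinite ι
  let W := (ι → Equiv.Perm (Fin 3)) ⋊[mulAutArrow] P
  have hW : Group.IsSolvable W := by
    have := solvable_pi ι
    refine Group.isSolvable_of_ker_le_range (SemidirectProduct.inl (N := ι → Equiv.Perm (Fin 3)) (G := P)
      (φ := mulAutArrow)) SemidirectProduct.rightHom ?_
    rw [SemidirectProduct.range_inl_eq_ker_rightHom]
  have hfin : Finite W := Finite.of_equiv _ (SemidirectProduct.equivProd (N := ι → Equiv.Perm (Fin 3)) (G := P)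
    (φ := mulAutArrow)).symm
  let inst : DistribMulAction W (ι → U4) :=
    { smul := fun w v i => act (w.left i) (v (w.right⁻¹ • i))
      one_smul := fun v => funext fun i => by
        change act 1 (v ((1 : P)⁻¹ • i)) = v i
        rw [act_one, inv_one, one_smul]
      mul_smul := fun w w' v => funext fun i => by
        change act (w.left i * w'.left (w.right⁻¹ • i)) (v ((w.right * w'.right)⁻¹ • i)) =
          act (w.left i) (act (w'.left (w.right⁻¹ • i)) (v (w'.right⁻¹ • w.right⁻¹ • i)))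
        rw [act_mul, mul_inv_rev, mul_smul]
      smul_zero := fun w => funext fun i => act_zero _
      smul_add := fun w v v' => funext fun i => act_add _ _ _ }
  have hsm : ∀ (w : W) (v : ι → U4) (i : ι), (w • v) i = act (w.left i) (v (w.right⁻¹ • i)) := fun _ _ _ => rfl
  have htriv : ∀ w : W, (∀ v : ι → U4, w • v = v) → w = 1 := by
    intro w hw
    have h1 : w.right = 1 := by
      apply hf
      intro j
      by_contra hj
      have h2 := congrFun (hw (Pi.single j (1, 0))) (w.right • j)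
      rw [hsm, inv_smul_smul, Pi.single_eq_same, Pi.single_eq_of_ne hj] at h2
      exact act_ne _ _ (by decide) h2
    apply SemidirectProduct.ext
    · funext i
      apply act_faith
      intro u
      have h2 := congrFun (hw (fun _ => u)) i
      rwa [hsm] at h2
    · exact h1
  have hfaith : FaithfulSMul W (ι → U4) := ⟨fun {a b} h => by
    have h1 : b⁻¹ * a = 1 := htriv _ fun v => by rw [mul_smul, h v, inv_smul_smul]
    exact (inv_mul_eq_one.1 h1).symm⟩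
  -- a single coordinate
  have hsingle : ∀ (i : ι) (σ : Equiv.Perm (Fin 3)) (v : ι → U4),
      (⟨Pi.mulSingle i σ, 1⟩ : W) • v = v + Pi.single i (act σ (v i) - v i) := by
    intro i σ v
    funext j
    rw [hsm]
    change act (Pi.mulSingle (M := fun _ => Equiv.Perm (Fin 3)) i σ j) (v ((1 : P)⁻¹ • j)) = _
    rw [inv_one, one_smul, Pi.add_apply]
    by_cases hj : j = i
    · subst hj
      rw [Pi.mulSingle_eq_same, Pi.single_eq_same, add_sub_cancel]
    · rw [Pi.mulSingle_eq_of_ne hj, Pi.single_eq_of_ne hj, act_one, add_zero]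
  obtain ⟨v₁, v₂, v₃, hv⟩ := Cfsg.Agent.S4374.result (A := W) (V := ι → U4) hW (by
    intro X hX
    let J : Set ι := {i | ∃ v ∈ X, v i ≠ 0}
    have hJ : ∀ i ∈ J, ∀ u : U4, Pi.single i u ∈ X := by
      rintro i ⟨v, hv, hvi⟩ u
      obtain ⟨σ, τ, rfl⟩ := act_irr (v i) u hvi
      have key : ∀ ρ : Equiv.Perm (Fin 3), Pi.single i (act ρ (v i) - v i) ∈ X := by
        intro ρ
        have h1 := X.sub_mem (hX ⟨Pi.mulSingle i ρ, 1⟩ v hv) hv
        rwa [hsingle, add_sub_cancel_left] at h1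
      rw [Pi.single_add]
      exact X.add_mem (key σ) (key τ)
    let Y : AddSubgroup (ι → U4) :=
      { carrier := {v | ∀ i ∈ J, v i = 0}
        zero_mem' := fun _ _ => rfl
        add_mem' := fun {a b} ha hb i hi => by rw [Pi.add_apply, ha i hi, hb i hi, add_zero]
        neg_mem' := fun {a} ha i hi => by rw [Pi.neg_apply, ha i hi, neg_zero] }
    refine ⟨Y, ?_, ?_, ?_⟩
    · intro w y hy i hi
      rw [hsm, hy _ ?_, act_zero]
      obtain ⟨v, hv, hvi⟩ := hi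
      refine ⟨w⁻¹ • v, hX _ v hv, ?_⟩
      rw [hsm]
      apply act_ne
      change v (w.right⁻¹⁻¹ • w.right⁻¹ • i) ≠ 0
      rwa [inv_inv, smul_inv_smul]
    · rw [eq_bot_iff]
      rintro v ⟨h1, h2⟩
      rw [AddSubgroup.mem_bot]
      funext i
      by_contra hi
      exact hi (h2 i ⟨v, h1, hi⟩)
    · rw [eq_top_iff]
      intro v _
      rw [← Finset.univ_sum_single v]
      refine AddSubgroup.sum_mem _ fun i _ => ?_
      by_cases hi : i ∈ J
      · exact AddSubgroup.mem_sup_left (hJ i hi _)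
      · refine AddSubgroup.mem_sup_right fun j hj => ?_
        have hji : j ≠ i := fun h => hi (h ▸ hj)
        exact Pi.single_eq_of_ne hji _)
  have hsp : ∀ i, sp (v₁ i) (v₂ i) (v₃ i) := by
    intro i
    by_contra hn
    obtain ⟨σ, hσ, h1, h2, h3⟩ := not_sp _ _ _ hn
    have h4 := hv ⟨Pi.mulSingle i σ, 1⟩ (by rw [hsingle, h1]; simp) (by rw [hsingle, h2]; simp)
      (by rw [hsingle, h3]; simp)
    have h5 := congrFun (congrArg SemidirectProduct.left h4) i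
    change Pi.mulSingle (M := fun _ => Equiv.Perm (Fin 3)) i σ i = 1 at h5
    rw [Pi.mulSingle_eq_same] at h5
    exact hσ h5
  refine ⟨fun i => col (v₁ i) (v₂ i) (v₃ i), fun g hg => ?_⟩
  have h1 : ∀ i, ∃ σ : Equiv.Perm (Fin 3), act σ (v₁ (g⁻¹ • i)) = v₁ i ∧ act σ (v₂ (g⁻¹ • i)) = v₂ i ∧
      act σ (v₃ (g⁻¹ • i)) = v₃ i := by
    intro i
    apply sp_col _ _ _ _ _ _ (hsp _) (hsp _)
    have h2 := hg (g⁻¹ • i)
    rw [smul_inv_smul] at h2
    exact h2.symm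
  choose σ hσ using h1
  have h2 := hv ⟨σ, g⟩ (funext fun i => (hσ i).1) (funext fun i => (hσ i).2.1) (funext fun i => (hσ i).2.2)
  exact congrArg SemidirectProduct.right h2

/-- **Seven colours.** -/
theorem colour7 {P : Type u} [Group P] (hP : Group.IsSolvable P) {ι : Type v} [Finite ι] [MulAction P ι] :
    ∃ χ : ι → Fin 7, ∀ g : P, (∀ i, χ (g • i) = χ i) → ∀ i : ι, g • i = i := by
  let Q := (MulAction.toPermHom P ι).range
  have hQ : Group.IsSolvable Q :=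
    Group.isSolvable_of_surjective (f := (MulAction.toPermHom P ι).rangeRestrict)
      (MulAction.toPermHom P ι).rangeRestrict_surjective
  obtain ⟨χ, hχ⟩ := colour_faithful (P := Q) hQ (ι := ι) fun g hg => Subtype.ext (Equiv.ext hg)
  refine ⟨χ, fun g hg i => ?_⟩
  have h1 := hχ ⟨MulAction.toPermHom P ι g, g, rfl⟩ hg
  have h2 : MulAction.toPermHom P ι g = 1 := congrArg Subtype.val h1
  exact congrArg (fun f : Equiv.Perm ι => f i) h2

end Cfsg.Agent.SB.Red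
end

-- part: SB/Red/Glue
section
set_option linter.all false
open scoped Cfsg.Agent.FastGrp

/-!
# S5765, reduction: gluing over the factors of the socle (helper61)

`Setup H T i₀ t` : the subgroup `H` permutes the pairwise commuting subgroups `T i` transitively, `t i` carries `T i₀`
to `T i`, and only the identity of `H` centralises all the `T i`.
-/

set_option autoImplicit false

namespace Cfsg.Agent.SB.Red

open Subgroup Cfsg Cfsg.Agent.H786.FC Cfsg.Agent.H233.B3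

universe u v

variable {G : Type u} [Group G] {ι : Type v}

/-- the setting of the gluing lemmas -/
structure Setup (H : Subgroup G) [MulAction H ι] (T : ι → Subgroup G) (i₀ : ι) (t : ι → H) : Prop where
  comm : ∀ i j, i ≠ j → ∀ x ∈ T i, ∀ y ∈ T j, x * y = y * x
  smul : ∀ (g : H) i, T (g • i) = (T i).map (MulAut.conj (g : G)).toMonoidHom
  ht : ∀ i, t i • i₀ = i
  faith : ∀ g ∈ H, (∀ i, ∀ s ∈ T i, g * s * g⁻¹ = s) → g = 1

variable {H : Subgroup G} [MulAction H ι] {T : ι → Subgroup G} {i₀ : ι} {t : ι → H}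

theorem Setup.mem (h : Setup H T i₀ t) (g : H) (i : ι) {s : G} (hs : s ∈ T i) :
    (g : G) * s * (g : G)⁻¹ ∈ T (g • i) := by
  rw [h.smul]
  exact ⟨s, hs, rfl⟩

theorem Setup.fwd (h : Setup H T i₀ t) (i : ι) {s : G} (hs : s ∈ T i₀) : (t i : G) * s * (t i : G)⁻¹ ∈ T i := by
  have h1 := h.mem (t i) i₀ hs
  rwa [h.ht] at h1

theorem Setup.back (h : Setup H T i₀ t) (i : ι) {s : G} (hs : s ∈ T i) : (t i : G)⁻¹ * s * (t i : G) ∈ T i₀ := by
  have h1 := h.mem (t i)⁻¹ i hs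
  have h2 : (t i)⁻¹ • i = i₀ := by rw [inv_smul_eq_iff, h.ht]
  rw [h2] at h1
  simpa using h1

/-- the automorphism of `T i₀` induced by an element fixing `i₀` -/
theorem Setup.ind (h : Setup H T i₀ t) (g : H) (hg : g • i₀ = i₀) :
    ∃ y ∈ ind H (T i₀), ∀ s : T i₀, ((y s : T i₀) : G) = g * s * (g : G)⁻¹ := by
  refine exists_ind g.2 ?_
  rw [← h.smul, hg]

theorem Setup.fix (h : Setup H T i₀ t) (g : H) (i : ι) : ((t (g • i))⁻¹ * g * t i) • i₀ = i₀ := by
  rw [mul_smul, mul_smul, h.ht, inv_smul_eq_iff, h.ht]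

/-- an element acting on every factor as prescribed -/
theorem Setup.lift [Finite ι] (h : Setup H T i₀ t) (x : ι → T i₀) :
    ∃ n : G, ∀ (g : H), n⁻¹ * g * n ∈ H → ∀ i, ∀ y : MulAut (T i₀),
      (∀ s : T i₀, ((y s : T i₀) : G) = (((t (g • i))⁻¹ * g * t i : H) : G) * s *
        (((t (g • i))⁻¹ * g * t i : H) : G)⁻¹) →
      (MulAut.conj (x (g • i)))⁻¹ * y * MulAut.conj (x i) ∈ H233.B3.ind H (T i₀) := by
  obtain ⟨n, -, hn⟩ := exists_prod T h.comm (fun i => ⟨_, h.fwd i (x i).2⟩)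
  have hn1 : ∀ i, ∀ s ∈ T i₀, n * ((t i : G) * s * (t i : G)⁻¹) * n⁻¹ =
      (t i : G) * ((x i : G) * s * (x i : G)⁻¹) * (t i : G)⁻¹ := by
    intro i s hs
    rw [hn i _ (h.fwd i hs)]
    simp only
    group
  have hn2 : ∀ i, ∀ s ∈ T i₀, n⁻¹ * ((t i : G) * s * (t i : G)⁻¹) * n =
      (t i : G) * ((x i : G)⁻¹ * s * (x i : G)) * (t i : G)⁻¹ := by
    intro i s hs
    have h1 := hn1 i _ (mul_mem (mul_mem (inv_mem (x i).2) hs) (x i).2)
    have h2 : (t i : G) * s * (t i : G)⁻¹ = n * ((t i : G) * ((x i : G)⁻¹ * s * (x i : G)) * (t i : G)⁻¹) * n⁻¹ := by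
      rw [h1]; group
    rw [h2]; group
  refine ⟨n, fun g hg i y hy => ?_⟩
  set j := g • i with hj
  refine ⟨(t j : G)⁻¹ * (n⁻¹ * g * n) * (t i : G), mul_mem (mul_mem (inv_mem (t j).2) hg) (t i).2, fun s => ?_⟩
  have e1 : (((MulAut.conj (x j))⁻¹ * y * MulAut.conj (x i)) s : T i₀) = (x j)⁻¹ * y (x i * s * (x i)⁻¹) * x j := by
    simp [MulAut.mul_apply, MulAut.conj_apply]
  have e2 := hy (x i * s * (x i)⁻¹)
  simp only [Subgroup.coe_mul, Subgroup.coe_inv] at e2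
  have e3 := hn1 i _ s.2
  have e4 := hn2 j _ (y (x i * s * (x i)⁻¹)).2
  rw [e1, Subgroup.coe_mul, Subgroup.coe_mul, Subgroup.coe_inv]
  calc (x j : G)⁻¹ * (y (x i * s * (x i)⁻¹) : T i₀) * (x j : G)
      = (t j : G)⁻¹ * ((t j : G) * ((x j : G)⁻¹ * (y (x i * s * (x i)⁻¹) : T i₀) * (x j : G)) * (t j : G)⁻¹) *
          (t j : G) := by group
    _ = (t j : G)⁻¹ * (n⁻¹ * ((t j : G) * (y (x i * s * (x i)⁻¹) : T i₀) * (t j : G)⁻¹) * n) * (t j : G) := by
      rw [e4]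
    _ = (t j : G)⁻¹ * (n⁻¹ * (g * ((t i : G) * ((x i : G) * s * (x i : G)⁻¹) * (t i : G)⁻¹) * (g : G)⁻¹) * n) *
          (t j : G) := by rw [e2]; group
    _ = (t j : G)⁻¹ * (n⁻¹ * (g * (n * ((t i : G) * s * (t i : G)⁻¹) * n⁻¹) * (g : G)⁻¹) * n) * (t j : G) := by
      rw [e3]
    _ = _ := by group

/-- an element fixing all the factors and inducing the identity on each of them is trivial -/
theorem Setup.eq_one (h : Setup H T i₀ t) (g : H) (hfix : ∀ i : ι, g • i = i)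
    (h1 : ∀ i, ∀ s ∈ T i₀, (((t (g • i))⁻¹ * g * t i : H) : G) * s * (((t (g • i))⁻¹ * g * t i : H) : G)⁻¹ = s) :
    (g : G) = 1 := by
  apply h.faith g g.2
  intro i s hs
  have h2 := h1 i _ (h.back i hs)
  rw [hfix i] at h2
  simp only [Subgroup.coe_mul, Subgroup.coe_inv] at h2
  have h3 : (t i : G)⁻¹ * ((g : G) * s * (g : G)⁻¹) * (t i : G) = (t i : G)⁻¹ * s * (t i : G) := by
    rw [← h2]; group
  exact mul_left_cancel (mul_right_cancel h3)

/-- **Gluing, the case `Seven`.** -/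
theorem Setup.five_of_seven [Finite ι] (h : Setup H T i₀ t) (hH : Group.IsSolvable H)
    (h7 : Seven (InnG (T i₀)) (H233.B3.ind H (T i₀))) : Five ⊤ H := by
  obtain ⟨χ, hχ⟩ := colour7 (P := H) hH (ι := ι)
  obtain ⟨x, hx, h7⟩ := h7
  choose a ha using fun c k => hx c k
  choose n hn using fun k : Fin 4 => h.lift fun i => a (χ i) k
  refine ⟨n, fun _ => mem_top _, fun g hg hk => ?_⟩
  have main : ∀ i, χ ((⟨g, hg⟩ : H) • i) = χ i ∧ ∀ s ∈ T i₀,
      (((t ((⟨g, hg⟩ : H) • i))⁻¹ * ⟨g, hg⟩ * t i : H) : G) * s *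
        (((t ((⟨g, hg⟩ : H) • i))⁻¹ * ⟨g, hg⟩ * t i : H) : G)⁻¹ = s := by
    intro i
    obtain ⟨y, hy, hys⟩ := h.ind _ (h.fix ⟨g, hg⟩ i)
    obtain ⟨c1, c2⟩ := h7 y hy (χ ((⟨g, hg⟩ : H) • i)) (χ i) fun k => by
      have h1 := hn k ⟨g, hg⟩ (hk k) i y hys
      rwa [ha, ha] at h1
    refine ⟨c1, fun s hs => ?_⟩
    have h2 := hys ⟨s, hs⟩
    rw [c2] at h2
    exact h2.symm
  exact h.eq_one ⟨g, hg⟩ (hχ _ fun i => (main i).1) fun i => (main i).2

/-- the automorphisms induced by a normal nilpotent subgroup lie in the Fitting subgroup -/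
theorem ind_fitting [Finite G] {L : Subgroup G} {y : MulAut L} (hy : y ∈ H233.B3.ind H L) {v : H}
    (hv : v ∈ fittingSubgroup H) (hyv : ∀ s : L, ((y s : L) : G) = (v : G) * s * (v : G)⁻¹) :
    (⟨y, hy⟩ : H233.B3.ind H L) ∈ fittingSubgroup (H233.B3.ind H L) := by
  -- the elements of `H` normalising `L`
  let M : Subgroup H := (normalizer (L : Set G)).subgroupOf H
  let φ : M →* H233.B3.ind H L :=
    { toFun := fun m => ⟨L.normalizerMonoidHom ⟨m.1, m.2⟩, m.1, m.1.2, fun s => rfl⟩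
      map_one' := by
        apply Subtype.ext
        exact L.normalizerMonoidHom.map_one
      map_mul' := fun a b => by
        apply Subtype.ext
        exact L.normalizerMonoidHom.map_mul ⟨a.1, a.2⟩ ⟨b.1, b.2⟩ }
  have hnorm : ∀ (z : MulAut L) (g : G), (∀ s : L, ((z s : L) : G) = g * s * g⁻¹) → g ∈ normalizer (L : Set G) := by
    intro z g hz
    rw [mem_normalizer_iff]
    intro s
    constructor
    · intro hs
      rw [← hz ⟨s, hs⟩]
      exact (z ⟨s, hs⟩).2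
    · intro hs
      have h1 := hz (z⁻¹ ⟨_, hs⟩)
      rw [MulAut.apply_inv_self] at h1
      have h2 : s = (z⁻¹ ⟨_, hs⟩ : L) := mul_left_cancel (mul_right_cancel h1)
      rw [h2]
      exact (z⁻¹ ⟨_, hs⟩).2
  have hφ : Function.Surjective φ := by
    rintro ⟨z, g, hg, hz⟩
    refine ⟨⟨⟨g, hg⟩, hnorm z g hz⟩, ?_⟩
    apply Subtype.ext
    ext s
    exact (hz s).symm
  have hFn : (fittingSubgroup H).Normal := Lib.Cores.fittingSubgroup_normal
  have hFnil : Group.IsNilpotent (fittingSubgroup H) := Lib.Cores.fittingSubgroup_isNilpotent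
  have hK : (((fittingSubgroup H).subgroupOf M).map φ).Normal := (hFn.subgroupOf M).map φ hφ
  have hKn : Group.IsNilpotent (((fittingSubgroup H).subgroupOf M).map φ) := by
    have h1 : Group.IsNilpotent ((fittingSubgroup H).subgroupOf M) := by
      let ψ : (fittingSubgroup H).subgroupOf M →* fittingSubgroup H :=
        { toFun := fun w => ⟨w.1.1, w.2⟩
          map_one' := rfl
          map_mul' := fun _ _ => rfl }
      have hψ : Function.Injective ψ := fun a b hab =>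
        Subtype.ext (Subtype.ext (congrArg (fun w : fittingSubgroup H => (w : H)) hab))
      exact Subgroup.isNilpotent_of_ker_le_center ψ (by rw [(MonoidHom.ker_eq_bot_iff ψ).2 hψ]; exact bot_le)
    exact Group.nilpotent_of_surjective (φ.subgroupMap _) (φ.subgroupMap_surjective _)
  apply Lib.Cores.le_fittingSubgroup hK hKn
  refine ⟨⟨v, hnorm y v hyv⟩, hv, ?_⟩
  apply Subtype.ext
  ext s
  exact (hyv s).symm

/-- **Gluing, the case `FitReg`.** -/
theorem Setup.five_of_fitReg [Finite G] [Finite ι] (h : Setup H T i₀ t) (hH : Group.IsSolvable H)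
    (hfix : ∀ v : H, v ∈ fittingSubgroup H → ∀ i : ι, v • i = i)
    (hF : FitReg (InnG (T i₀)) (H233.B3.ind H (T i₀))) : Five ⊤ H := by
  obtain ⟨x, ⟨a, rfl⟩, hF⟩ := hF
  obtain ⟨n, hn⟩ := h.lift fun _ => a
  have hFn : (fittingSubgroup H).Normal := Lib.Cores.fittingSubgroup_normal
  refine five_of_fitting inferInstance hH (mem_top n) fun v hv hvn => ?_
  apply Subtype.ext
  refine h.eq_one v (hfix v hv) fun i s hs => ?_
  obtain ⟨y, hy, hys⟩ := h.ind _ (h.fix v i)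
  have h1 := hn v hvn i y hys
  have h2 : (t (v • i))⁻¹ * v * t i ∈ fittingSubgroup H := by
    rw [hfix v hv i]
    simpa using hFn.conj_mem v hv (t i)⁻¹
  have h3 := hF ⟨y, hy⟩ (ind_fitting hy h2 hys) h1
  have h4 : y = 1 := congrArg Subtype.val h3
  have h5 := hys ⟨s, hs⟩
  rw [h4] at h5
  exact h5.symm

end Cfsg.Agent.SB.Red
end

-- part: SB/Red/Main
section
set_option linter.all false
open scoped Cfsg.Agent.FastGrp

/-!
# S5765: the reduction to the rows (helper61)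
-/

set_option autoImplicit false

namespace Cfsg.Agent.SB.Red

open Subgroup Cfsg Cfsg.Agent.H786.FC Cfsg.Agent.H233.B3
open Cfsg.Agent.Lib.MinNormal Cfsg.Agent.Lib.MinNormalNonabelian
open scoped Pointwise

universe u v

variable {G : Type u} [Group G] {ι : Type v}

theorem ind_solvable {H L : Subgroup G} (hH : Group.IsSolvable H) : Group.IsSolvable (ind H L) := by
  let M : Subgroup H := (normalizer (L : Set G)).subgroupOf H
  let φ : M →* ind H L :=
    { toFun := fun m => ⟨L.normalizerMonoidHom ⟨m.1, m.2⟩, m.1, m.1.2, fun s => rfl⟩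
      map_one' := by
        apply Subtype.ext
        exact L.normalizerMonoidHom.map_one
      map_mul' := fun a b => by
        apply Subtype.ext
        exact L.normalizerMonoidHom.map_mul ⟨a.1, a.2⟩ ⟨b.1, b.2⟩ }
  have hnorm : ∀ (z : MulAut L) (g : G), (∀ s : L, ((z s : L) : G) = g * s * g⁻¹) → g ∈ normalizer (L : Set G) := by
    intro z g hz
    rw [mem_normalizer_iff]
    intro s
    constructor
    · intro hs
      rw [← hz ⟨s, hs⟩]
      exact (z ⟨s, hs⟩).2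
    · intro hs
      have h1 := hz (z⁻¹ ⟨_, hs⟩)
      rw [MulAut.apply_inv_self] at h1
      have h2 : s = (z⁻¹ ⟨_, hs⟩ : L) := mul_left_cancel (mul_right_cancel h1)
      rw [h2]
      exact (z⁻¹ ⟨_, hs⟩).2
  have hφ : Function.Surjective φ := by
    rintro ⟨z, g, hg, hz⟩
    refine ⟨⟨⟨g, hg⟩, hnorm z g hz⟩, ?_⟩
    apply Subtype.ext
    ext s
    exact (hz s).symm
  exact Group.isSolvable_of_surjective hφ

variable {H : Subgroup G} [MulAction H ι] {T : ι → Subgroup G} {i₀ : ι} {t : ι → H}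

/-- the maximality of `H` seen in `Aut (T i₀)` -/
theorem Setup.dichotomy (h : Setup H T i₀ t) (hmax : IsCoatom H) (Y : Subgroup (MulAut (T i₀)))
    (h1 : H233.B3.ind H (T i₀) ⊓ InnG (T i₀) ≤ Y)
    (h3 : ∀ s ∈ H233.B3.ind H (T i₀), ∀ y ∈ Y, s * y * s⁻¹ ∈ Y) :
    InnG (T i₀) ≤ Y ∨ ∀ s : T i₀, MulAut.conj s ∈ Y → (s : G) ∈ H := by
  let X : Set G := {x | ∃ g : H, ∃ y : T i₀, MulAut.conj y ∈ Y ∧ x = g * y * (g : G)⁻¹}
  let P : Subgroup G :=
    { carrier := {m | ∃ y : T i₀, MulAut.conj y ∈ Y ∧ ∀ s ∈ T i₀, m * s * m⁻¹ = y * s * (y : G)⁻¹}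
      one_mem' := ⟨1, by rw [map_one]; exact one_mem _, fun s _ => by simp⟩
      mul_mem' := by
        rintro a b ⟨y, hy, ha⟩ ⟨z, hz, hb⟩
        refine ⟨y * z, by rw [map_mul]; exact mul_mem hy hz, fun s hs => ?_⟩
        have e1 := ha _ (mul_mem (mul_mem z.2 hs) (inv_mem z.2))
        rw [Subgroup.coe_mul]
        calc a * b * s * (a * b)⁻¹ = a * (b * s * b⁻¹) * a⁻¹ := by group
          _ = _ := by rw [hb s hs, e1]; group
      inv_mem' := by
        rintro a ⟨y, hy, ha⟩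
        refine ⟨y⁻¹, by rw [map_inv]; exact inv_mem hy, fun s hs => ?_⟩
        have e1 := ha _ (mul_mem (mul_mem (inv_mem y.2) hs) y.2)
        rw [Subgroup.coe_inv]
        have e2 : s = a * ((y : G)⁻¹ * s * y) * a⁻¹ := by rw [e1]; group
        calc a⁻¹ * s * a⁻¹⁻¹ = a⁻¹ * (a * ((y : G)⁻¹ * s * y) * a⁻¹) * a⁻¹⁻¹ := by rw [← e2]
          _ = _ := by group }
  have hXP : closure X ≤ P := by
    rw [closure_le]
    rintro _ ⟨g, y, hy, rfl⟩
    by_cases hg : g • i₀ = i₀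
    · obtain ⟨α, hα, hαs⟩ := h.ind g hg
      refine ⟨α y, ?_, fun s _ => by rw [hαs]⟩
      rw [← conj_conj]
      exact h3 α hα _ hy
    · refine ⟨1, by rw [map_one]; exact one_mem _, fun s hs => ?_⟩
      have e1 := h.comm _ _ hg _ (h.mem g i₀ y.2) s hs
      rw [e1, mul_inv_cancel_right]
      simp
  have hHX : ∀ g ∈ H, ∀ m ∈ closure X, g * m * g⁻¹ ∈ closure X := by
    intro g hg m hm
    have e1 : closure X ≤ (closure X).comap (MulAut.conj g).toMonoidHom := by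
      rw [closure_le]
      rintro _ ⟨k, y, hy, rfl⟩
      refine subset_closure ⟨⟨g, hg⟩ * k, y, hy, ?_⟩
      change g * (k * y * (k : G)⁻¹) * g⁻¹ = g * k * y * (g * k)⁻¹
      group
    exact e1 hm
  by_cases hle : closure X ≤ H
  · right
    intro s hs
    exact hle (subset_closure ⟨1, s, hs, by simp⟩)
  · left
    rintro _ ⟨l, rfl⟩
    have htop : H ⊔ closure X = ⊤ := hmax.2 _ (left_lt_sup.2 hle)
    have e1 : ((H ⊔ closure X : Subgroup G) : Set G) = (H : Set G) * (closure X : Set G) :=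
      coe_mul_of_left_le_normalizer_right H (closure X) fun g hg => mem_normalizer_of_inv hHX hg
    have e2 : (l : G) ∈ (H : Set G) * (closure X : Set G) := by
      rw [← e1, htop]
      exact mem_top _
    obtain ⟨g, hg, m, hm, hgm⟩ := Set.mem_mul.1 e2
    obtain ⟨y, hy, hym⟩ := hXP hm
    have e3 : MulAut.conj (l * y⁻¹) ∈ H233.B3.ind H (T i₀) := by
      refine ⟨g, hg, fun s => ?_⟩
      have e4 := hym _ (mul_mem (mul_mem (inv_mem y.2) s.2) y.2)
      rw [MulAut.conj_apply]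
      simp only [Subgroup.coe_mul, Subgroup.coe_inv]
      calc (l : G) * (y : G)⁻¹ * s * ((l : G) * (y : G)⁻¹)⁻¹ = l * ((y : G)⁻¹ * s * y) * (l : G)⁻¹ := by group
        _ = g * (m * ((y : G)⁻¹ * s * y) * m⁻¹) * g⁻¹ := by rw [← hgm]; group
        _ = g * s * g⁻¹ := by rw [e4]; group
    have e5 := mul_mem (h1 ⟨e3, _, rfl⟩) hy
    rwa [← map_mul, inv_mul_cancel_right] at e5

theorem Setup.maxInv (h : Setup H T i₀ t) (hmax : IsCoatom H) : MaxInv (InnG (T i₀)) (H233.B3.ind H (T i₀)) := by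
  intro Y h1 h2 h3
  rcases h.dichotomy hmax Y h1 h3 with h4 | h4
  · exact Or.inl (le_antisymm h2 h4)
  · right
    intro y hy
    obtain ⟨s, rfl⟩ := h2 hy
    exact ⟨s, h4 s hy, fun _ => rfl⟩

/-- **The gluing theorem.** -/
theorem Setup.five [Finite G] [Finite ι] (h : Setup H T i₀ t) (hmax : IsCoatom H) (hH : Group.IsSolvable H)
    (hs : IsSimpleGroup (T i₀)) (hna : ¬ IsMulCommutative (T i₀)) (hrow : Row (T i₀)) : Five ⊤ H := by
  have hS : Group.IsSolvable (H233.B3.ind H (T i₀)) := ind_solvable hH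
  have hM := h.maxInv hmax
  rcases hrow _ hS hM with hF | h7
  swap
  · exact h.five_of_seven hH h7
  by_cases hfix : ∀ v : H, v ∈ fittingSubgroup H → ∀ i : ι, v • i = i
  · exact h.five_of_fitReg hH hfix hF
  push Not at hfix
  obtain ⟨v, hv, i, hi⟩ := hfix
  have hFn : (fittingSubgroup H).Normal := Lib.Cores.fittingSubgroup_normal
  have hf : (t i)⁻¹ * v * t i ∈ fittingSubgroup H := by simpa using hFn.conj_mem v hv (t i)⁻¹
  have hf0 : ((t i)⁻¹ * v * t i) • i₀ ≠ i₀ := by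
    rw [mul_smul, mul_smul, h.ht, Ne, inv_smul_eq_iff, h.ht]
    exact hi
  generalize (t i)⁻¹ * v * t i = f at hf hf0
  have hRH : ∀ s : T i₀, MulAut.conj s ∈ H233.B3.ind H (T i₀) → (s : G) ∈ H := by
    rcases h.dichotomy hmax (H233.B3.ind H (T i₀) ⊓ InnG (T i₀)) le_rfl (fun s hs y hy => mem_inf.2
      ⟨mul_mem (mul_mem hs (mem_inf.1 hy).1) (inv_mem hs), inn_normal.conj_mem y (mem_inf.1 hy).2 s⟩) with h1 | h1
    · exact absurd (Group.isSolvable_of_isSolvable_injective (f := inclusion (h1.trans inf_le_left))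
        (inclusion_injective _)) (not_solvable (inn_simple hs hna) (inn_noncomm hs hna))
    · exact fun s hs => h1 s ⟨hs, s, rfl⟩
  refine h.five_of_seven hH (seven_of_fitReg inn_normal hS hF (frattini_ne_bot inn_normal (inn_simple hs hna)
    (inn_noncomm hs hna) (inn_centralizer hs hna) hS hM ?_))
  rintro ⟨_, hy⟩ ⟨r, rfl⟩
  have hw : (⟨r, hRH r hy⟩ : H) * f * (⟨r, hRH r hy⟩ : H)⁻¹ * f⁻¹ ∈ fittingSubgroup H :=
    mul_mem (hFn.conj_mem f hf _) (inv_mem hf)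
  refine ind_fitting hy hw fun s => ?_
  have e1 := h.comm _ _ hf0 _ (h.mem f i₀ (inv_mem r.2)) s s.2
  rw [MulAut.conj_apply]
  simp only [Subgroup.coe_mul, Subgroup.coe_inv]
  calc (r : G) * s * (r : G)⁻¹
      = r * (s * (f * (r : G)⁻¹ * (f : G)⁻¹)) * (f * (r : G)⁻¹ * (f : G)⁻¹)⁻¹ * (r : G)⁻¹ := by group
    _ = r * (f * (r : G)⁻¹ * (f : G)⁻¹) * s * (f * (r : G)⁻¹ * (f : G)⁻¹)⁻¹ * (r : G)⁻¹ := by rw [← e1]; group
    _ = _ := by group

/-- the reduction, elementwise form -/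
theorem five_main (hrow : ∀ (K : Type u) [Group K] [Finite K] [IsSimpleGroup K], ¬ IsMulCommutative K → Row K)
    [Finite G] (hR : solvableRadical G = ⊥) (H : Subgroup G) (hmax : IsCoatom H) (hH : Group.IsSolvable H) :
    Five ⊤ H := by
  have hsol : ∀ N : Subgroup G, N.Normal → Group.IsSolvable N → N = ⊥ := by
    intro N h1 h2
    rw [eq_bot_iff, ← hR]
    exact le_sSup ⟨h1, h2⟩
  have hfin : {N : Subgroup G | N.Normal ∧ N ≠ ⊥}.Finite := Set.toFinite _
  have hne : {N : Subgroup G | N.Normal ∧ N ≠ ⊥}.Nonempty :=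
    ⟨⊤, inferInstance, fun h => hmax.1 (eq_top_iff.2 (h.le.trans bot_le))⟩
  obtain ⟨N, ⟨hNn, hN0⟩, hNmin⟩ := hfin.exists_minimal hne
  have hmin : ∀ M : Subgroup G, M.Normal → M ≤ N → M = ⊥ ∨ M = N := by
    intro M hM hMN
    by_cases h0 : M = ⊥
    · exact Or.inl h0
    · exact Or.inr (le_antisymm hMN (hNmin ⟨hM, h0⟩ hMN))
  have hna : ¬ ∀ x ∈ N, ∀ y ∈ N, Commute x y := by
    intro hab
    exact hN0 (hsol N hNn (Group.isSolvable_of_comm fun a b => Subtype.ext (hab a a.2 b b.2).eq))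
  have hNH : ¬ N ≤ H := fun hle =>
    hN0 (hsol N hNn (Group.isSolvable_of_isSolvable_injective (f := inclusion hle) (inclusion_injective _)))
  have hdec : ∀ g : G, ∃ h ∈ H, ∃ n ∈ N, h * n = g := by
    intro g
    have e2 : g ∈ (H : Set G) * (N : Set G) := by
      rw [← mul_normal, hmax.2 _ (left_lt_sup.2 hNH)]
      exact mem_top _
    exact Set.mem_mul.1 e2
  have hC : centralizer (N : Set G) = ⊥ := by
    apply hsol _ inferInstance
    have hZ : N ⊓ centralizer (N : Set G) = ⊥ := by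
      rcases hmin (N ⊓ centralizer (N : Set G)) inferInstance inf_le_left with h | h
      · exact h
      · exfalso
        apply hna
        intro x hx y hy
        rw [← h] at hx
        exact (mem_centralizer_iff.1 hx.2 y hy).symm
    have hq : Group.IsSolvable (G ⧸ N) := by
      refine Group.isSolvable_of_surjective (f := (QuotientGroup.mk' N).comp H.subtype) fun y => ?_
      obtain ⟨g, rfl⟩ := QuotientGroup.mk_surjective y
      obtain ⟨h, hh, n, hn, rfl⟩ := hdec g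
      refine ⟨⟨h, hh⟩, QuotientGroup.eq.2 ?_⟩
      simpa using hn
    refine Group.isSolvable_of_isSolvable_injective
      (f := (QuotientGroup.mk' N).comp (centralizer (N : Set G)).subtype) ?_
    rw [← MonoidHom.ker_eq_bot_iff, eq_bot_iff]
    intro c hc
    have h1 : (c : G) ∈ N ⊓ centralizer (N : Set G) := ⟨(QuotientGroup.eq_one_iff _).1 hc, c.2⟩
    rw [hZ, mem_bot] at h1
    exact mem_bot.2 (Subtype.ext h1)
  obtain ⟨⟨T₀, hT₀⟩, s2, s3, s4, s5, s6⟩ := nonabelian_structure N hmin hna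
  let T : minSet N → Subgroup G := fun i => (i : Subgroup G)
  let _ : MulAction H (minSet N) :=
    { smul := fun g i => ⟨_, map_conj_mem_minSet i.2 (g : G)⟩
      one_smul := fun i => Subtype.ext (map_conj_one _)
      mul_smul := fun g k i => Subtype.ext (map_conj_map_conj _ _ _).symm }
  have htr : ∀ i : minSet N, ∃ g : H, g • (⟨T₀, hT₀⟩ : minSet N) = i := by
    intro i
    obtain ⟨g, hg⟩ := s6 _ hT₀ _ i.2
    obtain ⟨h, hh, n, hn, rfl⟩ := hdec g
    refine ⟨⟨h, hh⟩, Subtype.ext ?_⟩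
    have e : T₀.map (MulAut.conj n).toMonoidHom = T₀ := mem_normalizer_iff_map_conj_eq.1 (hT₀.2.2.1 hn)
    rw [hg, ← map_conj_map_conj, e]
    rfl
  choose t ht using htr
  have hset : Setup H T ⟨T₀, hT₀⟩ t := by
    refine ⟨fun i j hij x hx y hy => ?_, fun _ _ => rfl, ht, fun g _ hg => ?_⟩
    · exact (commute_of_mem s2 (fun S hS => hS.2.2.1) (fun S hS => hS.1) i.2 j.2
        (fun h => hij (Subtype.ext h)) hx hy).eq
    · have h1 : N ≤ centralizer ({g} : Set G) := by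
        rw [← s3]
        refine sSup_le fun i hi s hs => ?_
        rw [mem_centralizer_singleton_iff]
        exact (mul_inv_eq_iff_eq_mul.1 (hg ⟨i, hi⟩ s hs)).symm
      rw [← mem_bot, ← hC, mem_centralizer_iff]
      exact fun s hs => mem_centralizer_singleton_iff.1 (h1 hs)
  have hs : IsSimpleGroup T₀ := s4 _ hT₀
  have hnc : ¬ IsMulCommutative T₀ := by
    intro hc
    obtain ⟨z, hz⟩ := exists_ne (1 : T₀)
    apply hz
    apply Subtype.ext
    exact s5 _ hT₀ z z.2 fun t ht => congrArg Subtype.val (hc.is_comm.comm z ⟨t, ht⟩)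
  exact hset.five hmax hH hs hnc (hrow T₀ hnc)

/-- the rows in any universe -/
theorem row_lift (hrow : ∀ (K : Type) [Group K] [Finite K] [IsSimpleGroup K], ¬ IsMulCommutative K → Row K)
    (K : Type u) [Group K] [Finite K] [IsSimpleGroup K] (hK : ¬ IsMulCommutative K) : Row K := by
  obtain ⟨K', _, ⟨e⟩⟩ := exists_type_zero_model K
  have : Finite K' := Finite.of_equiv K e.symm.toEquiv
  have : IsSimpleGroup K' := e.isSimpleGroup
  refine row_of_equiv e.symm (hrow K' fun h => hK ⟨⟨fun a b => e.symm.injective ?_⟩⟩)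
  rw [map_mul, map_mul]
  exact h.is_comm.comm _ _

/-- **S5765 from the rows.** -/
theorem main (hrow : ∀ (K : Type) [Group K] [Finite K] [IsSimpleGroup K], ¬ IsMulCommutative K → Row K)
    {G : Type*} [Group G] [Finite G] (hR : solvableRadical G = ⊥) (H : Subgroup G) (hmax : IsCoatom H)
    (hH : Group.IsSolvable H) :
    ∃ x₁ x₂ x₃ x₄ : G, H ⊓ H.map (MulAut.conj x₁).toMonoidHom ⊓ H.map (MulAut.conj x₂).toMonoidHom ⊓
      H.map (MulAut.conj x₃).toMonoidHom ⊓ H.map (MulAut.conj x₄).toMonoidHom = ⊥ := by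
  obtain ⟨x, -, hx⟩ := five_main (fun K _ _ _ hK => row_lift hrow K hK) hR H hmax hH
  refine ⟨x 0, x 1, x 2, x 3, ?_⟩
  rw [eq_bot_iff]
  rintro s ⟨⟨⟨⟨hs, h0⟩, h1⟩, h2⟩, h3⟩
  have conv : ∀ i, s ∈ H.map (MulAut.conj (x i)).toMonoidHom → (x i)⁻¹ * s * x i ∈ H := by
    rintro i ⟨y, hy, rfl⟩
    have e : (x i)⁻¹ * (x i * y * (x i)⁻¹) * x i = y := by group
    change (x i)⁻¹ * (x i * y * (x i)⁻¹) * x i ∈ H
    rwa [e]
  rw [mem_bot]
  refine hx s hs fun i => ?_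
  fin_cases i
  exacts [conv 0 h0, conv 1 h1, conv 2 h2, conv 3 h3]

end Cfsg.Agent.SB.Red
end

-- part: SB/SporD/Fi/W
section
prune_inst 0x4d0106f041c2210000000000420003c42f6000190002b880151000d460486bd4000028720c0803e0210080e0c00300068109c00c04050000020000400411c00a080aa40022200a00405000780a007180c00000000000000000000000000041000000000000
set_option linter.all false
open scoped Cfsg.Agent.FastGrp

/-!
# S5765, the row `Fi23`: the wreath product `3 ≀ 3` over a normal subgroup (helper93)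
-/

set_option autoImplicit false

namespace Cfsg.Agent.SB.SporD.Fi

open Subgroup

/-- the elements of `3 ≀ 3` -/
structure W where
  a : Fin 3
  b : Fin 3
  c : Fin 3
  l : Fin 3
  deriving DecidableEq, Fintype

namespace W

/-- the cyclic shift -/
def rot (y : W) : W := ⟨y.c, y.a, y.b, y.l⟩

/-- the shift by `l` -/
def sh (l : Fin 3) (y : W) : W := if l = 0 then y else if l = 1 then rot y else rot (rot y)

instance instMulW : Mul W := ⟨fun x y => ⟨x.a + (sh x.l y).a, x.b + (sh x.l y).b, x.c + (sh x.l y).c, x.l + y.l⟩⟩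

instance instOneW : One W := ⟨⟨0, 0, 0, 0⟩⟩

instance instInvW : Inv W := ⟨fun x => sh (-x.l) ⟨-x.a, -x.b, -x.c, -x.l⟩⟩

theorem mul_def (x y : W) : x * y = ⟨x.a + (sh x.l y).a, x.b + (sh x.l y).b, x.c + (sh x.l y).c, x.l + y.l⟩ := rfl

theorem three : ∀ l : Fin 3, l = 0 ∨ l = 1 ∨ l = 2 := by decide

theorem assoc (x y z : W) : x * y * z = x * (y * z) := by
  obtain ⟨a, b, c, l⟩ := x
  obtain ⟨a', b', c', l'⟩ := y
  have h1 : (1 : Fin 3) + 1 = 2 := rfl
  have h2 : (1 : Fin 3) + 2 = 0 := rfl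
  have h3 : (2 : Fin 3) + 1 = 0 := rfl
  have h4 : (2 : Fin 3) + 2 = 1 := rfl
  rcases three l with rfl | rfl | rfl <;> rcases three l' with rfl | rfl | rfl <;>
    simp [mul_def, sh, rot, add_assoc, ← add_assoc _ _ z.l, h1, h2, h3, h4]

instance instGroupW : Group W := Group.ofLeftAxioms assoc (by decide) (by decide)

/-- the generator of the centre -/
def u : W := ⟨1, 1, 1, 0⟩

/-- the first factor -/
def al : W := ⟨1, 0, 0, 0⟩

/-- the top group -/
def ta : W := ⟨0, 0, 0, 1⟩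

/-- the base group -/
def A : Subgroup W where
  carrier := {x | x.l = 0}
  one_mem' := rfl
  mul_mem' := fun {x y} hx hy => by
    show x.l + y.l = 0
    rw [show x.l = 0 from hx, show y.l = 0 from hy]
    rfl
  inv_mem' := fun {x} hx => by
    have h : ∀ x : W, x.l = 0 → x⁻¹.l = 0 := by decide
    exact h x hx

theorem card_W : Nat.card W = 81 := by
  rw [Nat.card_eq_fintype_card]
  rfl

theorem card_A : Nat.card A = 27 := by
  have h : Nat.card A = Fintype.card {x : W // x.l = 0} := Nat.card_eq_fintype_card (α := {x : W // x.l = 0})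
  rw [h]
  rfl

private noncomputable def _root_.Cfsg.Agent.LsF.fd1749d_0 : {f // @Cfsg.Agent.SB.SporD.Fi.W.sh = f} := ⟨_, by first | (delta Cfsg.Agent.SB.SporD.Fi.W.sh; rewrite [Cfsg.Agent.LsF.dFinEq_eq, Cfsg.Agent.LsF.ite_eq]; exact rfl) | exact rfl⟩
private noncomputable def _root_.Cfsg.Agent.LsF.fd1749d_1 : {f // @Cfsg.Agent.SB.SporD.Fi.W.instMulW = f} := ⟨_, by first | (delta Cfsg.Agent.SB.SporD.Fi.W.instMulW; rewrite [Cfsg.Agent.LsF.fd1749d_0.2, Cfsg.Agent.LsF.fadd_pat]; exact rfl) | exact rfl⟩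
private noncomputable def _root_.Cfsg.Agent.LsF.fd1749d_2 : {f // @Cfsg.Agent.SB.SporD.Fi.W.instInvW = f} := ⟨_, by first | (delta Cfsg.Agent.SB.SporD.Fi.W.instInvW; rewrite [Cfsg.Agent.LsF.fd1749d_0.2]; exact rfl) | exact rfl⟩
private noncomputable def _root_.Cfsg.Agent.LsF.fd1749d_3 : {f // @Cfsg.Agent.SB.SporD.Fi.instDecidableEqW.decEq = f} := ⟨_, by first | (delta Cfsg.Agent.SB.SporD.Fi.instDecidableEqW.decEq; rewrite [Cfsg.Agent.LsF.dFinEq_eq, Cfsg.Agent.LsF.dite_eq]; (try delta Cfsg.Agent.SB.SporD.Fi.instDecidableEqW.decEq.match_1); (try delta Cfsg.Agent.SB.SporD.Fi.W.casesOn); exact rfl) | exact rfl⟩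
private noncomputable def _root_.Cfsg.Agent.LsF.fd1749d_4 : {f // @Cfsg.Agent.SB.SporD.Fi.instDecidableEqW = f} := ⟨_, by first | (delta Cfsg.Agent.SB.SporD.Fi.instDecidableEqW; rewrite [Cfsg.Agent.LsF.fd1749d_3.2]; exact rfl) | exact rfl⟩
private noncomputable def _root_.Cfsg.Agent.LsF.fd1749d_5 : {f // @Cfsg.Agent.SB.SporD.Fi.instFintypeW = f} := ⟨_, by first | (delta Cfsg.Agent.SB.SporD.Fi.instFintypeW; rewrite [Cfsg.Agent.LsF.finFintype_eq, Cfsg.Agent.LsF.ofEqv_eq]; exact rfl) | exact rfl⟩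
theorem ker_fact : ∀ x : W, x ≠ 1 → ∃ g ∈ [al, ta], ∃ y ∈ [x, x * g * x⁻¹ * g⁻¹,
    (x * g * x⁻¹ * g⁻¹) * ta * (x * g * x⁻¹ * g⁻¹)⁻¹ * ta⁻¹], y = u ∨ y⁻¹ = u := by (refine of_decide_eq_true ?_; (try (rewrite [Cfsg.Agent.LsF.fd1749d_1.2, Cfsg.Agent.LsF.fd1749d_2.2, Cfsg.Agent.LsF.fd1749d_4.2, Cfsg.Agent.LsF.fd1749d_5.2, Cfsg.Agent.LsF.dForall_eq, Cfsg.Agent.LsF.dOr_eq, Cfsg.Agent.LsF.dNot_eq, Cfsg.Agent.LsF.dBEx_eq, Cfsg.Agent.LsF.dAllP_eq, Cfsg.Agent.LsF.decide_eq])); decide +kernel)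

theorem cent_fact : ∀ x : W, x ≠ 1 → x * x * x = 1 → (∀ y : W, x * y = y * x → y.l = 0) ∨ x = u ∨ x⁻¹ = u ∨
    ∃ p q : Fin 3, ∀ y : W, x * y = y * x → ∃ i j : Fin 3,
      (⟨p, q, 0, 0⟩ : W) * y * (⟨p, q, 0, 0⟩ : W)⁻¹ = ⟨i, i, i, j⟩ := by (refine of_decide_eq_true ?_; (try (rewrite [Cfsg.Agent.LsF.fd1749d_1.2, Cfsg.Agent.LsF.fd1749d_2.2, Cfsg.Agent.LsF.fd1749d_4.2, Cfsg.Agent.LsF.fd1749d_5.2, Cfsg.Agent.LsF.dForall_eq, Cfsg.Agent.LsF.dOr_eq, Cfsg.Agent.LsF.dNot_eq, Cfsg.Agent.LsF.dFinEq_eq, Cfsg.Agent.LsF.dExistsFin_eq, Cfsg.Agent.LsF.dAllP_eq, Cfsg.Agent.LsF.decide_eq])); decide +kernel)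

theorem card_fact : ∀ x : W, x.l ≠ 0 → (Finset.univ.filter fun y : W => x * y = y * x).card ≤ 9 := by (refine of_decide_eq_true ?_; (try (rewrite [Cfsg.Agent.LsF.fd1749d_1.2, Cfsg.Agent.LsF.fd1749d_4.2, Cfsg.Agent.LsF.fd1749d_5.2, Cfsg.Agent.LsF.dForall_eq, Cfsg.Agent.LsF.fcard_eq, Cfsg.Agent.LsF.ffilter_eq, Cfsg.Agent.LsF.decLe_eq, Cfsg.Agent.LsF.dNot_eq, Cfsg.Agent.LsF.dFinEq_eq, Cfsg.Agent.LsF.dAllP_eq, Cfsg.Agent.LsF.decide_eq])); decide +kernel)

/-- a normal subgroup which is not trivial contains the centre -/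
theorem u_mem {K : Subgroup W} (hK : ∀ g : W, ∀ x ∈ K, g * x * g⁻¹ ∈ K) {x : W} (hx : x ∈ K) (h1 : x ≠ 1) : u ∈ K := by
  have key : ∀ y ∈ K, ∀ g : W, y * g * y⁻¹ * g⁻¹ ∈ K := fun y hy g => by
    have h := mul_mem hy (hK g _ (inv_mem hy))
    rwa [← mul_assoc, ← mul_assoc] at h
  obtain ⟨g, -, y, hy, h⟩ := ker_fact x h1
  have hyK : y ∈ K := by
    simp only [List.mem_cons, List.not_mem_nil, or_false] at hy
    rcases hy with rfl | rfl | rfl
    · exact hx
    · exact key _ hx _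
    · exact key _ (key _ hx _) _
  rcases h with h | h
  · exact h ▸ hyK
  · exact h ▸ inv_mem hyK

/-- the only large abelian subgroup -/
theorem A_le {H : Subgroup W} (hc : ∀ x ∈ H, ∀ y ∈ H, x * y = y * x) (h : 9 < Nat.card H) : A ≤ H := by
  classical
  have h1 : H ≤ A := fun x hx => by
    by_contra h2
    have h3 := card_fact x h2
    have h4 : Nat.card H = (Finset.univ.filter fun y : W => y ∈ H).card := by
      rw [Nat.card_eq_fintype_card, Fintype.card_subtype]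
    have h5 := Finset.card_le_card (show (Finset.univ.filter fun y : W => y ∈ H) ⊆
      Finset.univ.filter fun y : W => x * y = y * x from fun y hy =>
        Finset.mem_filter.2 ⟨Finset.mem_univ _, hc x hx y (Finset.mem_filter.1 hy).2⟩)
    omega
  have h2 := card_dvd_of_le h1
  rw [card_A] at h2
  have h3 : Nat.card H = 27 := by
    have h4 := Nat.le_of_dvd (by norm_num) h2
    generalize Nat.card H = n at h h2 h4
    interval_cases n <;> first | rfl | omega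
  exact (eq_of_le_of_card_ge h1 (by rw [card_A, h3])).ge

end W

variable {G : Type*} [Group G]

/-- the data: `3 ≀ 3 = ⟨α, τ⟩` normalizes `Q` and meets it trivially -/
structure Ext (Q : Subgroup G) (α τ : G) : Prop where
  a3 : α ^ 3 = 1
  t3 : τ ^ 3 = 1
  com : Commute α (τ * α * τ⁻¹)
  na : ∀ q ∈ Q, α * q * α⁻¹ ∈ Q
  nt : ∀ q ∈ Q, τ * q * τ⁻¹ ∈ Q
  nu : α * (τ * α * τ⁻¹) * (τ * (τ * α * τ⁻¹) * τ⁻¹) ∉ Q

theorem pow_val_add {x : G} (h : x ^ 3 = 1) (i j : Fin 3) : x ^ (i + j).val = x ^ i.val * x ^ j.val := by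
  rw [← pow_add, Fin.val_add, ← pow_eq_pow_mod _ h]

namespace Ext

variable {Q : Subgroup G} {α τ : G} (E : Ext Q α τ)

/-- the elements of the base group -/
def V (_ : Ext Q α τ) (a b c : Fin 3) : G := α ^ a.val * (τ * α * τ⁻¹) ^ b.val * (τ * (τ * α * τ⁻¹) * τ⁻¹) ^ c.val

include E

theorem t_conj : τ * (τ * (τ * α * τ⁻¹) * τ⁻¹) * τ⁻¹ = α := by
  calc τ * (τ * (τ * α * τ⁻¹) * τ⁻¹) * τ⁻¹ = τ ^ 3 * α * (τ ^ 3)⁻¹ := by rw [pow_three]; group
    _ = α := by rw [E.t3]; group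

theorem com12 : Commute (τ * α * τ⁻¹) (τ * (τ * α * τ⁻¹) * τ⁻¹) := E.com.map (MulAut.conj τ)

theorem com20 : Commute (τ * (τ * α * τ⁻¹) * τ⁻¹) α := by
  have h : Commute (τ * (τ * α * τ⁻¹) * τ⁻¹) (τ * (τ * (τ * α * τ⁻¹) * τ⁻¹) * τ⁻¹) := E.com12.map (MulAut.conj τ)
  rwa [E.t_conj] at h

theorem V_add (a b c a' b' c' : Fin 3) : E.V (a + a') (b + b') (c + c') = E.V a b c * E.V a' b' c' := by
  have h1 : (τ * α * τ⁻¹) ^ 3 = 1 := by rw [conj_pow, E.a3]; group
  have h2 : (τ * (τ * α * τ⁻¹) * τ⁻¹) ^ 3 = 1 := by rw [conj_pow, h1]; group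
  unfold V
  rw [pow_val_add E.a3, pow_val_add h1, pow_val_add h2]
  have c1 := (E.com.pow_pow a'.val b.val).eq
  have c2 := (E.com12.pow_pow b'.val c.val).eq
  have c3 := (E.com20.pow_pow c.val a'.val).eq
  generalize (τ * (τ * α * τ⁻¹) * τ⁻¹) = z at *
  generalize (τ * α * τ⁻¹) = y at *
  calc _ = α ^ a.val * (α ^ a'.val * y ^ b.val) * (y ^ b'.val * z ^ c.val) * z ^ c'.val := by simp only [mul_assoc]
    _ = α ^ a.val * y ^ b.val * (α ^ a'.val * z ^ c.val) * y ^ b'.val * z ^ c'.val := by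
      rw [c1, c2]; simp only [mul_assoc]
    _ = _ := by rw [← c3]; simp only [mul_assoc]

theorem t_V (a b c : Fin 3) : τ * E.V a b c = E.V c a b * τ := by
  have h : τ * E.V a b c * τ⁻¹ = (τ * α * τ⁻¹) ^ a.val * (τ * (τ * α * τ⁻¹) * τ⁻¹) ^ b.val * α ^ c.val := by
    have h1 : α ^ c.val = τ * (τ * (τ * α * τ⁻¹) * τ⁻¹) ^ c.val * τ⁻¹ := by rw [← conj_pow, E.t_conj]
    rw [h1, conj_pow (a := τ) (b := α), conj_pow (a := τ) (b := τ * α * τ⁻¹) (i := b.val)]
    unfold V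
    simp only [mul_assoc, inv_mul_cancel_left]
  rw [← mul_inv_eq_iff_eq_mul, h,
    (((E.com.pow_pow c.val a.val).mul_right (E.com20.pow_pow b.val c.val).symm).symm).eq, ← mul_assoc]
  rfl

theorem t_sh (l : Fin 3) (y : W) :
    τ ^ l.val * E.V y.a y.b y.c = E.V (W.sh l y).a (W.sh l y).b (W.sh l y).c * τ ^ l.val := by
  rcases W.three l with rfl | rfl | rfl
  · show τ ^ 0 * _ = E.V y.a y.b y.c * τ ^ 0
    rw [pow_zero, one_mul, mul_one]
  · show τ ^ 1 * _ = E.V y.c y.a y.b * τ ^ 1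
    rw [pow_one, E.t_V]
  · show τ ^ 2 * _ = E.V y.b y.c y.a * τ ^ 2
    rw [pow_two, mul_assoc, E.t_V, ← mul_assoc, E.t_V, mul_assoc]

/-- the complement -/
def e : W →* G := MonoidHom.mk' (fun x => E.V x.a x.b x.c * τ ^ x.l.val) fun x y => by
  show E.V (x.a + (W.sh x.l y).a) (x.b + (W.sh x.l y).b) (x.c + (W.sh x.l y).c) * τ ^ (x.l + y.l).val = _
  rw [E.V_add, pow_val_add E.t3, mul_assoc, mul_assoc, ← mul_assoc _ (τ ^ x.l.val), ← E.t_sh, mul_assoc]

theorem e_apply (x : W) : E.e x = α ^ x.a.val * (τ * α * τ⁻¹) ^ x.b.val * (τ * (τ * α * τ⁻¹) * τ⁻¹) ^ x.c.val *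
    τ ^ x.l.val := rfl

theorem e_al : E.e W.al = α := by
  rw [E.e_apply]
  show α ^ 1 * _ ^ 0 * _ ^ 0 * τ ^ 0 = α
  simp only [pow_one, pow_zero, mul_one]

theorem e_ta : E.e W.ta = τ := by
  rw [E.e_apply]
  show α ^ 0 * _ ^ 0 * _ ^ 0 * τ ^ 1 = τ
  simp only [pow_one, pow_zero, one_mul]

theorem e_u : E.e W.u = α * (τ * α * τ⁻¹) * (τ * (τ * α * τ⁻¹) * τ⁻¹) := by
  rw [E.e_apply]
  show α ^ 1 * _ ^ 1 * _ ^ 1 * τ ^ 0 = _
  simp only [pow_one, pow_zero, mul_one]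

/-- the complement lies in every subgroup which contains the generators -/
theorem e_mem {K : Subgroup G} (ha : α ∈ K) (ht : τ ∈ K) (x : W) : E.e x ∈ K := by
  have h1 := mul_mem (mul_mem ht ha) (inv_mem ht)
  have h2 := mul_mem (mul_mem ht h1) (inv_mem ht)
  exact mul_mem (mul_mem (mul_mem (pow_mem ha _) (pow_mem h1 _)) (pow_mem h2 _)) (pow_mem ht _)

omit E in
theorem norm_of {g : G} (h3 : g ^ 3 = 1) (h : ∀ q ∈ Q, g * q * g⁻¹ ∈ Q) : g ∈ normalizer (Q : Set G) :=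
  mem_normalizer_iff.2 fun q => ⟨h q, fun hq => by
    have h1 := h _ (h _ hq)
    rwa [show g * (g * (g * q * g⁻¹) * g⁻¹) * g⁻¹ = g ^ 3 * q * (g ^ 3)⁻¹ by rw [pow_three]; group, h3, one_mul,
      inv_one, mul_one] at h1⟩

theorem e_norm (x : W) {q : G} (hq : q ∈ Q) : E.e x * q * (E.e x)⁻¹ ∈ Q :=
  (mem_normalizer_iff.1 (E.e_mem (norm_of E.a3 E.na) (norm_of E.t3 E.nt) x) q).1 hq

theorem eq_one {x : W} (h : E.e x ∈ Q) : x = 1 := by
  by_contra h1
  have h2 := W.u_mem (K := Q.comap E.e) (fun g y hy => by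
    show E.e (g * y * g⁻¹) ∈ Q
    rw [map_mul, map_mul, map_inv]
    exact E.e_norm g hy) h h1
  exact E.nu (E.e_u ▸ h2)

/-- `g` lies over `x` -/
def Rel (g : G) (x : W) : Prop := g * (E.e x)⁻¹ ∈ Q

theorem rel_e (x : W) : E.Rel (E.e x) x := by
  unfold Rel
  rw [mul_inv_cancel]
  exact one_mem _

theorem rel_one {g : G} : E.Rel g 1 ↔ g ∈ Q := by
  unfold Rel
  rw [map_one, inv_one, mul_one]

variable {E}

theorem Rel.mul {g h : G} {x y : W} (hg : E.Rel g x) (hh : E.Rel h y) : E.Rel (g * h) (x * y) := by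
  have h1 := mul_mem hg (E.e_norm x hh)
  unfold Rel
  rwa [map_mul, show g * h * (E.e x * E.e y)⁻¹ = g * (E.e x)⁻¹ * (E.e x * (h * (E.e y)⁻¹) * (E.e x)⁻¹) by group]

theorem Rel.inv {g : G} {x : W} (hg : E.Rel g x) : E.Rel g⁻¹ x⁻¹ := by
  have h1 := E.e_norm x⁻¹ (inv_mem hg)
  unfold Rel
  rw [map_inv] at h1 ⊢
  rwa [show g⁻¹ * (E.e x)⁻¹⁻¹ = (E.e x)⁻¹ * (g * (E.e x)⁻¹)⁻¹ * (E.e x)⁻¹⁻¹ by group]

theorem Rel.uniq {g : G} {x y : W} (hx : E.Rel g x) (hy : E.Rel g y) : x = y := by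
  have h1 := mul_mem (inv_mem hx) hy
  rw [show (g * (E.e x)⁻¹)⁻¹ * (g * (E.e y)⁻¹) = E.e x * (E.e y)⁻¹ by group, ← map_inv, ← map_mul] at h1
  exact mul_inv_eq_one.1 (E.eq_one h1)

theorem Rel.comm {g h : G} {x y : W} (hg : E.Rel g x) (hh : E.Rel h y) (hc : g * h * g⁻¹ * h⁻¹ ∈ Q) :
    x * y = y * x := by
  have h1 := (((hg.mul hh).mul hg.inv).mul hh.inv).uniq (E.rel_one.2 hc)
  exact mul_inv_eq_iff_eq_mul.1 (mul_inv_eq_one.1 h1)

variable (E)

/-- the preimage of a subgroup -/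
def Pre (H : Subgroup W) : Subgroup G where
  carrier := {g | ∃ x ∈ H, E.Rel g x}
  one_mem' := ⟨1, one_mem _, E.rel_one.2 (one_mem _)⟩
  mul_mem' := fun ⟨x, hx, h⟩ ⟨y, hy, h'⟩ => ⟨x * y, mul_mem hx hy, h.mul h'⟩
  inv_mem' := fun ⟨x, hx, h⟩ => ⟨x⁻¹, inv_mem hx, h.inv⟩

/-- the image of a subgroup -/
def im (K : Subgroup G) : Subgroup W where
  carrier := {x | ∃ g ∈ K, E.Rel g x}
  one_mem' := ⟨1, one_mem _, E.rel_one.2 (one_mem _)⟩
  mul_mem' := fun ⟨x, hx, h⟩ ⟨y, hy, h'⟩ => ⟨x * y, mul_mem hx hy, h.mul h'⟩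
  inv_mem' := fun ⟨x, hx, h⟩ => ⟨x⁻¹, inv_mem hx, h.inv⟩

theorem Q_le (H : Subgroup W) : Q ≤ E.Pre H := fun _ hq => ⟨1, one_mem _, E.rel_one.2 hq⟩

theorem e_mem_Pre {H : Subgroup W} {x : W} (hx : x ∈ H) : E.e x ∈ E.Pre H := ⟨x, hx, E.rel_e x⟩

theorem Pre_le {H : Subgroup W} {K : Subgroup G} (hQ : Q ≤ K) (h : ∀ x ∈ H, E.e x ∈ K) : E.Pre H ≤ K := by
  rintro g ⟨x, hx, hg⟩
  have h1 := mul_mem (hQ hg) (h x hx)
  rwa [inv_mul_cancel_right] at h1

theorem Pre_le_top (H : Subgroup W) : E.Pre H ≤ E.Pre ⊤ := fun _ ⟨x, _, h⟩ => ⟨x, mem_top x, h⟩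

theorem card_eq {K : Subgroup G} (hK : K ≤ E.Pre ⊤) : Nat.card K = Nat.card ↥(K ⊓ Q) * Nat.card (E.im K) := by
  have h : ∀ g : K, ∃ x, E.Rel g x := fun g => (hK g.2).imp fun _ h => h.2
  choose f hf using h
  let ψ : K →* W := MonoidHom.mk' f fun a b => (hf (a * b)).uniq ((hf a).mul (hf b))
  have h1 : ψ.range = E.im K := by
    ext x
    exact ⟨fun ⟨g, hg⟩ => ⟨g, g.2, hg ▸ hf g⟩, fun ⟨g, hg, h⟩ => ⟨⟨g, hg⟩, (hf ⟨g, hg⟩).uniq h⟩⟩
  have h2 : ψ.ker = (K ⊓ Q).subgroupOf K := by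
    ext g
    rw [MonoidHom.mem_ker, mem_subgroupOf, mem_inf]
    exact ⟨fun h => ⟨g.2, E.rel_one.1 (h ▸ hf g)⟩, fun h => (hf g).uniq (E.rel_one.2 h.2)⟩
  rw [← ψ.ker.card_mul_index, index_ker, h1, h2, Nat.card_congr (subgroupOfEquivOfLe inf_le_left).toEquiv]

theorem card_Pre (H : Subgroup W) : Nat.card (E.Pre H) = Nat.card Q * Nat.card H := by
  have h : E.im (E.Pre H) = H := by
    ext x
    exact ⟨fun ⟨g, ⟨y, hy, h1⟩, h2⟩ => h1.uniq h2 ▸ hy, fun hx => ⟨_, E.e_mem_Pre hx, E.rel_e x⟩⟩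
  rw [E.card_eq (E.Pre_le_top H), h, inf_eq_right.2 (E.Q_le H)]

/-- the centralizer of an element of order three outside `Q` -/
theorem cent {F : Subgroup G} (hF : F ≤ E.Pre ⊤) {h : G} (hh : h ∈ F) (hQ : h ∉ Q) (h3 : h ^ 3 = 1)
    (hc : ∀ f ∈ F, Commute h f) : F ≤ E.Pre W.A ∨ E.Rel h W.u ∨ E.Rel h⁻¹ W.u ∨
      ∃ g : G, ∀ f ∈ F, ∃ i j : Fin 3, E.Rel (g * f * g⁻¹) ⟨i, i, i, j⟩ := by
  obtain ⟨x, -, hx⟩ := hF hh
  have h1 : x ≠ 1 := fun e => hQ (E.rel_one.1 (e ▸ hx))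
  have h2 : x * x * x = 1 := ((hx.mul hx).mul hx).uniq (by
    rw [← pow_three', h3]
    exact E.rel_one.2 (one_mem _))
  have key : ∀ f ∈ F, ∃ y, E.Rel f y ∧ x * y = y * x := fun f hf => by
    obtain ⟨y, -, hy⟩ := hF hf
    refine ⟨y, hy, hx.comm hy ?_⟩
    rw [(hc f hf).eq, mul_inv_cancel_right, mul_inv_cancel]
    exact one_mem _
  rcases W.cent_fact x h1 h2 with h4 | h4 | h4 | ⟨p, q, h4⟩
  · refine Or.inl fun f hf => ?_
    obtain ⟨y, hy, h5⟩ := key f hf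
    exact ⟨y, h4 y h5, hy⟩
  · exact Or.inr (Or.inl (h4 ▸ hx))
  · exact Or.inr (Or.inr (Or.inl (h4 ▸ hx.inv)))
  · refine Or.inr (Or.inr (Or.inr ⟨E.e ⟨p, q, 0, 0⟩, fun f hf => ?_⟩))
    obtain ⟨y, hy, h5⟩ := key f hf
    obtain ⟨i, j, h6⟩ := h4 y h5
    exact ⟨i, j, h6 ▸ ((E.rel_e _).mul hy).mul (E.rel_e _).inv⟩

/-- a subgroup with a large abelian image covers the base group -/
theorem abel [Finite G] {D : Subgroup G} (hD : D ≤ E.Pre ⊤) (hc : ∀ a ∈ D, ∀ b ∈ D, a * b * a⁻¹ * b⁻¹ ∈ Q)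
    (h : 9 * Nat.card ↥(D ⊓ Q) < Nat.card D) {x : W} (hx : x ∈ W.A) : ∃ d ∈ D, E.Rel d x := by
  refine W.A_le (H := E.im D) ?_ ?_ hx
  · rintro x ⟨a, ha, h1⟩ y ⟨b, hb, h2⟩
    exact h1.comm h2 (hc a ha b hb)
  · rw [E.card_eq hD, mul_comm] at h
    exact Nat.lt_of_mul_lt_mul_left h

end Ext

end Cfsg.Agent.SB.SporD.Fi

private theorem dce_b45fb9ef1059 : _root_.True := by
  try have : _root_.True := by simp only [_root_.Cfsg.Agent.SB.SporD.Fi.W.rot.eq_1]
  try have : _root_.True := by simp only [_root_.Cfsg.Agent.SB.SporD.Fi.W.sh.eq_1]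
  try have : _root_.True := by simp only [_root_.Cfsg.Agent.SB.SporD.Fi.Ext.e.congr_simp]
  exact _root_.True.intro
end

-- part: SB/SporD/Fi/TP
section
prune_inst 0x4f0102f045c2210000000000400003c42e6000192006b880151400d460c8ebd4000428720c0a03e1210082a8c40300068119c00c0424000000a000400411c00a080a95002a23cac0415000780a007180c00000000000000000000000000041000000000000
set_option linter.all false
open scoped Cfsg.Agent.FastGrp

/-!
# S5765, the row `Fi23`, the prime 3: the Sylow subgroup `P = Q ⋊ (3 ≀ 3)` (helper93)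
-/

set_option autoImplicit false
set_option maxRecDepth 100000

namespace Cfsg.Agent.SB.SporD.Fi.TD

open Subgroup Cfsg
open Cfsg.Agent.Lib.PermNet Cfsg.Agent.Lib.PermNetOrbit Cfsg.Agent.LThreeFi23 Cfsg.Agent.Fischer.Fi23Hom
open Cfsg.Agent.H826.M23 Cfsg.Agent.H826.M23.Data Cfsg.Agent.H826.M23.Inst
open Cfsg.Agent.H837.X1 (eqPt rep)
open Cfsg.Agent.H837.X3 (elw_rep)
open Cfsg.Agent.SB.F24.Geo (zp mem_of_zp conj_comm comm_of_eq_one conj_of_comm mem_cen closure_comm)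
open Cfsg.Spor (Fi23)

theorem fact3 : Fact (Nat.Prime 3) := ⟨Nat.prime_three⟩

theorem eqw {w w' : List Lt} (h : eqW w w' = true) : elw w = elw w' := H837.X1.elw_eq_of_eqPt h

theorem comw {w w' : List Lt} (h : eqW (w ++ w') (w' ++ w) = true) : Commute (elw w) (elw w') := by
  have h1 := eqw h
  rwa [elw_append, elw_append] at h1

theorem poww {w : List Lt} {n : ℕ} (h : eqW (rep w n) [] = true) : elw w ^ n = 1 := by
  have h1 := eqw h
  rwa [elw_rep] at h1

theorem elw_cj (g w : List Lt) : elw (cj g w) = elw g * elw w * (elw g)⁻¹ := by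
  unfold cj
  rw [elw_append, elw_append, elw_reverse]

theorem ptv {w : List Lt} {p q : ℕ} (h : (w, p, q) ∈ [(wX, 11589, 11589), (wX, 8003, 707), (wX, 707, 494), (wx, 11589, 2322),
    (wx, 2322, 1698), (wx, 8003, 8003), (wbe, 6526, 8003), (wx, 6526, 993), (cj [.c, .b] wx, 8004, 8004),
    (cj [.c, .b] wy, 8004, 8004), (wbe, 11589, 8004), (w8, 0, 820)]) : rho (elw w) p = q :=
  H838.Three.ptsChk_spec pts _ h

/-- the extraspecial group -/
noncomputable def Q : Subgroup Fi23 := setup.Q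

theorem es : Es zt Q :=
  ⟨z3', z1', setup.zeta_mem_Q, fun _ hx => setup.Q_zeta hx, fun _ hx _ hy => setup.Q_Rc hx hy, fun _ _ h => setup.C_Q_le h⟩

theorem card_Q : Nat.card Q = 3 ^ 9 := setup.card_Q

theorem Q_cj {g q : Fi23} (hg : Commute g zt) (hq : q ∈ Q) : g * q * g⁻¹ ∈ Q := setup.Q_conj (mem_NN_of_commute hg) hq

theorem x_eq : elw wx = setup.x := elw_append _ _

theorem y_eq : elw wy = setup.y := elw_append _ _

theorem x_mem : elw wx ∈ Q := x_eq ▸ setup.x_mem_Q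

theorem y_mem : elw wy ∈ Q := y_eq ▸ setup.y_mem_Q

theorem cj_mem {g w : List Lt} (hg : Commute (elw g) zt) (hw : elw w ∈ Q) : elw (cj g w) ∈ Q := by
  rw [elw_cj]
  exact Q_cj hg hw

theorem al_zt : Commute (elw wal) zt := comw al_z

theorem ta_zt : Commute (elw wta) zt := by
  unfold wta
  rw [elw_append]
  exact (sX 0).2.symm.mul_left lX.2.symm

theorem be_zt : Commute (elw wbe) zt := comm_letters (by decide)

theorem X_mem : elw wX ∈ Q := by
  unfold wX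
  rw [elw_append, elw_reverse]
  exact mul_mem (cj_mem be_zt x_mem) (inv_mem x_mem)

theorem c0_mem : elw wc0 ∈ Q := by
  have h2 : Commute (elw v2) zt := by
    unfold v2
    rw [elw_append, elw_append]
    exact (bX.2.symm.mul_left (sX 2).2.symm).mul_left be_zt
  have h3 : Commute (elw v3) zt := by
    unfold v3
    rw [elw_append, elw_append]
    exact (bX.2.symm.mul_left (sX 3).2.symm).mul_left be_zt
  rw [← eqw c0_eq, elw_append, elw_append]
  exact mul_mem (mul_mem (cj_mem h2 x_mem) (cj_mem h3 (by rw [elw_reverse]; exact inv_mem x_mem))) es.self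

private theorem cT {w : List Lt} (i j : Fin 4) {p q : ℕ} (h : rho (elw w) p = q) (h1 : sp i = p) (h2 : sp j = q) :
    elw w * ss i * (elw w)⁻¹ = ss j := conj_T_word (by rw [h1, h2, h])

theorem u_ss : elw wu * ss 0 * (elw wu)⁻¹ = ss 0 ∧ elw wu * ss 1 * (elw wu)⁻¹ = ss 2 ∧
    elw wu * ss 2 * (elw wu)⁻¹ = ss 3 ∧ elw wu * ss 3 * (elw wu)⁻¹ = ss 1 := by
  obtain ⟨h0, h1, h2, h3⟩ := im4_spec u_im
  exact ⟨cT 0 0 h0 rfl rfl, cT 1 2 h1 rfl rfl, cT 2 3 h2 rfl rfl, cT 3 1 h3 rfl rfl⟩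

theorem al_ss (i : Fin 4) : elw wal * ss i * (elw wal)⁻¹ = ss i := by
  obtain ⟨h0, h1, h2, h3⟩ := im4_spec al_im
  fin_cases i
  exacts [cT _ _ h0 rfl rfl, cT _ _ h1 rfl rfl, cT _ _ h2 rfl rfl, cT _ _ h3 rfl rfl]

theorem U_eq : elw wal * (elw wta * elw wal * (elw wta)⁻¹) * (elw wta * (elw wta * elw wal * (elw wta)⁻¹) * (elw wta)⁻¹) =
    (elw wu)⁻¹ := by
  have h := eqw u_eq
  rw [elw_append, elw_rep, elw_append, elw_nil] at h
  rw [← eq_inv_of_mul_eq_one_left h, ← mul_one (_ * _), ← poww ta3, pow_three, pow_three]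
  group

theorem u_zt : Commute (elw wu) zt := by
  have h := ((ta_zt.mul_left al_zt).mul_left ta_zt.inv_left)
  have h1 := (al_zt.mul_left h).mul_left ((ta_zt.mul_left h).mul_left ta_zt.inv_left)
  rw [U_eq] at h1
  exact Commute.inv_left_iff.1 h1

theorem Q_Kl {q d : Fi23} {i : Fin 4} (hq : q ∈ Q) (hd : d ∈ Kl DD zt (ss i)) : q * d * q⁻¹ ∈ Kl DD zt (ss i) :=
  conj_mem_Kl' (setup.Q_le_A hq) hd

theorem ext : Ext Q (elw wal) (elw wta) where
  a3 := poww al3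
  t3 := poww ta3
  com := by
    rw [← elw_cj]
    exact comw al_com
  na := fun _ => Q_cj al_zt
  nt := fun _ => Q_cj ta_zt
  nu := fun h => by
    rw [U_eq, inv_mem_iff] at h
    have h1 := Q_Kl h (setup.self_Kl 1)
    rw [u_ss.2.1] at h1
    exact setup.notMem_Kl (i := 1) (j := 2) (by decide) h1

theorem e_u : ext.e W.u = (elw wu)⁻¹ := ext.e_u.trans U_eq

theorem e_be : ext.e ⟨0, 1, 2, 0⟩ = elw wbe := by
  rw [← eqw be_eq, ext.e_apply]
  show _ ^ 0 * _ ^ 1 * _ ^ 2 * _ ^ 0 = _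
  simp only [elw_append]
  rw [← mul_one (_ ^ 0 * _ ^ 1 * _ ^ 2 * _ ^ 0), ← ext.t3, pow_three, pow_two, pow_zero, pow_zero, pow_one]
  group

/-- the Sylow subgroup -/
noncomputable def P : Subgroup Fi23 := ext.Pre ⊤

/-- the preimage of the base group -/
noncomputable def A : Subgroup Fi23 := ext.Pre W.A

theorem A_le_P : A ≤ P := ext.Pre_le_top _

theorem card_P : Nat.card P = 3 ^ 13 := by
  unfold P
  rw [ext.card_Pre, card_Q, card_top, W.card_W]
  norm_num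

theorem pg_P : IsPGroup 3 P := IsPGroup.of_card card_P

theorem P_le : P ≤ centralizer {zt} :=
  ext.Pre_le (fun _ hq => mem_cen.2 (es.cen _ hq)) fun x _ => ext.e_mem (mem_cen.2 al_zt) (mem_cen.2 ta_zt) x

theorem al_mem : elw wal ∈ A := ext.e_al ▸ ext.e_mem_Pre (show W.al ∈ W.A from rfl)

theorem be_mem : elw wbe ∈ A := e_be ▸ ext.e_mem_Pre (show (⟨0, 1, 2, 0⟩ : W) ∈ W.A from rfl)

theorem u_mem : elw wu ∈ A := inv_mem_iff.1 (e_u ▸ ext.e_mem_Pre (show W.u ∈ W.A from rfl))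

theorem ta_mem : elw wta ∈ P := ext.e_ta ▸ ext.e_mem_Pre (mem_top _)

theorem Q_le_A : Q ≤ A := ext.Q_le _

theorem not_dvd (K : Subgroup Fi23) : ¬ 3 ^ (13 + 1) ∣ Nat.card K := fun h => by
  have h1 := h.trans (card_subgroup_dvd_card K)
  rw [card_G] at h1
  norm_num at h1

theorem conj_P {K F : Subgroup Fi23} (hK : P ≤ K) (hF : F ≤ K) (h : IsPGroup 3 F) : ∃ g ∈ K, ∀ f ∈ F, g * f * g⁻¹ ∈ P :=
  have := fact3
  conj_into hK pg_P card_P.ge (not_dvd K) hF h

/-- `F` is conjugate to a subgroup of `A` -/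
def Good (F : Subgroup Fi23) : Prop := ∃ g : Fi23, ∀ f ∈ F, g * f * g⁻¹ ∈ A

theorem good_B {F : Subgroup Fi23} {g : Fi23} (h : ∀ f ∈ F, ∃ i j : Fin 3, ext.Rel (g * f * g⁻¹) ⟨i, i, i, j⟩) : Good F := by
  refine ⟨elw wg * g, fun f hf => ?_⟩
  obtain ⟨i, j, h1⟩ := h f hf
  have h2 : ∀ i j : Fin 3, (⟨i, i, i, j⟩ : W) = W.u ^ i.val * W.ta ^ j.val := by decide
  let K := A.comap (MulAut.conj (elw wg)).toMonoidHom
  have h3 : elw wu ∈ K := by
    show elw wg * elw wu * (elw wg)⁻¹ ∈ A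
    rw [conj_of_comm (comw g_u)]
    exact u_mem
  have h4 : elw wta ∈ K := by
    show elw wg * elw wta * (elw wg)⁻¹ ∈ A
    have h5 := eqw g_ta
    rw [elw_append, elw_append, elw_append] at h5
    rw [h5, mul_inv_cancel_right]
    exact mul_mem be_mem u_mem
  have h5 : ext.e ⟨i, i, i, j⟩ ∈ K := by
    rw [h2, map_mul, map_pow, map_pow, e_u, ext.e_ta]
    exact mul_mem (pow_mem (inv_mem h3) _) (pow_mem h4 _)
  have h6 : g * f * g⁻¹ * (ext.e ⟨i, i, i, j⟩)⁻¹ ∈ K := Q_le_A (Q_cj (comw g_z) h1)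
  have h7 : elw wg * (g * f * g⁻¹) * (elw wg)⁻¹ ∈ A := (K.mul_mem_cancel_right (inv_mem h5)).1 h6
  rwa [show elw wg * g * f * (elw wg * g)⁻¹ = elw wg * (g * f * g⁻¹) * (elw wg)⁻¹ by group]

theorem card_ab {D : Subgroup Fi23} (hD : D ≤ Q) (h : ∀ x ∈ D, ∀ y ∈ D, x * y = y * x) : Nat.card D ≤ 243 := by
  have h1 := es.card_ab hD h
  rw [card_Q] at h1
  exact Nat.mul_self_le_mul_self_iff.1 (h1.trans (by norm_num))

/-- the subgroups of `P` which do not contain the centre are small -/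
theorem small {H : Subgroup Fi23} (hH : H ≤ P) (hz : zt ∉ H) : Nat.card H < 3 ^ 9 := by
  have h1 : ∀ x ∈ H ⊓ Q, ∀ y ∈ H ⊓ Q, Commute x y := fun x hx y hy => comm_of_eq_one (by
    by_contra h
    exact hz (mem_of_zp es.cube (es.com x hx.2 y hy.2) h
      (mul_mem (mul_mem (mul_mem hx.1 hy.1) (inv_mem hx.1)) (inv_mem hy.1))))
  have h2 := card_ab (D := closure ((H ⊓ Q : Subgroup Fi23) ∪ {zt})) ((closure_le _).2 (by
    rintro x (hx | rfl)
    exacts [hx.2, es.self])) fun x hx y hy => closure_comm (by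
      rintro a (ha | rfl) b (hb | rfl)
      exacts [h1 a ha b hb, es.cen a ha.2, (es.cen b hb.2).symm, Commute.refl _]) hx hy
  have h3 : H ⊓ Q ≤ closure ((H ⊓ Q : Subgroup Fi23) ∪ {zt}) := fun x hx => Subgroup.subset_closure (Or.inl hx)
  obtain ⟨k, hk⟩ := card_dvd_of_le h3
  have h4 : k ≠ 1 := fun e => hz (by
    have h5 := eq_of_le_of_card_ge h3 (by rw [hk, e, mul_one])
    have h6 : zt ∈ H ⊓ Q := by
      rw [h5]
      exact Subgroup.subset_closure (Or.inr rfl)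
    exact h6.1)
  have h5 : k ≠ 0 := fun e => Nat.card_pos.ne' (by rw [hk, e, mul_zero])
  have h6 : Nat.card ↥(H ⊓ Q) * 2 ≤ 243 := (Nat.mul_le_mul_left _ (by omega)).trans (hk ▸ h2)
  have h7 := card_le_card_group (ext.im H)
  rw [W.card_W] at h7
  rw [ext.card_eq hH]
  exact lt_of_le_of_lt (Nat.mul_le_mul (show _ ≤ 121 by omega) h7) (by norm_num)

/-- the elements of `Q` which fix the tetrad -/
theorem mem_Z {q : Fi23} (hq : q ∈ Q) (h : ∀ i, Commute q (ss i)) : q ∈ zpowers zt := by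
  have h1 : zpowers zt = setup.C7 := eq_of_le_of_card_ge
    (zpowers_le.2 (setup.mem_C7.2 ⟨fun i => (sX i).2, bX.2, lX.2, kX.2⟩)) (setup.card_zp ▸ setup.card_C7)
  rw [h1]
  refine (setup.B_cases (setup.Q_le_A hq) h).resolve_right fun h2 => ?_
  rw [← h1] at h2
  have h3 : setup.t ∈ Q := (Q.mul_mem_cancel_right hq).1 (zpowers_le.2 es.self h2)
  have h4 : ∀ {a b : Fi23}, a * a = 1 → b * b = 1 → Commute a b → a * b * (a * b) = 1 := fun {a b} ha hb hc => by
    rw [mul_assoc, ← mul_assoc b, ← hc.eq, mul_assoc, hb, mul_one, ha]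
  have h5 : setup.t = 1 := Setup.eq_one_of_sq setup.isPGroup_Q h3
    (h4 (h4 (h4 (setup.ssq 0) (setup.ssq 1) (sc 0 1)) (setup.ssq 2) ((sc 0 2).mul_left (sc 1 2))) (setup.ssq 3)
      (((sc 0 3).mul_left (sc 1 3)).mul_left (sc 2 3)))
  have h6 := setup.t_conj_k
  rw [h5, one_mul, inv_one, mul_one] at h6
  exact knc (commute_of_conj_eq (by rwa [setup.sinv 0]))

end Cfsg.Agent.SB.SporD.Fi.TD
end

-- part: SB/SporD/Fi/TC
section
prune_inst 0x4e0102e04582210000000000400003c42d6000192006b880151000d46048ebd4000428720c0a03e1010082a0c00300068109c00c04040000020000400411c00a080aa50022200a00404000780a007180c00000000000000000000000000041000000000000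
set_option linter.all false
open scoped Cfsg.Agent.FastGrp

/-!
# S5765, the row `Fi23`, the prime 3: the class 3C, the coset `Q u`, the standard line (helper93)
-/

set_option autoImplicit false
set_option maxRecDepth 100000

namespace Cfsg.Agent.SB.SporD.Fi.TD

open Subgroup Cfsg
open Cfsg.Agent.Lib.PermNet Cfsg.Agent.Lib.PermNetOrbit Cfsg.Agent.LThreeFi23 Cfsg.Agent.Fischer.Fi23Hom
open Cfsg.Agent.H826.M23 Cfsg.Agent.H826.M23.Data Cfsg.Agent.H826.M23.Inst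
open Cfsg.Agent.H837.X1 (eqPt rep)
open Cfsg.Agent.H837.X3 (elw_rep x0 x0_pow)
open Cfsg.Agent.H838.Mono (CI)
open Cfsg.Agent.SB.F24.Geo (zp mem_of_zp conj_comm comm_of_eq_one conj_of_comm mem_cen closure_comm)
open Cfsg.Spor (Fi23)

/-- the number of fixed points -/
noncomputable def nfix (g : Fi23) : ℕ := ((Finset.range 31671).filter fun p => rho g p = p).card

theorem card_bits {M : ℕ} {R : ℕ → Prop} [DecidablePred R] (h : ∀ p, M.testBit p = true ↔ p < 31671 ∧ R p) :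
    ((Finset.range 31671).filter R).card = Lib.PermNetPat.pc 15 M := by
  rw [← Lib.PermNetPat.card_filter_testBit]
  congr 1
  ext p
  simp only [Finset.mem_filter, Finset.mem_range, h]
  exact ⟨fun h1 => ⟨by omega, h1⟩, fun h1 => h1.2⟩

theorem nfix_elw {w : List Lt} {n : ℕ} (h : Nat.beq (nfW w) n = true) : nfix (elw w) = n := by
  rw [← Nat.eq_of_beq_eq_true h]
  refine card_bits fun p => ?_
  rw [testBit_pattern, pat_cons]
  simp [Pat]

theorem nfix_le (g x : Fi23) : nfix x ≤ nfix (g * x * g⁻¹) := by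
  refine Finset.card_le_card_of_injOn (rho g) (fun p hp => ?_) (rho g).injective.injOn
  rw [Finset.mem_coe, Finset.mem_filter, Finset.mem_range] at hp ⊢
  refine ⟨act_lt g hp.1, ?_⟩
  rw [← Equiv.Perm.mul_apply, ← map_mul, inv_mul_cancel_right, map_mul, Equiv.Perm.mul_apply, hp.2]

theorem nfix_conj (g x : Fi23) : nfix (g * x * g⁻¹) = nfix x := by
  refine le_antisymm ?_ (nfix_le g x)
  have h := nfix_le g⁻¹ (g * x * g⁻¹)
  rwa [show g⁻¹ * (g * x * g⁻¹) * g⁻¹⁻¹ = x by group] at h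

theorem nfix_inv (x : Fi23) : nfix x⁻¹ = nfix x := by
  unfold nfix
  congr 1
  ext p
  simp only [Finset.mem_filter, map_inv, Equiv.Perm.inv_eq_iff_eq]
  exact ⟨fun h => ⟨h.1, h.2.symm⟩, fun h => ⟨h.1, h.2.symm⟩⟩

theorem nfix_ci {x y : Fi23} (h : CI x y) : nfix x = nfix y := by
  obtain ⟨g, h | h⟩ := h
  · rw [← h, nfix_conj]
  · rw [← nfix_inv y, ← h, nfix_conj]

/-- the class 3C -/
theorem ci135 {z : Fi23} (h3 : z ^ 3 = 1) (h : nfix z = 135) : CI z (elw H838.Three.y135) := by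
  have h1 : z ≠ 1 := fun e => by
    have h2 : nfix z = 31671 := by
      unfold nfix
      rw [e, map_one, Finset.filter_true_of_mem (p := fun p => (1 : Equiv.Perm ℕ) p = p) fun _ _ => rfl,
        Finset.card_range]
    omega
  obtain ⟨k, hk⟩ := H838.Three.classes h3 h1
  have h2 := nfix_ci hk
  rw [h] at h2
  fin_cases k
  · exact absurd (h2.trans (uu_eq ▸ nfix_elw nfA)) (by norm_num)
  · exact hk
  · exact absurd (h2.trans (nfix_elw nfB)) (by norm_num)
  · exact absurd (h2.trans (nfix_elw nfD)) (by norm_num)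

theorem nfix_c0 : nfix (elw wc0) = 135 := (nfix_elw nfc :)

theorem nfix_x0 : nfix x0 = 135 := by
  have h : nfW H837.X1.x0w = Lib.PermNetPat.pc 15 (H837.X1.fixP []) := rfl
  have h1 := H837.X1.p0
  rw [← h] at h1
  exact (nfix_elw (w := H837.X1.x0w) h1 :)

theorem ci_c0 {z : Fi23} (h3 : z ^ 3 = 1) (h : nfix z = 135) : CI z (elw wc0) :=
  (ci135 h3 h).trans (ci135 (setup.Q_cube c0_mem) nfix_c0).symm

theorem rel_al : ext.Rel (elw wal) W.al := by
  have h := ext.rel_e W.al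
  rwa [ext.e_al] at h

theorem rel_be : ext.Rel (elw wbe) ⟨0, 1, 2, 0⟩ := by
  have h := ext.rel_e ⟨0, 1, 2, 0⟩
  rwa [e_be] at h

theorem ci_comm {x y g f : Fi23} (h : g * x * g⁻¹ = y ∨ g * x * g⁻¹ = y⁻¹) (hf : Commute f x) : Commute (g * f * g⁻¹) y := by
  have h1 := conj_comm hf g
  rcases h with h | h <;> rw [h] at h1
  exacts [h1, Commute.inv_right_iff.1 h1]

theorem not_dvd_c0 : ¬ 3 ^ (10 + 1) ∣ Nat.card (centralizer ({elw wc0} : Set Fi23)) := fun h => by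
  obtain ⟨g, hg⟩ := (ci_c0 x0_pow nfix_x0).symm
  have h1 : (centralizer ({elw wc0} : Set Fi23)).map (MulAut.conj g).toMonoidHom ≤ H837.X4.N := by
    rintro _ ⟨f, hf, rfl⟩
    exact mem_NN_of_commute (ci_comm hg (mem_cen.1 hf))
  have h2 := card_dvd_of_le h1
  rw [card_map_of_injective (MulAut.conj g).injective, H837.X4.card_N] at h2
  have h3 := h.trans h2
  norm_num at h3

theorem nine_le {H : Subgroup W} (h1 : W.al ∈ H) (h2 : (⟨0, 1, 2, 0⟩ : W) ∈ H) : 9 ≤ Nat.card H := by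
  have h3 : ∀ p q : Fin 3 × Fin 3, W.al ^ p.1.val * (⟨0, 1, 2, 0⟩ : W) ^ p.2.val =
      W.al ^ q.1.val * (⟨0, 1, 2, 0⟩ : W) ^ q.2.val → p = q := by decide
  have h4 := Nat.card_le_card_of_injective
    (fun p : Fin 3 × Fin 3 => (⟨_, mul_mem (pow_mem h1 p.1.val) (pow_mem h2 p.2.val)⟩ : H))
    fun p q e => h3 p q (congrArg Subtype.val e)
  rwa [Nat.card_prod, Nat.card_fin] at h4

/-- the 3-subgroups of the centralizer of an element of class 3C -/
theorem good_C {F : Subgroup Fi23} (hF : IsPGroup 3 F) {z : Fi23} (h3 : z ^ 3 = 1) (h : nfix z = 135)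
    (hc : ∀ f ∈ F, Commute f z) : Good F := by
  have := fact3
  obtain ⟨g, hg⟩ := ci_c0 h3 h
  have hle : centralizer {elw wc0} ⊓ A ≤ P := inf_le_right.trans A_le_P
  have h1 : 3 ^ 10 ≤ Nat.card ↥(centralizer {elw wc0} ⊓ A) := by
    have h2 := es.card_cent (A := Q) (x := elw wc0) fun a ha => es.com a ha _ c0_mem
    have h4 : Nat.card ↥(Q ⊓ centralizer {elw wc0}) ≤ Nat.card ↥(centralizer {elw wc0} ⊓ A ⊓ Q) :=
      card_le_of_le fun x hx => ⟨⟨hx.2, Q_le_A hx.1⟩, hx.1⟩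
    have h5 := nine_le (H := ext.im (centralizer {elw wc0} ⊓ A))
      ⟨_, ⟨mem_cen.2 (comw c0_al), al_mem⟩, rel_al⟩
      ⟨_, ⟨mem_cen.2 (comw c0_be), be_mem⟩, rel_be⟩
    rw [card_Q] at h2
    rw [ext.card_eq hle]
    exact le_trans (by norm_num) (Nat.mul_le_mul (show 3 ^ 8 ≤ _ by omega) h5)
  obtain ⟨k, -, hk⟩ := conj_into inf_le_left (pg_P.to_le hle) h1 not_dvd_c0
    (T := F.map (MulAut.conj g).toMonoidHom) (by
      rintro _ ⟨f, hf, rfl⟩
      exact mem_cen.2 (ci_comm hg (hc f hf))) (hF.map _)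
  refine ⟨k * g, fun f hf => ?_⟩
  have h2 := (hk _ ⟨f, hf, rfl⟩).2
  rwa [show k * g * f * (k * g)⁻¹ = k * (g * f * g⁻¹) * k⁻¹ by group]

theorem zp3 {p : Fi23} (hp : p ^ 3 = 1) (i : ℤ) : ∃ n : ℕ, n ∈ [0, 1, 2] ∧ p ^ i = p ^ n := by
  rcases zp hp (zpow_mem_zpowers p i) with h | h | h
  · exact ⟨0, by simp, h.trans (pow_zero p).symm⟩
  · exact ⟨1, by simp, h.trans (pow_one p).symm⟩
  · exact ⟨2, by simp, h.trans (eq_inv_of_mul_eq_one_left (by rw [← pow_succ, hp])).symm⟩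

theorem elw_wh (i j k : ℕ) : elw (wh i j k) = elw wx ^ i * elw wy ^ j * elw wu * zt ^ k := by
  unfold wh
  rw [elw_append, elw_append, elw_append, elw_rep, elw_rep, elw_rep, mul_assoc _ _ (elw wu), mul_assoc _ _ (zt ^ k),
    (u_zt.pow_right k).eq]
  rfl

/-- the elements of `Q` which fix three members of the tetrad -/
theorem form_E {e : Fi23} (he : e ∈ Q) (h : ∀ i, i ≠ 0 → Commute e (ss i)) :
    ∃ i ∈ [0, 1, 2], ∃ j ∈ [0, 1, 2], ∃ k ∈ [0, 1, 2], e = elw wx ^ i * elw wy ^ j * zt ^ k := by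
  obtain ⟨e0, h0, h1⟩ := setup.orbit0.2 _ (Q_Kl he (setup.self_Kl 0))
  have h2 : setup.E0 ≤ Q := (closure_le _).2 (by
    rintro _ (rfl | rfl)
    exacts [setup.x_mem_Q, setup.y_mem_Q])
  have h3 : ∀ i, i ≠ 0 → setup.E0 ≤ centralizer {ss i} := fun i hi => (closure_le _).2 (by
    rintro _ (rfl | rfl)
    · exact mem_cen.2 ((sc 0 i).mul_left (Kl_commute (setup.s_mem_nb hi.symm) setup.kK (setup.self_Kl i)))
    · exact mem_cen.2 ((sc 0 i).mul_left (Kl_commute (setup.s_mem_nb hi.symm) setup.kK' (setup.self_Kl i))))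
  obtain ⟨m, hm⟩ := mem_Z (mul_mem (inv_mem (h2 h0)) he) fun i => by
    by_cases hi : i = 0
    · rw [hi]
      refine commute_of_conj_eq ?_
      rw [show e0⁻¹ * e * ss 0 * (e0⁻¹ * e)⁻¹ = e0⁻¹ * (e * ss 0 * e⁻¹) * e0 by group, ← h1]
      group
    · exact (mem_cen.1 (h3 i hi h0)).inv_left.mul_left (h i hi)
  obtain ⟨i, j, k, h4⟩ := exists_form setup.xz setup.yz setup.xyx h0
  obtain ⟨i', hi, e1⟩ := zp3 setup.x3 i
  obtain ⟨j', hj, e2⟩ := zp3 setup.y3 j
  obtain ⟨k', hk, e3⟩ := zp3 z3' (k + m)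
  refine ⟨i', hi, j', hj, k', hk, ?_⟩
  rw [x_eq, y_eq, ← e1, ← e2, ← e3, zpow_add, ← mul_assoc, ← h4, show zt ^ m = _ from hm, mul_inv_cancel_left]

/-- an element of order three of the coset `Q u` generates with `ζ` a group which contains an element of class 3C -/
theorem form_u {h : Fi23} (hh : h * (elw wu)⁻¹ ∈ Q) (h3 : h ^ 3 = 1) : ∃ m : ℕ, nfix (h * zt ^ m) = 135 := by
  obtain ⟨u0, u1, u2, u3⟩ := u_ss
  have key : ∀ {i j : Fin 4} {d : Fi23}, elw wu * ss i * (elw wu)⁻¹ = ss j → d ∈ Kl DD zt (ss i) →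
      h * d * h⁻¹ ∈ Kl DD zt (ss j) := fun {i j d} e hd => by
    have h1 := Kl_conj_mem tt (mem_NN_of_commute u_zt) hd
    rw [e] at h1
    have h2 := Q_Kl hh h1
    rwa [show h * (elw wu)⁻¹ * (elw wu * d * (elw wu)⁻¹) * (h * (elw wu)⁻¹)⁻¹ = h * d * h⁻¹ by group] at h2
  have k2 := key u1 (setup.self_Kl 1)
  have k3 := key u2 k2
  obtain ⟨a, ha, hf⟩ := setup.f_surj fun i => ⟨![ss 0, ss 1, h * ss 1 * h⁻¹, h * (h * ss 1 * h⁻¹) * h⁻¹] i, by
    fin_cases i
    exacts [setup.self_Kl 0, setup.self_Kl 1, k2, k3]⟩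
  have a1 : a * ss 1 * a⁻¹ = ss 1 := congrArg Subtype.val (congrFun hf 1)
  have a2 : a * ss 2 * a⁻¹ = h * ss 1 * h⁻¹ := congrArg Subtype.val (congrFun hf 2)
  have a3 : a * ss 3 * a⁻¹ = h * (h * ss 1 * h⁻¹) * h⁻¹ := congrArg Subtype.val (congrFun hf 3)
  have step : ∀ {i j : Fin 4}, elw wu * ss i * (elw wu)⁻¹ = ss j → h * (a * ss i * a⁻¹) * h⁻¹ = a * ss j * a⁻¹ →
      Commute (a⁻¹ * h * a * (elw wu)⁻¹) (ss j) := fun {i j} e1 e2 => commute_of_conj_eq (by
    calc _ = a⁻¹ * (h * (a * ((elw wu)⁻¹ * ss j * elw wu) * a⁻¹) * h⁻¹) * a := by group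
      _ = a⁻¹ * (h * (a * ss i * a⁻¹) * h⁻¹) * a := by rw [← e1]; group
      _ = ss j := by rw [e2]; group)
  obtain ⟨i, hi, j, hj, k, hk, e⟩ := form_E (e := a⁻¹ * h * a * (elw wu)⁻¹) (by
    have h1 := mul_mem (mul_mem (inv_mem ha) hh) (Q_cj u_zt ha)
    rwa [show a⁻¹ * (h * (elw wu)⁻¹) * (elw wu * a * (elw wu)⁻¹) = a⁻¹ * h * a * (elw wu)⁻¹ by group] at h1) (by
    intro i hi
    fin_cases i
    · exact absurd rfl hi
    · refine step u3 ?_
      rw [a3, show h * (h * (h * ss 1 * h⁻¹) * h⁻¹) * h⁻¹ = h ^ 3 * ss 1 * (h ^ 3)⁻¹ by rw [pow_three]; group, h3]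
      exact (by group : 1 * ss 1 * 1⁻¹ = ss 1).trans a1.symm
    · exact step u1 (by rw [a1]; exact a2.symm)
    · exact step u2 (by rw [a2]; exact a3.symm))
  have e1 : a⁻¹ * h * a⁻¹⁻¹ = elw (wh i j 0) * zt ^ k := by
    rw [inv_inv, mul_inv_eq_iff_eq_mul.1 e, elw_wh, pow_zero, mul_one, mul_assoc, mul_assoc _ (elw wu),
      (u_zt.pow_right k).eq]
  have hz : Commute (elw (wh i j 0)) zt := by
    rw [elw_wh]
    exact ((((es.cen _ x_mem).pow_left i).mul_left ((es.cen _ y_mem).pow_left j)).mul_left u_zt).mul_left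
      ((Commute.refl zt).pow_left 0)
  have e2 : elw (wh i j 0) ^ 3 = 1 := by
    have h1 : (a⁻¹ * h * a⁻¹⁻¹) ^ 3 = 1 := by rw [_root_.conj_pow, h3, mul_one, mul_inv_cancel]
    rwa [e1, (hz.pow_right k).mul_pow, ← pow_mul, mul_comm k, pow_mul, z3', one_pow, mul_one] at h1
  have j0 : j = 0 := by
    by_contra hj0
    have h1 := List.all_eq_true.1 (List.all_eq_true.1 nine i hi) j (by simpa [hj0] using hj)
    refine mvl_spec h1 0 (by simp) ?_
    rw [elw_rep, e2, map_one]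
    rfl
  have fin : ∀ k0, nfix (elw (wh i 0 k0)) = 135 → ∃ m : ℕ, nfix (h * zt ^ m) = 135 := fun k0 h1 => by
    refine ⟨k0 + 2 * k, ?_⟩
    rw [← h1, ← nfix_conj a⁻¹, show a⁻¹ * (h * zt ^ (k0 + 2 * k)) * a⁻¹⁻¹ =
      a⁻¹ * h * a⁻¹⁻¹ * (a⁻¹ * zt ^ (k0 + 2 * k) * a⁻¹⁻¹) by group, e1,
      conj_of_comm ((es.cen _ (inv_mem ha)).pow_right _), j0, elw_wh, elw_wh, mul_assoc, ← pow_add,
      show k + (k0 + 2 * k) = 3 * k + k0 by ring, pow_add, pow_mul, z3', one_pow, one_mul, pow_zero zt, mul_one]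
  simp only [List.mem_cons, List.not_mem_nil, or_false] at hi
  rcases hi with rfl | rfl | rfl
  exacts [fin 2 (nfix_elw nf0 :), fin 1 (nfix_elw nf1 :), fin 1 (nfix_elw nf2 :)]

theorem rc_conj {w g s s' : Fi23} (hw : w ∈ Q) (h : Rc zt w g) (e : g * s * g⁻¹ = s') (hs : Commute zt s') :
    g * (w * s * w⁻¹) * g⁻¹ = w * s' * w⁻¹ := by
  have h1 := (comm_zp hs.symm h).eq
  have h2 := (comm_zp (es.cen w hw) h).eq
  unfold Rc at h
  generalize ez : w * g * w⁻¹ * g⁻¹ = z at h1 h2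
  have h3 : g * w * g⁻¹ = w * z⁻¹ := by
    rw [eq_mul_inv_iff_mul_eq, ← mul_right_inj (g * w * g⁻¹)⁻¹, inv_mul_cancel_left, ← mul_right_inj w, h2, ← ez]
    group
  calc g * (w * s * w⁻¹) * g⁻¹ = g * w * g⁻¹ * (g * s * g⁻¹) * (g * w * g⁻¹)⁻¹ := by group
    _ = w * (z⁻¹ * (s' * z)) * w⁻¹ := by rw [h3, e]; group
    _ = _ := by rw [h1]; group

theorem cyc {g w : Fi23} {p q r : ℕ} (hp : p < 31671) (h1 : rho g p = q) (h2 : rho g q = r)
    (h : w * T p * w⁻¹ = T p ∨ w * T p * w⁻¹ = T q ∨ w * T p * w⁻¹ = T r) :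
    ∃ i ∈ [0, 1, 2], Commute ((g ^ i)⁻¹ * w) (T p) := by
  have key : ∀ i : ℕ, w * T p * w⁻¹ = T (rho (g ^ i) p) → Commute ((g ^ i)⁻¹ * w) (T p) := fun i e =>
    commute_of_conj_eq (by
      rw [T_act _ hp] at e
      rw [show (g ^ i)⁻¹ * w * T p * ((g ^ i)⁻¹ * w)⁻¹ = (g ^ i)⁻¹ * (w * T p * w⁻¹) * g ^ i by group, e]
      group)
  rcases h with h | h | h
  · exact ⟨0, by simp, key 0 (by rw [h, pow_zero, map_one]; rfl)⟩
  · exact ⟨1, by simp, key 1 (by rw [h, pow_one, h1])⟩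
  · exact ⟨2, by simp, key 2 (by rw [h, pow_two, map_mul, Equiv.Perm.mul_apply, h1, h2])⟩

theorem six {w : Fi23} (hw : w ∈ Q) (ha : Rc zt w (elw wal)) {i : Fin 4} {r : List Lt} {x : Lt} {l : List ℕ}
    (h : Nat.beq (patM wz [(r, x, false), (rp, .a, false), (rq, .a, false), ([], .z, false), ([], .j, false)])
      (mor l) = true) {j : Fin 4} (hj : elw (cw r x) = ss j) (h1 : j ≠ i) (h2 : 2 ≠ i) (h3 : 3 ≠ i) :
    ∃ q ∈ l, w * ss i * w⁻¹ = T q ∧ ∀ k, k ≠ i → q ≠ sp k := by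
  have hd := Q_Kl hw (setup.self_Kl i)
  have hc : Commute (w * ss i * w⁻¹) (elw wal) := (commute_of_conj_eq (rc_conj hw ha (al_ss i) (sX i).2)).symm
  have hzj : el .z ≠ el .j := fun e => absurd (T_inj (pt_lt .z) (pt_lt .j) (by rw [T_pt, T_pt, e])) (by decide)
  have e1 : elw wal = el .z * el .j := uu_eq
  have hz := commute_of_commute_mul tt hd.1.1 (H837.Base23.isConj_el .z) (H837.Base23.isConj_el .j) hzj (e1 ▸ hc)
  have hj' : Commute (w * ss i * w⁻¹) (el .j) := by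
    have h4 := hz.inv_right.mul_right (e1 ▸ hc)
    rwa [inv_mul_cancel_left] at h4
  have hk : ∀ k, k ≠ i → Commute (ss k) (w * ss i * w⁻¹) := fun k hk =>
    Kl_commute (setup.s_mem_nb hk) (setup.self_Kl k) hd
  obtain ⟨q, hq, -, e⟩ := use_patM h (d := w * ss i * w⁻¹) hd.1.1 hd.1.2 (by
    intro c hc
    simp only [List.mem_cons, List.not_mem_nil, or_false] at hc
    rcases hc with rfl | rfl | rfl | rfl | rfl <;> simp only [Bool.false_eq_true, iff_false, not_not]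
    · rw [hj]
      exact hk j h1
    · exact hk 2 h2
    · exact hk 3 h3
    · rw [cw_nil, elw_one]
      exact hz.symm
    · rw [cw_nil, elw_one]
      exact hj'.symm)
  refine ⟨q, hq, e, fun k hk e1 => setup.notMem_Kl hk.symm ?_⟩
  rwa [e, e1, T_sp] at hd

/-- the fixed points of the base group on `Q / ⟨ζ⟩` -/
theorem line {w : Fi23} (hw : w ∈ Q) (ha : Rc zt w (elw wal)) (hu : Rc zt w (elw wu)) (hb : Rc zt w (elw wbe)) :
    ∃ j ∈ [0, 1, 2], (elw wX ^ j)⁻¹ * w ∈ zpowers zt := by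
  have rc : ∀ {a v g : Fi23} (i : ℕ), a ∈ Q → Commute g a → Rc zt v g → Rc zt ((a ^ i)⁻¹ * v) g := fun i h1 h2 h3 =>
    (Setup.Rc_of_comm (h2.symm.pow_left i).inv_left).mul_left (es.cen _ (inv_mem (pow_mem h1 i))) h3
  obtain ⟨i, hi, h0⟩ : ∃ i ∈ [0, 1, 2], Commute ((elw wx ^ i)⁻¹ * w) (T 11589) := by
    obtain ⟨q, hq, e, hn⟩ := six hw ha (i := 0) p0 (j := 1) rfl (by decide) (by decide) (by decide)
    refine cyc (by norm_num) (ptv (q := 2322) (by simp)) (ptv (q := 1698) (by simp)) ?_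
    rw [show T 11589 = ss 0 from T_sp 0, e, ← T_sp 0]
    simp only [List.mem_cons, List.not_mem_nil, or_false] at hq
    rcases hq with rfl | rfl | rfl | rfl | rfl | rfl
    exacts [Or.inr (Or.inr rfl), Or.inr (Or.inl rfl), absurd rfl (hn 2 (by decide)), absurd rfl (hn 3 (by decide)),
      absurd rfl (hn 1 (by decide)), Or.inl rfl]
  have hw1 := mul_mem (inv_mem (pow_mem x_mem i)) hw
  obtain ⟨j, hj, h1⟩ : ∃ j ∈ [0, 1, 2], Commute ((elw wX ^ j)⁻¹ * ((elw wx ^ i)⁻¹ * w)) (T 8003) := by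
    obtain ⟨q, hq, e, hn⟩ := six hw1 (rc i x_mem (comw x_al) ha) (i := 1) p1 (j := 0) rfl (by decide) (by decide)
      (by decide)
    refine cyc (by norm_num) (ptv (q := 707) (by simp)) (ptv (q := 494) (by simp)) ?_
    rw [show T 8003 = ss 1 from T_sp 1, e, ← T_sp 1]
    simp only [List.mem_cons, List.not_mem_nil, or_false] at hq
    rcases hq with rfl | rfl | rfl | rfl | rfl | rfl
    exacts [Or.inr (Or.inr rfl), Or.inr (Or.inl rfl), absurd rfl (hn 2 (by decide)), absurd rfl (hn 3 (by decide)),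
      Or.inl rfl, absurd rfl (hn 0 (by decide))]
  have hw2 := mul_mem (inv_mem (pow_mem X_mem j)) hw1
  have hu2 := rc j X_mem (comw X_u) (rc i x_mem (comw x_u) hu)
  have h2 : Commute ((elw wX ^ j)⁻¹ * ((elw wx ^ i)⁻¹ * w)) (T 11589) :=
    ((commute_of_fix (by norm_num) (ptv (w := wX) (by simp))).pow_left j).inv_left.mul_left h0
  rw [show T 8003 = ss 1 from T_sp 1] at h1
  rw [show T 11589 = ss 0 from T_sp 0] at h2
  have step : ∀ {k l : Fin 4}, elw wu * ss k * (elw wu)⁻¹ = ss l → Commute ((elw wX ^ j)⁻¹ * ((elw wx ^ i)⁻¹ * w)) (ss k) →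
      Commute ((elw wX ^ j)⁻¹ * ((elw wx ^ i)⁻¹ * w)) (ss l) := fun {k l} e h => commute_of_conj_eq (by
    rw [← rc_conj hw2 hu2 e (sX l).2, conj_of_comm h, e])
  have h3 := step u_ss.2.1 h1
  have hZ := mem_Z hw2 fun k => by
    fin_cases k
    exacts [h2, h1, h3, step u_ss.2.2.1 h3]
  have hx : ¬ Rc zt (elw wx) (elw wbe) := fun h => by
    have e1 : elw wbe * T 6526 * (elw wbe)⁻¹ = T 8003 := by rw [← T_act _ (by norm_num), ptv (q := 8003) (by simp)]
    have e2 := rc_conj x_mem h e1 (by rw [show T 8003 = ss 1 from T_sp 1]; exact (sX 1).2)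
    rw [← T_act _ (by norm_num), ← T_act (elw wx) (by norm_num), ptv (w := wx) (p := 6526) (q := 993) (by simp),
      ptv (w := wx) (p := 8003) (q := 8003) (by simp), ← e1] at e2
    exact absurd (T_inj (by norm_num) (by norm_num) (mul_left_cancel (mul_right_cancel e2))) (by norm_num)
  have hxi : Rc zt (elw wx ^ i) (elw wbe) := by
    have h4 := (hb.mul_left (es.cen _ hw) (Setup.Rc_of_comm (comm_zp be_zt hZ).symm.inv_left)).mul_left
      (es.cen _ (mul_mem hw (inv_mem hw2))) (Setup.Rc_of_comm ((comw X_be).symm.pow_left j).inv_left)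
    rwa [show w * ((elw wX ^ j)⁻¹ * ((elw wx ^ i)⁻¹ * w))⁻¹ * (elw wX ^ j)⁻¹ = elw wx ^ i by group] at h4
  simp only [List.mem_cons, List.not_mem_nil, or_false] at hi
  rcases hi with rfl | rfl | rfl
  · exact ⟨j, hj, by rwa [pow_zero, inv_one, one_mul] at hZ⟩
  · exact absurd (by rwa [pow_one] at hxi) hx
  · have h4 := hxi.mul_left (es.cen _ (pow_mem x_mem 2)) hxi
    rw [← pow_add, show 2 + 2 = 3 + 1 from rfl, pow_succ, setup.Q_cube x_mem, one_mul] at h4
    exact absurd h4 hx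

end Cfsg.Agent.SB.SporD.Fi.TD
end

-- part: SB/SporD/Fi/TL
section
prune_inst 0x4c0106c04180010000000000420003c42d6000192006b8801514009460486bd4100028720f0803a1201082a2c003a0028118c00c94050000000000600411c00a080aa70c2a208a00404000780e807100000000000000000000000000000041000000000000
set_option linter.all false
open scoped Cfsg.Agent.FastGrp

/-!
# S5765, the row `Fi23`, the prime 3: `A` lies in a subgroup `PΩ₈⁺(3)` (helper93)
-/

set_option autoImplicit false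
set_option maxRecDepth 100000

namespace Cfsg.Agent.SB.SporD.Fi.TD

open Subgroup Cfsg
open Cfsg.Agent.Lib.PermNet Cfsg.Agent.Lib.PermNetOrbit Cfsg.Agent.LThreeFi23 Cfsg.Agent.Fischer.Fi23Hom
open Cfsg.Agent.H826.M23 Cfsg.Agent.H826.M23.Data Cfsg.Agent.H826.M23.Inst
open Cfsg.Agent.H832.TriD (Asrt)
open Cfsg.Agent.H840.M499 (PO card_PO)
open Cfsg.Agent.SB.F24.Geo (conj_comm conj_of_comm mem_cen)
open Cfsg.Spor (Fi23)

theorem exists_sub {G : Type*} [Group G] [Finite G] {K : Subgroup G} {n : ℕ} (h : 3 ^ n ∣ Nat.card K) :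
    ∃ E : Subgroup G, E ≤ K ∧ Nat.card E = 3 ^ n := by
  have := fact3
  obtain ⟨E, hE⟩ := Sylow.exists_subgroup_card_pow_prime 3 h
  exact ⟨E.map K.subtype, map_subtype_le _, (card_map_of_injective K.subtype_injective).trans hE⟩

theorem exists_L : ∃ L : Subgroup Fi23, P ≤ L ∧ Asrt DD L := by
  have := fact3
  obtain ⟨L, hL⟩ := H832.TriD.main (G := Fi23) (D := DD) ⟨H830.Con23.fgroup.cls.1, tt.conj, H830.Con23.fgroup.cls.2.2⟩
    (H830.PrimF.isPrimitiveUnderConj H830.Con23.fgroup) H830.Con23.isOfTypeM23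
  obtain ⟨E, h1, h2⟩ := exists_sub (K := L) (n := 13) (by
    obtain ⟨-, ⟨e1⟩, ⟨_, ⟨e2⟩⟩, -⟩ := hL
    rw [card_eq_card_quotient_mul_card_subgroup (generalizedFittingSubgroup L), Nat.card_congr e1.toEquiv,
      Nat.card_congr e2.toEquiv, card_PO, Nat.card_perm, Nat.card_fin]
    norm_num [Nat.factorial])
  obtain ⟨g, -, hg⟩ := conj_into le_top (IsPGroup.of_card h2) h2.ge (not_dvd ⊤) le_top pg_P
  refine ⟨L.map (MulAut.conj g⁻¹).toMonoidHom, fun p hp => ⟨_, h1 (hg p hp), ?_⟩,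
    hL.map (MulAut.conj g⁻¹) fun x => ⟨fun h => ?_, tt.conj g⁻¹ x⟩⟩
  · show g⁻¹ * (g * p * g⁻¹) * g⁻¹⁻¹ = p
    group
  · have h3 := tt.conj g _ h
    rwa [MulAut.conj_apply, show g * (g⁻¹ * x * g⁻¹⁻¹) * g⁻¹ = x by group] at h3

theorem orb_mem {K : Subgroup Fi23} {ws : List (List Lt)} (h : ∀ w ∈ ws, elw w ∈ K) {b r q : ℕ}
    (hq : (orbM ws b r).testBit q = true) : ∃ g ∈ K, rho g b = q := by
  obtain ⟨k, ⟨g, hg, rfl⟩, hk⟩ := sat_point_spec (K := K.map rho) (ntws_ok _)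
    (fun u hu => by
      obtain ⟨v, hv, rfl⟩ := mem_ntws hu
      exact ⟨elw v, h v hv, rho_elw v⟩) r hq
  exact ⟨g, hg, hk⟩

theorem Q_le_P : Q ≤ P := Q_le_A.trans A_le_P

theorem orb2_mem {q : ℕ} (hq : O2.testBit q = true) : ∃ g ∈ P, rho g 8003 = q := by
  refine orb_mem (fun w hw => ?_) hq
  simp only [List.mem_cons, List.not_mem_nil, or_false] at hw
  rcases hw with rfl | rfl | rfl | rfl | rfl
  exacts [Q_le_P (cj_mem (comm_letters (by decide)) x_mem), Q_le_P (cj_mem (comm_letters (by decide)) y_mem),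
    A_le_P u_mem, A_le_P be_mem, ta_mem]

/-- the transpositions with a large centralizer in `P` -/
theorem conj_a {s : Fi23} (hs : s ∈ DD) (h : 3 ^ 9 ≤ Nat.card ↥(P ⊓ centralizer {s})) :
    ∃ p ∈ P, p * ss 0 * p⁻¹ = s := by
  have hz : zt ∈ P ⊓ centralizer {s} := by
    by_contra hz
    exact absurd (small inf_le_left hz) (not_lt.2 h)
  obtain ⟨q, hq, rfl⟩ := H837.Base23.exists_T hs
  have h1 : (pattern [(wz, false)]).testBit q = true := by
    rw [testBit_pattern, pat_cons]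
    refine ⟨hq, ?_, by intro c hc; exact absurd hc (by simp)⟩
    simp only [Bool.false_eq_true, iff_false, not_not]
    exact (fix_iff _ hq).2 (mem_cen.1 hz.2).eq
  rw [← Nat.eq_of_beq_eq_true orb, Nat.lor_eq, Nat.testBit_or, Bool.or_eq_true] at h1
  rcases h1 with h1 | h1
  · obtain ⟨g, hg, e⟩ := orb_mem (K := P) (fun w hw => by
      simp only [List.mem_cons, List.not_mem_nil, or_false] at hw
      rcases hw with rfl | rfl | rfl | rfl
      exacts [Q_le_P x_mem, Q_le_P y_mem, A_le_P be_mem, ta_mem]) h1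
    exact ⟨g, hg, by rw [← e, T_act _ (by norm_num), show T 11589 = ss 0 from T_sp 0]⟩
  exfalso
  obtain ⟨g0, hg0, e0⟩ := orb2_mem h1
  have h2 : ∀ r : ↥((Finset.range (2 ^ 15)).filter fun p => O2.testBit p = true), ∃ g ∈ P, rho g q = r := fun r => by
    obtain ⟨g, hg, e⟩ := orb2_mem (Finset.mem_filter.1 r.2).2
    refine ⟨g * g0⁻¹, mul_mem hg (inv_mem hg0), ?_⟩
    rw [← e0, ← Equiv.Perm.mul_apply, ← map_mul, inv_mul_cancel_right, e]
  choose f hf hf' using h2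
  have h3 := Nat.card_le_card_of_injective
    (fun x : ↥((Finset.range (2 ^ 15)).filter fun p => O2.testBit p = true) × ↥(P ⊓ centralizer {T q}) =>
      (⟨f x.1 * x.2, mul_mem (hf x.1) x.2.2.1⟩ : P)) (by
    rintro ⟨r, x⟩ ⟨r', x'⟩ e
    have e1 : f r * x = f r' * x' := congrArg Subtype.val e
    have key : ∀ r (x : ↥(P ⊓ centralizer {T q})), rho (f r * x) q = r := fun r x => by
      rw [map_mul, Equiv.Perm.mul_apply, (fix_iff _ hq).2 (mem_cen.1 x.2.2).eq, hf']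
    have e2 : r = r' := Subtype.ext (by rw [← key r x, e1, key])
    subst e2
    rw [Subtype.ext (mul_left_cancel e1 : (x : Fi23) = x')])
  rw [Nat.card_prod, Nat.card_eq_fintype_card, Fintype.card_coe, Lib.PermNetPat.card_filter_testBit, Nat.eq_of_beq_eq_true orb2,
    card_P] at h3
  omega

theorem perm3 : ∀ σ π : Equiv.Perm (Fin 3), σ * σ = 1 → σ ≠ 1 → σ * π = π * σ → π * π = 1 := by decide

theorem exists_emb : ∃ ι : PO →* Fi23, Function.Injective ι ∧ A ≤ ι.range := by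
  have := fact3
  obtain ⟨L, hP, hD, ⟨e1⟩, ⟨_, ⟨e2⟩⟩, hC⟩ := exists_L
  let φ : L →* Equiv.Perm (Fin 3) := e2.toMonoidHom.comp (QuotientGroup.mk' _)
  have hφ : ∀ g : L, φ g = 1 ↔ g ∈ generalizedFittingSubgroup L := fun g =>
    (map_eq_one_iff e2 e2.injective).trans (QuotientGroup.eq_one_iff g)
  let K : Subgroup Fi23 := (generalizedFittingSubgroup L).map L.subtype
  have hK : ∀ g : L, (g : Fi23) ∈ K ↔ φ g = 1 := fun g => (mem_map_iff_mem L.subtype_injective).trans (hφ g).symm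
  have hKn : ∀ g ∈ L, ∀ k ∈ K, g * k * g⁻¹ ∈ K := by
    rintro g hg _ ⟨k, hk, rfl⟩
    exact ⟨_, Normal.conj_mem inferInstance k hk ⟨g, hg⟩, rfl⟩
  have hKn' : ∀ g ∈ L, ∀ k, g * k * g⁻¹ ∈ K → k ∈ K := fun g hg k hk => by
    have h1 := hKn g⁻¹ (inv_mem hg) _ hk
    rwa [show g⁻¹ * (g * k * g⁻¹) * g⁻¹⁻¹ = k by group] at h1
  refine ⟨L.subtype.comp ((generalizedFittingSubgroup L).subtype.comp e1.symm.toMonoidHom),
    L.subtype_injective.comp ((generalizedFittingSubgroup L).subtype_injective.comp e1.symm.injective),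
    le_trans ?_ (show K ≤ _ from ?_)⟩
  swap
  · rintro _ ⟨k, hk, rfl⟩
    exact ⟨e1 ⟨k, hk⟩, by simp⟩
  obtain ⟨d, hd, hdL, hdK⟩ : ∃ d ∈ DD, d ∈ L ∧ d ∉ K := by
    by_contra h
    push Not at h
    have h1 : L ≤ K := by
      rw [← hD]
      exact (closure_le _).2 fun d hd => h d hd.1 hd.2
    obtain ⟨g, hg⟩ := (e2.surjective.comp (QuotientGroup.mk'_surjective _)) (Equiv.swap 0 1)
    have h2 : φ g = Equiv.swap 0 1 := hg
    rw [(hK g).1 (h1 g.2)] at h2
    exact absurd h2 (by decide)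
  obtain ⟨e3⟩ := hC d hd hdL
  obtain ⟨E, h1, h2⟩ := exists_sub (K := L ⊓ centralizer {d}) (n := 9) (by
    rw [Nat.card_congr e3.toEquiv, Nat.card_prod, Fischer.Y322Iso.card_POmega]
    exact Dvd.dvd.mul_left (by norm_num) _)
  obtain ⟨g, hg, h3⟩ := conj_P hP (h1.trans inf_le_left) (IsPGroup.of_card h2)
  obtain ⟨p, hp, e⟩ := conj_a (tt.conj g d hd) (by
    rw [← h2, ← card_map_of_injective (K := E) (f := (MulAut.conj g).toMonoidHom) (MulAut.conj g).injective]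
    refine card_le_of_le ?_
    rintro _ ⟨x, hx, rfl⟩
    exact ⟨h3 x hx, mem_cen.2 (conj_comm (mem_cen.1 (h1 hx).2) g)⟩)
  have aL : ss 0 ∈ L := by
    have h4 := mul_mem (mul_mem (inv_mem (hP hp)) (mul_mem (mul_mem hg hdL) (inv_mem hg))) (hP hp)
    rwa [← e, show p⁻¹ * (p * ss 0 * p⁻¹) * p = ss 0 by group] at h4
  have aK : ss 0 ∉ K := fun h => hdK (hKn' g hg d (e ▸ hKn p (hP hp) _ h))
  have kill : ∀ t ∈ L, t ∉ K → t * t = 1 → ∀ v ∈ P, Commute v t → v ∈ K := fun t ht htK h2 v hv hc => by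
    obtain ⟨k, hk⟩ := pg_P ⟨v, hv⟩
    obtain ⟨m, hm⟩ : Odd (3 ^ k) := Odd.pow (by decide)
    have h4 : φ ⟨v, hP hv⟩ ^ 3 ^ k = 1 := by
      rw [← map_pow, show (⟨v, hP hv⟩ : L) ^ 3 ^ k = 1 from Subtype.ext (show v ^ 3 ^ k = 1 from congrArg Subtype.val hk),
        map_one]
    have h5 := perm3 (φ ⟨t, ht⟩) (φ ⟨v, hP hv⟩)
      (by rw [← map_mul, show (⟨t, ht⟩ : L) * ⟨t, ht⟩ = 1 from Subtype.ext h2, map_one])
      (fun h => htK ((hK ⟨t, ht⟩).2 h))
      (by rw [← map_mul, ← map_mul, show (⟨t, ht⟩ : L) * ⟨v, hP hv⟩ = ⟨v, hP hv⟩ * ⟨t, ht⟩ from Subtype.ext hc.symm.eq])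
    rw [hm, pow_succ, pow_mul, pow_two, h5, one_pow, one_mul] at h4
    exact (hK ⟨v, hP hv⟩).2 h4
  have ka := kill _ aL aK (setup.ssq 0)
  have eb : elw wbe * ss 0 * (elw wbe)⁻¹ = T 8004 := by
    rw [← T_sp 0, ← T_act _ (sp_lt 0)]
    exact congrArg T (ptv (by simp [sp]))
  have hbL := hP (A_le_P be_mem)
  have kb := kill (T 8004) (eb ▸ mul_mem (mul_mem hbL aL) (inv_mem hbL)) (fun h => aK (hKn' _ hbL _ (eb ▸ h)))
    (T_sq (by norm_num))
  have hQ : Q ≤ K := fun q hq => by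
    have h4 := Q_Kl hq (setup.self_Kl 0)
    obtain ⟨r, hr, e4⟩ := P12_sub (setup.union_subset (Or.inl h4))
    have h5 : ∀ i, i ≠ 0 → r ≠ sp i := fun i hi e5 => setup.notMem_Kl hi.symm (by rwa [← e4, e5, T_sp] at h4)
    have h6 : (orbM [cj [.c, .b] wx, cj [.c, .b] wy] 11589 2).testBit r = true := by
      rw [Nat.eq_of_beq_eq_true orb0, testBit_mor]
      have h7 := h5 1 (by decide)
      have h8 := h5 2 (by decide)
      have h9 := h5 3 (by decide)
      simp only [sp, Matrix.cons_val_one, Matrix.cons_val_zero, Matrix.cons_val] at h7 h8 h9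
      simp only [Finset.mem_coe, List.mem_toFinset, List.mem_cons, List.not_mem_nil, or_false] at hr ⊢
      omega
    obtain ⟨k, hk, e5⟩ := orb_mem (K := K ⊓ Q) (fun w hw => by
      simp only [List.mem_cons, List.not_mem_nil, or_false] at hw
      rcases hw with rfl | rfl
      · have h7 := cj_mem (g := [.c, .b]) (comm_letters (by decide)) x_mem
        exact ⟨kb _ (Q_le_P h7) (commute_of_fix (by norm_num) (ptv (by simp))), h7⟩
      · have h7 := cj_mem (g := [.c, .b]) (comm_letters (by decide)) y_mem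
        exact ⟨kb _ (Q_le_P h7) (commute_of_fix (by norm_num) (ptv (by simp))), h7⟩) h6
    refine (K.mul_mem_cancel_left (inv_mem hk.1)).1 (ka _ (Q_le_P (mul_mem (inv_mem hk.2) hq)) (commute_of_conj_eq ?_))
    rw [show k⁻¹ * q * ss 0 * (k⁻¹ * q)⁻¹ = k⁻¹ * (q * ss 0 * q⁻¹) * k by group, ← e4, ← e5, T_act _ (by norm_num),
      show T 11589 = ss 0 from T_sp 0]
    group
  have k0 := ka _ (A_le_P al_mem) (commute_of_conj_eq (al_ss 0))
  have k1 := hKn _ (hP ta_mem) _ k0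
  refine ext.Pre_le hQ fun x hx => ?_
  rw [ext.e_apply, show x.l = 0 from hx]
  exact mul_mem (mul_mem (mul_mem (pow_mem k0 _) (pow_mem k1 _)) (pow_mem (hKn _ (hP ta_mem) _ k1) _)) (one_mem _)

theorem Good.reg (hO : BoxOpp) {F : Subgroup Fi23} (hF : IsPGroup 3 F) (h : Good F) : Reg F := by
  obtain ⟨ι, h1, h2⟩ := exists_emb
  obtain ⟨g, hg⟩ := h
  obtain ⟨y, hy⟩ := reg_of_opp ι h1 hO.2 hF fun f hf => h2 (hg f hf)
  exact ⟨_, hy⟩

end Cfsg.Agent.SB.SporD.Fi.TD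

private theorem dce_13e740d5800e : _root_.True := by
  try have : _root_.True := by simp only [_root_.Cfsg.Agent.H826.M23.Inst.sp.eq_1]
  exact _root_.True.intro
end

-- part: SB/SporD/Fi/Three
section
prune_inst 0x4d0002f045c0010000000000420003c42f6000192006b880151000d4604cebd4180428720f0a03e1211082a2c203a8068109c00c94050000020008600411800a084aa70c22200b004050007c0e807180c00000000000000000000000000041000000000000
set_option linter.all false
open scoped Cfsg.Agent.FastGrp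

/-!
# S5765, the row `Fi23`, the prime 3 (helper93)

`boxThree23_of : BoxOpp → BoxThree23`.
-/

set_option autoImplicit false
set_option maxRecDepth 100000

namespace Cfsg.Agent.SB.SporD.Fi.TD

open Subgroup Cfsg
open Cfsg.Agent.Lib.PermNet Cfsg.Agent.Lib.PermNetOrbit Cfsg.Agent.LThreeFi23 Cfsg.Agent.Fischer.Fi23Hom
open Cfsg.Agent.H826.M23 Cfsg.Agent.H826.M23.Data Cfsg.Agent.H826.M23.Inst
open Cfsg.Agent.SB.F24.Geo (zp mem_of_zp conj_comm comm_of_eq_one conj_of_comm mem_cen closure_comm conj_closure le_norm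
  solv_mono)
open Cfsg.Spor (Fi23)

theorem ncomm : ¬ IsMulCommutative Fi23 := fun h => knc (h.is_comm.comm _ _)

theorem as23 : AS (⊤ : Subgroup Fi23) :=
  have := nsimple
  Mon.as_top ncomm

/-- two collinear points span a standard line -/
theorem std_line {w s : Fi23} (hw : w ∈ Q) (hn : w ∉ zpowers zt) (e : s * zt * s⁻¹ = w) (hz : s⁻¹ * zt * s ∈ Q) :
    ∃ g, Commute g zt ∧ ∀ d, Commute zt d → (Commute (g * w * g⁻¹) d ↔ Commute (elw wX) d) := by
  have H := es.conj s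
  rw [e] at H
  have hz' : zt ∈ Q.map (MulAut.conj s).toMonoidHom := ⟨_, hz, by show s * (s⁻¹ * zt * s) * s⁻¹ = zt; group⟩
  have hc : Nat.card (Q.map (MulAut.conj s).toMonoidHom) = 3 ^ 9 :=
    (card_map_of_injective (MulAut.conj s).injective).trans card_Q
  have hp : IsPGroup 3 (Q.map (MulAut.conj s).toMonoidHom) := IsPGroup.of_card hc
  generalize Q.map (MulAut.conj s).toMonoidHom = R at H hz' hc hp
  have h1 := H.card_cent (A := R) fun a ha => H.com a ha zt hz'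
  obtain ⟨g, hg, hD⟩ := conj_P P_le (F := R ⊓ centralizer {zt}) inf_le_right (hp.to_le inf_le_left)
  have hg := mem_cen.1 hg
  have hw' := Q_cj hg hw
  have hn' : g * w * g⁻¹ ∉ zpowers zt := fun h => hn (by
    have h2 := conj_of_comm (comm_zp hg.inv_left h)
    rwa [← h2, show g⁻¹ * (g * w * g⁻¹) * g⁻¹⁻¹ = w by group] at h)
  have H' := H.conj g
  have hle : (R ⊓ centralizer {zt}).map (MulAut.conj g).toMonoidHom ≤ R.map (MulAut.conj g).toMonoidHom :=
    map_mono inf_le_left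
  have hDP : (R ⊓ centralizer {zt}).map (MulAut.conj g).toMonoidHom ≤ P := by
    rintro _ ⟨x, hx, rfl⟩
    exact hD x hx
  have h2 : 3 ^ 8 ≤ Nat.card ((R ⊓ centralizer {zt}).map (MulAut.conj g).toMonoidHom) := by
    rw [card_map_of_injective (MulAut.conj g).injective]
    omega
  generalize (R ⊓ centralizer {zt}).map (MulAut.conj g).toMonoidHom = D at hle hDP h2
  refine ⟨g, hg, ?_⟩
  generalize g * w * g⁻¹ = v at hw' hn' H'
  have h3 := card_ab (D := D ⊓ Q) inf_le_right fun x hx y hy => comm_of_eq_one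
    (inf_zp H'.cube hn' (es.com x hx.2 y hy.2) (H'.com x (hle hx.1) y (hle hy.1)))
  have key : ∀ {a : Fi23} {x : W}, x ∈ W.A → ext.Rel a x → Rc zt v a := fun {a x} hx ha => by
    obtain ⟨d, hd, h4⟩ := ext.abel hDP (fun a ha b hb => zpowers_le.2 hw' (H'.com a (hle ha) b (hle hb))) (by omega) hx
    have h5 := ha.mul h4.inv
    rw [mul_inv_cancel, ext.rel_one] at h5
    have h6 := Rc.mul_left (es.cen _ h5) (es.com _ h5 _ hw') (Setup.Rc_of_comm (H'.cen d (hle hd)))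
    rw [inv_mul_cancel_right] at h6
    exact h6.symm
  obtain ⟨x, hx, hx'⟩ := u_mem
  obtain ⟨j, hj, h4⟩ := line hw' (key rfl rel_al) (key hx hx') (key rfl rel_be)
  intro d hd
  have h5 := (comm_zp hd.symm h4).symm
  have h6 : Commute v d ↔ Commute (elw wX ^ j) d := ⟨fun h => by
    have h7 := h.mul_left h5.inv_left
    rwa [show v * ((elw wX ^ j)⁻¹ * v)⁻¹ = elw wX ^ j by group] at h7, fun h => by
    have h7 := h.mul_left h5
    rwa [mul_inv_cancel_left] at h7⟩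
  rw [h6]
  simp only [List.mem_cons, List.not_mem_nil, or_false] at hj
  rcases hj with rfl | rfl | rfl
  · exact absurd (by rwa [pow_zero, inv_one, one_mul] at h4) hn'
  · rw [pow_one]
  · refine ⟨fun h => ?_, fun h => h.pow_left 2⟩
    have h7 := h.pow_left 2
    rwa [← pow_mul, show 2 * 2 = 3 + 1 from rfl, pow_succ, setup.Q_cube X_mem, one_mul] at h7

/-- the transpositions which commute with the standard line -/
def E0 : Set Fi23 := {d | d ∈ DD ∧ Commute zt d ∧ Commute (elw wX) d}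

theorem T_mem_E0 {p : ℕ} (hp : p < 31671) : T p ∈ E0 ↔ (pattern [(wz, false), (wX, false)]).testBit p = true := by
  rw [testBit_pattern, pat_cons, pat_cons]
  simp only [Bool.false_eq_true, iff_false, not_not, fix_iff _ hp]
  exact ⟨fun h => ⟨hp, h.2.1, h.2.2, fun c hc => absurd hc (by simp)⟩,
    fun h => ⟨H837.Base23.isConj_T hp, h.2.1, h.2.2.1⟩⟩

theorem pres {w : List Lt} (hw : w ∈ [w8, w3]) (d : Fi23) : d ∈ E0 ↔ elw w * d * (elw w)⁻¹ ∈ E0 := by
  have h1 : ntw w ∈ ntws [w8, w3] := by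
    simp only [List.mem_cons, List.not_mem_nil, or_false] at hw
    rcases hw with rfl | rfl
    exacts [List.mem_cons_self, List.mem_cons_of_mem _ List.mem_cons_self]
  have key : ∀ p < 31671, T p ∈ E0 ↔ elw w * T p * (elw w)⁻¹ ∈ E0 := fun p hp => by
    rw [← T_act _ hp, T_mem_E0 hp, T_mem_E0 (act_lt _ hp), rho_elw, closedB_spec (ntws_ok _) plane _ h1]
  refine ⟨fun h => ?_, fun h => ?_⟩
  · obtain ⟨p, hp, rfl⟩ := H837.Base23.exists_T h.1
    exact (key p hp).1 h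
  · have h2 := tt.conj (elw w)⁻¹ _ h.1
    rw [show (elw w)⁻¹ * (elw w * d * (elw w)⁻¹) * (elw w)⁻¹⁻¹ = d by group] at h2
    obtain ⟨p, hp, rfl⟩ := H837.Base23.exists_T h2
    exact (key p hp).2 h

theorem not_solv {S : Subgroup Fi23} (hS : Group.IsSolvable S) (hm : MaxInv ⊤ S) {E : Set Fi23} {g : Fi23}
    (hE : ∀ d, d ∈ E ↔ g * d * g⁻¹ ∈ E0) (h : S ≤ normalizer E) : False := by
  rcases hm (normalizer E) (inf_le_left.trans h) le_top
    (fun s hs y hy => mul_mem (mul_mem (h hs) hy) (inv_mem (h hs))) with h1 | h1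
  · have h2 : g⁻¹ * elw v1 * g ∈ normalizer E := h1 ▸ mem_top _
    have h3 := (mem_set_normalizer_iff.1 h2 (g⁻¹ * T 11589 * g)).1 ((hE _).2 (by
      rw [show g * (g⁻¹ * T 11589 * g) * g⁻¹ = T 11589 by group]
      exact ⟨H837.Base23.isConj_T (by norm_num), (T_sp 0 ▸ (sX 0).2 :), commute_of_fix (by norm_num) (ptv (by simp))⟩))
    rw [hE, show g * (g⁻¹ * elw v1 * g * (g⁻¹ * T 11589 * g) * (g⁻¹ * elw v1 * g)⁻¹) * g⁻¹ =
      elw v1 * T 11589 * (elw v1)⁻¹ by group, ← T_act _ (by norm_num), (im4_spec im_1).1] at h3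
    have h4 := (fix_iff _ (by norm_num)).2 h3.2.2.eq
    rw [ptv (q := 707) (by simp)] at h4
    omega
  · have key : ∀ w ∈ [w8, w3], g⁻¹ * elw w * g⁻¹⁻¹ ∈ S := fun w hw => h1 (mem_set_normalizer_iff.2 fun d => by
      rw [hE, hE, pres hw, show g * (g⁻¹ * elw w * g⁻¹⁻¹ * d * (g⁻¹ * elw w * g⁻¹⁻¹)⁻¹) * g⁻¹ =
        elw w * (g * d * g⁻¹) * (elw w)⁻¹ by group])
    have h2 := Spor.eq_one_of_coprime hS (key w8 (by simp)) (key w3 (by simp)) (a := 8) (b := 3) (c := 13)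
      (by rw [_root_.conj_pow, poww o8, mul_one, mul_inv_cancel]) (by rw [_root_.conj_pow, poww o3, mul_one, mul_inv_cancel])
      (by rw [conj_mul, ← elw_append, _root_.conj_pow, poww o13, mul_one, mul_inv_cancel]) rfl rfl rfl
    have h3 := ptv (w := w8) (p := 0) (q := 820) (by simp)
    rw [conj_eq_one_iff.1 h2, map_one] at h3
    exact absurd h3 (by decide)

theorem good_of_le {F : Subgroup Fi23} (h : F ≤ A) : Good F := ⟨1, fun f hf => by
  rw [one_mul, inv_one, mul_one]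
  exact h hf⟩

theorem main {S : Subgroup Fi23} (hS : Group.IsSolvable S) (hm : MaxInv ⊤ S) (hF : IsPGroup 3 (fit S)) (hP : fit S ≤ P) :
    Good (fit S) := by
  by_cases h0 : fit S = ⊥
  · exact good_of_le (h0 ▸ bot_le)
  have hT : ∀ {Y : Subgroup Fi23}, Y ≤ S → ¬ ⊤ ≤ Y := fun h hle => as23.not_le hS (hle.trans h)
  have hc : ∀ f ∈ fit S, zt * f = f * zt := fun f hf => (mem_cen.1 (P_le (hP hf))).symm.eq
  have zS : zt ∈ S := hm.mem_of_centralizes as23 h0 (hT (map_subtype_le _)) Mon.fit_conj (mem_top _) hc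
  have zF : zt ∈ fit S := Mon.mem_fit_of_cent hS zS hc
  let I : Set Fi23 := {w | ∃ s ∈ S, s * zt * s⁻¹ = w}
  have hzI : zt ∈ I := ⟨1, one_mem _, by group⟩
  have hI : ∀ s ∈ S, ∀ w ∈ I, s * w * s⁻¹ ∈ I := by
    rintro s hs _ ⟨t, ht, rfl⟩
    exact ⟨s * t, mul_mem hs ht, by group⟩
  have hIF : ∀ w ∈ I, w ∈ fit S := by
    rintro _ ⟨s, hs, rfl⟩
    exact Mon.fit_conj s hs _ zF
  have hIc : ∀ w ∈ I, ∀ f ∈ fit S, Commute w f := by
    rintro _ ⟨s, hs, rfl⟩ f hf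
    have h1 := conj_comm (hc _ (Mon.fit_conj s⁻¹ (inv_mem hs) f hf)) s
    rwa [show s * (s⁻¹ * f * s⁻¹⁻¹) * s⁻¹ = f by group] at h1
  by_cases h1 : ∃ w ∈ I, w ∉ Q
  · obtain ⟨w, hw, hQ⟩ := h1
    have h3 : w ^ 3 = 1 := by
      obtain ⟨s, -, rfl⟩ := hw
      exact (es.conj s).cube
    have key : ∀ h : Fi23, h ^ 3 = 1 → (∀ f ∈ fit S, Commute h f) → ext.Rel h W.u → Good (fit S) := fun h h3 hh hr => by
      have h4 := hr.inv
      unfold Ext.Rel at h4
      rw [map_inv, e_u, inv_inv] at h4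
      obtain ⟨m, hm⟩ := form_u h4 (by rw [inv_pow, h3, inv_one])
      refine good_C hF ?_ hm fun f hf => ((hh f hf).inv_left.mul_left (Commute.pow_left (hc f hf) m)).symm
      rw [((hh _ zF).inv_left.pow_right m).mul_pow, inv_pow, h3, ← pow_mul, mul_comm m, pow_mul, z3', one_pow, inv_one,
        mul_one]
    rcases ext.cent hP (hIF w hw) hQ h3 (hIc w hw) with h | h | h | ⟨g, h⟩
    · exact good_of_le h
    · exact key w h3 (hIc w hw) h
    · exact key w⁻¹ (by rw [inv_pow, h3, inv_one]) (fun f hf => (hIc w hw f hf).inv_left) h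
    · exact good_B h
  push Not at h1
  have hN : ∀ {Y : Subgroup Fi23}, Y ≠ ⊥ → Y ≤ fit S → (∀ s ∈ S, ∀ y ∈ Y, s * y * s⁻¹ ∈ Y) →
      normalizer (Y : Set Fi23) ≤ S := fun hY h2 h3 t ht =>
    hm.mem_of_normalizes as23 hY (hT (h2.trans (map_subtype_le _))) h3 (mem_top t) fun x hx =>
      (mem_normalizer_iff.1 ht x).1 hx
  by_cases h2 : ∀ w ∈ I, w ∈ zpowers zt
  · have h3 : ∀ s ∈ S, ∀ y ∈ zpowers zt, s * y * s⁻¹ ∈ zpowers zt := by
      rintro s hs _ ⟨k, rfl⟩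
      show s * zt ^ k * s⁻¹ ∈ _
      rw [← conj_zpow]
      exact zpow_mem (h2 _ ⟨s, hs, rfl⟩) k
    have h4 : NN zt ≤ S := hN (zpowers_ne_bot.2 z1') (zpowers_le.2 zF) h3
    exact good_of_le ((setup.le_Q (fun f hf => mem_NN_of_commute (hc f hf).symm)
      (fun h hh => Mon.fit_conj h (h4 hh)) hF).trans Q_le_A)
  exfalso
  push Not at h2
  obtain ⟨w, hw, hn⟩ := h2
  by_cases h3 : ∀ r ∈ I, ∃ z ∈ zpowers w, r * z ∈ zpowers zt
  · obtain ⟨s, hs, e⟩ := id hw
    obtain ⟨g, hg, h4⟩ := std_line (h1 w hw) hn e (h1 _ ⟨s⁻¹, inv_mem hs, by rw [inv_inv]⟩)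
    have h5 : ∀ s ∈ S, ∀ d, d ∈ DD ∧ (∀ i ∈ I, Commute i d) → s * d * s⁻¹ ∈ DD ∧ ∀ i ∈ I, Commute i (s * d * s⁻¹) :=
      fun s hs d hd => ⟨tt.conj s d hd.1, fun i hi => by
        have h6 := conj_comm (hd.2 _ (hI s⁻¹ (inv_mem hs) i hi)) s
        rwa [show s * (s⁻¹ * i * s⁻¹⁻¹) * s⁻¹ = i by group] at h6⟩
    refine not_solv hS hm (E := {d | d ∈ DD ∧ ∀ i ∈ I, Commute i d}) (g := g) (fun d => ⟨fun hd => ?_, fun hd => ?_⟩)
      fun s hs => mem_set_normalizer_iff.2 fun d => ⟨h5 s hs d, fun hd => ?_⟩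
    · have h6 := conj_comm (hd.2 _ hzI) g
      rw [conj_of_comm hg] at h6
      exact ⟨tt.conj g d hd.1, h6, (h4 _ h6).1 (conj_comm (hd.2 _ hw) g)⟩
    · have h6 := tt.conj g⁻¹ _ hd.1
      rw [show g⁻¹ * (g * d * g⁻¹) * g⁻¹⁻¹ = d by group] at h6
      have h7 : Commute zt d := (commute_conj_iff g _ _).1 (by rw [conj_of_comm hg]; exact hd.2.1)
      have h8 : Commute w d := (commute_conj_iff g _ _).1 ((h4 _ hd.2.1).2 hd.2.2)
      refine ⟨h6, fun i hi => ?_⟩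
      obtain ⟨z, hz, h9⟩ := h3 i hi
      have h10 := (comm_zp h7.symm h9).mul_right (comm_zp h8.symm hz).inv_right
      rw [mul_inv_cancel_right] at h10
      exact h10.symm
    · have h6 := h5 s⁻¹ (inv_mem hs) _ hd
      rwa [show s⁻¹ * (s * d * s⁻¹) * s⁻¹⁻¹ = d by group] at h6
  · push Not at h3
    obtain ⟨r, hr, h3⟩ := h3
    have h4 : ∀ a, ∃ s, a ∈ I → s ∈ S ∧ s * zt * s⁻¹ = a := fun a => by
      by_cases ha : a ∈ I
      · obtain ⟨s, hs⟩ := ha
        exact ⟨s, fun _ => hs⟩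
      · exact ⟨1, fun h => absurd h ha⟩
    choose σ hσ using h4
    refine sing3 (Q := fun a => Q.map (MulAut.conj (σ a)).toMonoidHom) (fun a ha => ?_) (fun a ha b hb => ?_) hzI hw hr hn h3
      (solv_mono (hN (fun e => z1' (mem_bot.1 (e ▸ Subgroup.subset_closure hzI))) ((closure_le _).2 hIF)
        fun s hs y hy => conj_closure (fun a ha => Subgroup.subset_closure (hI s hs a ha)) hy) hS)
    · have h5 := es.conj (σ a)
      rwa [(hσ a ha).2] at h5
    · exact ⟨_, h1 _ (hI _ (inv_mem (hσ a ha).1) b hb), by show σ a * ((σ a)⁻¹ * b * (σ a)⁻¹⁻¹) * (σ a)⁻¹ = b; group⟩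

end TD

open Subgroup

/-- **the prime 3 in `Fi23`** -/
theorem boxThree23_of (hO : BoxOpp) : BoxThree23 := by
  intro S hS hm hF
  obtain ⟨g, -, hg⟩ := TD.conj_P le_top le_top hF
  have hi := (MulAut.conj g).injective
  have hP : fit (S.map (MulAut.conj g).toMonoidHom) ≤ TD.P := by
    rintro _ ⟨⟨_, w, hw, rfl⟩, hv, rfl⟩
    exact hg w ⟨⟨w, hw⟩, (mem_fitting_map _ hi ⟨w, hw⟩).1 hv, rfl⟩
  have hF' := TD.pg_P.to_le hP
  obtain ⟨x, hx⟩ := (TD.main (Group.isSolvable_of_surjective (f := (MulAut.conj g).toMonoidHom.subgroupMap S)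
    (MonoidHom.subgroupMap_surjective _ S)) (hm.conj inferInstance g) hF' hP).reg hO hF'
  refine FitReg.of_map (MulAut.conj g).toMonoidHom hi ?_
  rw [map_conj_normal' inferInstance]
  exact fitReg_iff.2 ⟨x, mem_top x, fun v hv h => hx v hv (F24.Geo.le_norm Mon.fit_conj h)⟩

end Cfsg.Agent.SB.SporD.Fi
end
end
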